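import Cfsg.Agent.H705.ComSz
import Cfsg.Agent.H748.RoPSL
import Cfsg.Agent.SuzukiRankOne.PSUModel
import Cfsg.Agent.S2456

/-!
# `PSL₂(q)` (helper705)

`com_psl` : `Com p (PSL₂(q))` for `q > 3` and primes `p` not dividing `q`.
-/

set_option autoImplicit false
set_option linter.unusedSectionVars false

namespace Cfsg.Agent.H705.PSL

open Cfsg Cfsg.Agent.LieRecognition.RankOneAbstract Cfsg.Agent.H255 Cfsg.Agent.H255.RankOne Cfsg.Agent.H255.RankTools
open Cfsg.Agent.H748.RoPSL Cfsg.Agent.H705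
open scoped Pointwise

local notation "SL2" => Matrix.SpecialLinearGroup (Fin 2)
local notation "PSL2" => Matrix.ProjectiveSpecialLinearGroup (Fin 2)

variable {F : Type*} [Field F]

/-- the projection -/
def pr (F : Type*) [Field F] : SL2 F →* PSL2 F := QuotientGroup.mk' (Subgroup.center (SL2 F))

theorem pr_surj : Function.Surjective (pr F) := QuotientGroup.mk'_surjective _

theorem mem_center {g : SL2 F} : g ∈ Subgroup.center (SL2 F) ↔ g.1 0 1 = 0 ∧ g.1 1 0 = 0 ∧ g.1 0 0 = g.1 1 1 := by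
  constructor
  · intro hg
    have h1 := (Subgroup.mem_center_iff.1 hg) (up 1)
    have h2 := (Subgroup.mem_center_iff.1 hg) wl
    have e1 := congrArg (fun x : SL2 F => x.1 0 0) h1
    have e2 := congrArg (fun x : SL2 F => x.1 0 1) h1
    have e3 := congrArg (fun x : SL2 F => x.1 0 0) h2
    simp only [mul00, mul01, up00, up01, up10, up11, wl00, wl01, wl10] at e1 e2 e3
    have e4 : g.1 1 0 = 0 := by linear_combination e1
    have e5 : g.1 1 1 = g.1 0 0 := by linear_combination e2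
    have e6 : g.1 0 1 = 0 := by linear_combination e3 - e4
    exact ⟨e6, e4, e5.symm⟩
  · rintro ⟨h1, h2, h3⟩
    rw [Subgroup.mem_center_iff]
    intro x
    apply ext2
    · rw [mul00, mul00, h1, h2]; ring
    · rw [mul01, mul01, h1, h3]; ring
    · rw [mul10, mul10, h2, h3]; ring
    · rw [mul11, mul11, h1, h2]; ring

theorem mem_ker {g : SL2 F} : g ∈ (pr F).ker ↔ g.1 0 1 = 0 ∧ g.1 1 0 = 0 ∧ g.1 0 0 = g.1 1 1 := by
  rw [pr, QuotientGroup.ker_mk', mem_center]

theorem ker_le : (pr F).ker ≤ borel F := fun _ hg => (mem_ker.1 hg).2.1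

theorem pr_eq_one {g : SL2 F} : pr F g = 1 ↔ g.1 0 1 = 0 ∧ g.1 1 0 = 0 ∧ g.1 0 0 = g.1 1 1 := by
  rw [← MonoidHom.mem_ker, mem_ker]

theorem dataP (F : Type*) [Field F] : Data ((borel F).map (pr F)) ((unip F).map (pr F)) (pr F wl) :=
  SuzukiRankOne.PSUModel.data_map (data F) (pr F) pr_surj ker_le

theorem mem_two_iff {t : PSL2 F} (h1 : t ∈ (borel F).map (pr F)) (h2 : (pr F wl)⁻¹ * t * pr F wl ∈ (borel F).map (pr F)) :
    ∃ a : Fˣ, t = pr F (dg a) := by
  obtain ⟨g, rfl⟩ := pr_surj t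
  have h3 := SuzukiRankOne.PSUModel.mem_of_map_mem (pr F) ker_le h1
  have h4 : wl⁻¹ * g * wl ∈ borel F := by
    apply SuzukiRankOne.PSUModel.mem_of_map_mem (pr F) ker_le
    rw [map_mul, map_mul, map_inv]
    exact h2
  obtain ⟨a, rfl⟩ := two_iff.1 ⟨h3, h4⟩
  exact ⟨a, rfl⟩

theorem two_mem (a : Fˣ) : pr F (dg a) ∈ (borel F).map (pr F) ∧
    (pr F wl)⁻¹ * pr F (dg a) * pr F wl ∈ (borel F).map (pr F) := by
  obtain ⟨h1, h2⟩ := dg_mem_two a
  refine ⟨Subgroup.mem_map_of_mem _ h1, ?_⟩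
  rw [← map_inv, ← map_mul, ← map_mul]
  exact Subgroup.mem_map_of_mem _ h2

theorem pr_up_inj {x y : F} (h : pr F (up x) = pr F (up y)) : x = y := by
  have h1 : pr F (up (x - y)) = 1 := by
    rw [sub_eq_add_neg, ← up_add, map_mul, h, ← map_mul, up_add, add_neg_cancel, up_zero, map_one]
  exact sub_eq_zero.1 (pr_eq_one.1 h1).1

theorem regular {a : Fˣ} (ha : pr F (dg a) ≠ 1) {u : PSL2 F} (hu : u ∈ (unip F).map (pr F))
    (h : pr F (dg a) * u * (pr F (dg a))⁻¹ = u) : u = 1 := by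
  obtain ⟨_, ⟨x, rfl⟩, rfl⟩ := hu
  rw [← map_inv, ← map_mul, ← map_mul, conj_up (dg_mem_two a).1] at h
  have h1 := pr_up_inj h
  rw [dg00] at h1
  have hx : x = 0 := by
    by_contra hx
    apply ha
    rw [pr_eq_one]
    refine ⟨rfl, rfl, ?_⟩
    have h2 : (a : F) * a = 1 := mul_right_cancel₀ hx (by rw [h1, one_mul])
    show (a : F) = ((a⁻¹ : Fˣ) : F)
    rw [Units.val_inv_eq_inv_val]
    exact eq_inv_of_mul_eq_one_left h2
  rw [hx, up_zero, map_one]

/-- the torus as a homomorphism -/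
def tor (F : Type*) [Field F] : Fˣ →* PSL2 F where
  toFun a := pr F (dg a)
  map_one' := by
    rw [pr_eq_one]
    refine ⟨rfl, rfl, ?_⟩
    show ((1 : Fˣ) : F) = (((1 : Fˣ)⁻¹ : Fˣ) : F)
    rw [inv_one]
  map_mul' a b := by
    rw [← map_mul]
    congr 1
    apply ext2
    · rw [mul00, dg00, dg00, dg00, dg01]; simp
    · rw [mul01, dg01, dg01, dg01]; simp
    · rw [mul10, dg10, dg10, dg10]; simp
    · rw [mul11, dg11, dg11, dg11, dg10]
      rw [mul_inv, Units.val_mul, mul_comm]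
      ring

theorem tor_eq_one {a : Fˣ} : tor F a = 1 ↔ a ^ 2 = 1 := by
  show pr F (dg a) = 1 ↔ _
  rw [pr_eq_one]
  constructor
  · rintro ⟨-, -, h⟩
    have h1 : a = a⁻¹ := Units.ext h
    rw [sq]
    nth_rw 1 [h1]
    rw [inv_mul_cancel]
  · intro h
    have h1 : a = a⁻¹ := eq_inv_of_mul_eq_one_left (by rw [← sq, h])
    exact ⟨rfl, rfl, congrArg (fun x : Fˣ => (x : F)) h1⟩

variable [Finite F] {r : ℕ} [hr : Fact r.Prime] [CharP F r]

theorem card_unipP : Nat.card ((unip F).map (pr F)) = Nat.card F := by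
  symm
  refine Nat.card_congr (Equiv.ofBijective (fun x : F => (⟨pr F (up x), Subgroup.mem_map_of_mem _ ⟨x, rfl⟩⟩ :
    (unip F).map (pr F))) ⟨fun x y h => pr_up_inj (congrArg Subtype.val h), ?_⟩)
  rintro ⟨_, _, ⟨x, rfl⟩, rfl⟩
  exact ⟨x, rfl⟩

theorem exists_card (F : Type*) [Field F] [Finite F] (r : ℕ) [hr : Fact r.Prime] [CharP F r] :
    ∃ n : ℕ, 0 < n ∧ Nat.card F = r ^ n := by
  letI : Fintype F := Fintype.ofFinite F
  obtain ⟨n, -, hn⟩ := FiniteField.card F r
  exact ⟨n, n.pos, by rw [Nat.card_eq_fintype_card, hn]⟩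

theorem unipP_ne : (unip F).map (pr F) ≠ ⊥ := by
  intro h
  have h1 := card_unipP (F := F)
  rw [h, Subgroup.card_bot] at h1
  exact (Finite.one_lt_card (α := F)).ne h1

theorem exists_sylP : ∃ P : Sylow r (PSL2 F), (P : Subgroup (PSL2 F)) = (unip F).map (pr F) := by
  obtain ⟨n, hn, hF⟩ := exists_card F r
  refine exists_syl (dataP F) hr.out (IsPGroup.of_card (n := n) (by rw [card_unipP, hF])) unipP_ne ?_
  intro h
  obtain ⟨⟨t, ht⟩, htt⟩ := exists_prime_orderOf_dvd_card' r h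
  obtain ⟨a, rfl⟩ := mem_two_iff ht.1 ht.2
  have h1 : orderOf (tor F a) ∣ orderOf a := orderOf_map_dvd (tor F) a
  have h2 : orderOf (tor F a) = r := by
    have h3 := Subgroup.orderOf_coe (⟨pr F (dg a), ht⟩ : two ((borel F).map (pr F)) (pr F wl))
    rw [htt] at h3
    exact h3
  rw [h2] at h1
  have h3 : orderOf a ∣ Nat.card Fˣ := orderOf_dvd_natCard a
  have h4 := h1.trans h3
  rw [Nat.card_units, hF] at h4
  have h5 : r ∣ r ^ n := dvd_pow_self r hn.ne'
  have h6 : 0 < r ^ n := pow_pos hr.out.pos n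
  have h7 : r ∣ 1 := by
    have := Nat.dvd_sub h5 h4
    have h8 : r ^ n - (r ^ n - 1) = 1 := by omega
    rwa [h8] at this
  exact hr.out.one_lt.ne' (Nat.dvd_one.1 h7)

/-- a nontrivial vector is the first column of a matrix of determinant one -/
theorem exists_col {x y : F} (h : x ≠ 0 ∨ y ≠ 0) : ∃ g : SL2 F, g.1 0 0 = x ∧ g.1 1 0 = y := by
  by_cases hx : x = 0
  · have hy : y ≠ 0 := by
      rcases h with h | h
      · exact absurd hx h
      · exact h
    refine ⟨⟨!![x, -y⁻¹; y, 0], ?_⟩, rfl, rfl⟩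
    rw [Matrix.det_fin_two]
    show x * 0 - (-y⁻¹) * y = 1
    field_simp
    ring
  · refine ⟨⟨!![x, 0; y, x⁻¹], ?_⟩, rfl, rfl⟩
    rw [Matrix.det_fin_two]
    show x * x⁻¹ - 0 * y = 1
    field_simp
    ring

/-- a matrix with an eigenvalue is conjugate to a triangular matrix -/
theorem exists_conj (g : SL2 F) {z : F} (hz : z ^ 2 - Matrix.trace g.1 * z + 1 = 0) : ∃ c : SL2 F, c⁻¹ * g * c ∈ borel F := by
  rw [Matrix.trace_fin_two] at hz
  have hd := det2 g
  obtain ⟨x, y, hxy, h1, h2⟩ : ∃ x y : F, (x ≠ 0 ∨ y ≠ 0) ∧ g.1 0 0 * x + g.1 0 1 * y = z * x ∧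
      g.1 1 0 * x + g.1 1 1 * y = z * y := by
    by_cases hb : g.1 0 1 = 0 ∧ g.1 0 0 = z
    · by_cases hc : g.1 1 0 = 0 ∧ g.1 1 1 = z
      · exact ⟨1, 0, Or.inl one_ne_zero, by rw [hb.1, hb.2]; ring, by rw [hc.1, hc.2]; ring⟩
      · refine ⟨z - g.1 1 1, g.1 1 0, ?_, ?_, ?_⟩
        · by_cases h : g.1 1 0 = 0
          · left
            intro h'
            exact hc ⟨h, (sub_eq_zero.1 h').symm⟩
          · exact Or.inr h
        · rw [hb.1, hb.2]; ring
        · ring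
    · refine ⟨g.1 0 1, z - g.1 0 0, ?_, ?_, ?_⟩
      · by_cases h : g.1 0 1 = 0
        · right
          intro h'
          exact hb ⟨h, (sub_eq_zero.1 h').symm⟩
        · exact Or.inl h
      · ring
      · linear_combination (-1 : F) * hz - hd
  obtain ⟨c, hc1, hc2⟩ := exists_col hxy
  refine ⟨c, ?_⟩
  rw [mem_borel, mul10, mul10, mul11, inv10, inv11, hc1, hc2]
  linear_combination x * h2 - y * h1

theorem mem_ker_of_sq (h2 : (2 : F) ≠ 0) {g : SL2 F} (hg : g * g = 1) : pr F g = 1 := by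
  have hd := det2 g
  have e00 : g.1 0 0 * g.1 0 0 + g.1 0 1 * g.1 1 0 = 1 := by
    rw [← mul00, hg]; rfl
  have e01 : g.1 0 0 * g.1 0 1 + g.1 0 1 * g.1 1 1 = 0 := by
    rw [← mul01, hg]; rfl
  have e10 : g.1 1 0 * g.1 0 0 + g.1 1 1 * g.1 1 0 = 0 := by
    rw [← mul10, hg]; rfl
  have htr : g.1 0 0 + g.1 1 1 ≠ 0 := by
    intro h
    apply h2
    linear_combination g.1 0 0 * h - e00 - hd
  have h01 : g.1 0 1 = 0 := by
    have : g.1 0 1 * (g.1 0 0 + g.1 1 1) = 0 := by linear_combination e01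
    exact (mul_eq_zero.1 this).resolve_right htr
  have h10 : g.1 1 0 = 0 := by
    have : g.1 1 0 * (g.1 0 0 + g.1 1 1) = 0 := by linear_combination e10
    exact (mul_eq_zero.1 this).resolve_right htr
  rw [pr_eq_one]
  refine ⟨h01, h10, ?_⟩
  have h3 : g.1 0 0 ≠ 0 := by
    intro h
    rw [h, h01] at e00
    simp at e00
  apply mul_left_cancel₀ h3
  linear_combination e00 - hd - 2 * g.1 1 0 * h01

/-- elements of even order have an eigenvalue if `(q + 1) / 2` is odd -/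
theorem exists_eigen (h2 : (2 : F) ≠ 0) {m : ℕ} (hm : Nat.card F + 1 = 2 * m) (hmo : Odd m) {g : SL2 F}
    (hg : 2 ∣ orderOf (pr F g)) : ∃ z : F, z ^ 2 - Matrix.trace g.1 * z + 1 = 0 := by
  letI : Fintype F := Fintype.ofFinite F
  by_contra hcon
  push Not at hcon
  have h1 := Cfsg.Agent.S2456.pow_eq_one g hcon
  rw [← Nat.card_eq_fintype_card, hm, two_mul, pow_add] at h1
  have h3 := mem_ker_of_sq h2 h1
  rw [map_pow] at h3
  have h4 := orderOf_dvd_of_pow_eq_one h3
  have h5 := hg.trans h4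
  exact (Nat.not_even_iff_odd.2 hmo) (even_iff_two_dvd.2 h5)

/-- **`PSL₂(q)`.** -/
theorem com_psl (hq : 3 < Nat.card F) [hs : IsSimpleGroup (PSL2 F)] (hsol : ¬ Group.IsSolvable (PSL2 F)) {p : ℕ}
    (hp : p.Prime) (hpr : p ≠ r) : Com p (PSL2 F) := by
  classical
  obtain ⟨P₀, hP₀⟩ := exists_sylP (F := F) (r := r)
  obtain ⟨k₀, hk₀⟩ := IsCyclic.exists_generator (α := Fˣ)
  have hk₀o : orderOf k₀ = Nat.card F - 1 := by
    rw [orderOf_eq_card_of_forall_mem_zpowers hk₀, Nat.card_units]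
  obtain ⟨e, he, hF⟩ := exists_card F r
  set n := orderOf (tor F k₀) with hn
  have hn2 : n * Nat.gcd (Nat.card F - 1) 2 = Nat.card F - 1 := by
    have h1 : n ∣ Nat.card F - 1 := by rw [← hk₀o]; exact orderOf_map_dvd _ _
    have h3 : ∀ j, n ∣ j ↔ Nat.card F - 1 ∣ j * 2 := by
      intro j
      rw [hn, orderOf_dvd_iff_pow_eq_one, ← map_pow, tor_eq_one, ← pow_mul, ← orderOf_dvd_iff_pow_eq_one, hk₀o]
    set N := Nat.card F - 1 with hN
    have hN0 : N ≠ 0 := by omega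
    rcases Nat.even_or_odd N with hev | hodd
    · have h4 : Nat.gcd N 2 = 2 := Nat.gcd_eq_right (even_iff_two_dvd.1 hev)
      rw [h4]
      obtain ⟨l, hl⟩ := hev
      have h5 : n ∣ l := (h3 l).2 (by rw [hl]; exact dvd_of_eq (by ring))
      have h6 : N ∣ n * 2 := (h3 n).1 dvd_rfl
      have h7 : l ∣ n := by
        rw [hl, ← mul_two] at h6
        exact Nat.dvd_of_mul_dvd_mul_right (by norm_num) h6
      rw [Nat.dvd_antisymm h5 h7, hl]
      ring
    · have h4 : Nat.gcd N 2 = 1 := Nat.Coprime.gcd_eq_one (Nat.coprime_two_right.2 hodd)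
      rw [h4, mul_one]
      have h6 : N ∣ n * 2 := (h3 n).1 dvd_rfl
      exact Nat.dvd_antisymm h1 ((Nat.coprime_two_right.2 hodd).dvd_of_dvd_mul_right h6)
  have hn1 : 1 < n := by
    have h1 : Nat.gcd (Nat.card F - 1) 2 ≤ 2 := Nat.gcd_le_right _ (by norm_num)
    have h3 : n ≠ 0 := (orderOf_pos _).ne'
    by_contra h4
    have h5 : n = 1 := by omega
    rw [h5, one_mul] at hn2
    omega
  have hgen : ∀ t ∈ (borel F).map (pr F), (pr F wl)⁻¹ * t * pr F wl ∈ (borel F).map (pr F) →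
      t ∈ Subgroup.zpowers (tor F k₀) := by
    intro t h1 h3
    obtain ⟨a, rfl⟩ := mem_two_iff h1 h3
    obtain ⟨j, rfl⟩ := Subgroup.mem_zpowers_iff.1 (hk₀ a)
    exact Subgroup.mem_zpowers_iff.2 ⟨j, (map_zpow (tor F) k₀ j).symm⟩
  by_cases hcase : p = 2 ∧ ∃ i, n = 2 ^ i
  · -- `p = 2`, `(q - 1) / 2` a power of two
    obtain ⟨rfl, i, hi⟩ := hcase
    have h2F : (2 : F) ≠ 0 := by
      intro h
      apply hpr
      have h1 : ((2 : ℕ) : F) = 0 := by exact_mod_cast h
      rw [CharP.cast_eq_zero_iff F r] at h1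
      exact ((Nat.prime_dvd_prime_iff_eq hr.out Nat.prime_two).1 h1).symm
    have hi0 : i ≠ 0 := by
      rintro rfl
      rw [pow_zero] at hi
      omega
    have hrodd : Odd r := by
      rcases hr.out.eq_two_or_odd' with h | h
      · exact absurd h.symm hpr
      · exact h
    have hqodd : Odd (Nat.card F) := by rw [hF]; exact hrodd.pow
    have hg2 : Nat.gcd (Nat.card F - 1) 2 = 2 := Nat.gcd_eq_right (even_iff_two_dvd.1 (Nat.Odd.sub_odd hqodd odd_one))
    rw [hg2] at hn2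
    obtain ⟨l, hl⟩ : 2 ∣ n := by rw [hi]; exact dvd_pow_self 2 hi0
    have hm : Nat.card F + 1 = 2 * (2 * l + 1) := by omega
    have hmo : Odd (2 * l + 1) := ⟨l, rfl⟩
    have hU := unipP_ne (F := F)
    have hab : ∀ s ∈ (borel F).map (pr F), ∀ t ∈ (borel F).map (pr F),
        (pr F wl)⁻¹ * s * pr F wl ∈ (borel F).map (pr F) → (pr F wl)⁻¹ * t * pr F wl ∈ (borel F).map (pr F) →
        s * t = t * s := by
      intro s hs t ht hsw htw
      obtain ⟨i, rfl⟩ := Subgroup.mem_zpowers_iff.1 (hgen s hs hsw)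
      obtain ⟨j, rfl⟩ := Subgroup.mem_zpowers_iff.1 (hgen t ht htw)
      rw [← zpow_add, ← zpow_add, add_comm]
    have hne1 : tor F k₀ ≠ 1 := by
      intro h
      rw [hn, h, orderOf_one] at hn1
      exact lt_irrefl _ hn1
    refine com_of_data (dataP F) P₀ hP₀ hU hsol hp hpr hab
      ⟨tor F k₀, (two_mem k₀).1, (two_mem k₀).2, fun u hu h => regular hne1 hu h⟩ (Or.inr ?_)
    intro g hg
    obtain ⟨A, rfl⟩ := pr_surj g
    obtain ⟨z, hz⟩ := exists_eigen h2F hm hmo hg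
    obtain ⟨c, hc⟩ := exists_conj A hz
    set O := oneSyl (dataP F) P₀ hP₀ hU with hO
    have hx : (pr F A) • (pr F c) • P₀ = (pr F c) • P₀ := by
      rw [← inv_smul_eq_iff (g := pr F c), ← mul_smul, ← mul_smul, smul_eq_iff (dataP F) P₀ hP₀ hU]
      rw [← map_inv, ← map_mul, ← map_mul]
      exact Subgroup.mem_map_of_mem _ hc
    obtain ⟨k, hk⟩ := hg
    have hd : (pr F A ^ k) ^ 2 ^ 1 = 1 := by
      rw [pow_one, ← pow_mul, mul_comm, ← hk, pow_orderOf_eq_one]
    have hd1 : pr F A ^ k ≠ 1 := by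
      intro h
      have h1 := orderOf_dvd_of_pow_eq_one h
      have hk0 : k ≠ 0 := by
        rintro rfl
        rw [mul_zero] at hk
        exact (orderOf_pos (pr F A)).ne' hk
      have h3 := Nat.le_of_dvd (Nat.pos_of_ne_zero hk0) h1
      omega
    have hxk : (pr F A ^ k) • (pr F c) • P₀ = (pr F c) • P₀ :=
      MulAction.mem_stabilizer_iff.1 (pow_mem (MulAction.mem_stabilizer_iff.2 hx) k)
    obtain ⟨y, hyx, hy⟩ := O.exists_second hr.out Nat.prime_two hpr hd hxk
    refine ⟨pr F c • P₀, y, hyx.symm, hx, ?_⟩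
    obtain ⟨b, hb, hb'⟩ := O.trans_two (w_smul_ne (dataP F) P₀ hP₀ hU).symm hyx.symm
    -- the fixed points of the involution
    have hfix : ∀ v, (pr F A ^ k) • v = v → v = (pr F c) • P₀ ∨ v = y := by
      intro v hv
      have h1 : b⁻¹ * pr F A ^ k * b ∈ O.st2 P₀ (pr F wl • P₀) := by
        refine O.mem_st2.2 ⟨?_, ?_⟩
        · rw [mul_smul, mul_smul, hb, hxk, ← hb, inv_smul_smul]
        · rw [mul_smul, mul_smul, hb', hy, ← hb', inv_smul_smul]
      obtain ⟨h3, h4⟩ := (mem_st2_iff (dataP F) P₀ hP₀ hU).1 h1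
      obtain ⟨a, ha⟩ := mem_two_iff h3 h4
      have h5 : pr F (dg a) ≠ 1 := by
        rw [← ha]
        intro h
        apply hd1
        have h6 : pr F A ^ k = b * (b⁻¹ * pr F A ^ k * b) * b⁻¹ := by group
        rw [h6, h, mul_one, mul_inv_cancel]
      have h6 := (fix_iff (dataP F) P₀ hP₀ hU (two_mem a).1 (two_mem a).2 (fun u hu h => regular h5 hu h) (b⁻¹ • v)).1
        (by rw [← ha, mul_smul, mul_smul, smul_inv_smul, hv])
      rcases h6 with h6 | h6
      · left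
        rw [inv_smul_eq_iff] at h6
        rw [h6, hb]
      · right
        rw [inv_smul_eq_iff] at h6
        rw [h6, hb']
    have h1 : (pr F A ^ k) • (pr F A) • y = (pr F A) • y := by
      rw [← mul_smul, ← pow_succ, pow_succ', mul_smul, hy]
    rcases hfix _ h1 with h3 | h3
    · exact absurd (MulAction.injective (pr F A) (h3.trans hx.symm)) hyx
    · exact h3
  · refine com_of_cyclic (dataP F) P₀ hP₀ unipP_ne hsol hp hpr (two_mem k₀).1 (two_mem k₀).2 hgen
      (m := 1) (n := n) (by rw [one_mul]; rfl) hn1 ?_ ?_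
    · intro t ht htw ht1 u hu h
      obtain ⟨a, rfl⟩ := mem_two_iff ht htw
      rw [pow_one] at ht1
      exact regular ht1 hu h
    · intro i hi
      have hi0 : i ≠ 0 := by
        rintro rfl
        rw [pow_zero] at hi
        omega
      have hp2 : p ≠ 2 := by
        rintro rfl
        exact hcase ⟨rfl, i, hi⟩
      refine ⟨hp2, fun h => hp.one_lt.ne' (Nat.dvd_one.1 h), ?_⟩
      rw [card_unipP]
      intro h
      apply hp2
      refine two_of_dvd (n := Nat.card F - 1) (j := 1) hp ?_ ?_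
      · rw [← hn2]
        exact Dvd.dvd.mul_right (by rw [hi]; exact dvd_pow_self p hi0) _
      · have : Nat.card F - 1 + 1 = Nat.card F := by omega
        rw [this, pow_one]
        exact h

end Cfsg.Agent.H705.PSL
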