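import Cfsg.Agent.H705.ComSz
import Cfsg.Agent.H212.U3.Model

/-!
# `PSU₃(q)` (helper705)

`com_psu_gen` : `Com p (PSU₃(q))` for `q > 2` and primes `p` not dividing `q`, unless `p = 2` and `q - 1` is a power of two.
-/

set_option autoImplicit false
set_option linter.unusedSectionVars false

namespace Cfsg.Agent.H705.PSU

open Cfsg Cfsg.Agent.LieRecognition.RankOneAbstract Cfsg.Agent.H255 Cfsg.Agent.H255.RankOne Cfsg.Agent.H255.RankTools
open Cfsg.Agent.UThreeGen.MatGroup Cfsg.Agent.H705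
open Cfsg.Agent.HKS.EndU (tor tmat tor_val tor_mem act tor_emb ci wel_tor exists_tor tor_mem_center sne tor_conj)
open scoped Pointwise

variable {F : Type*} [Field F] [Fintype F] {q : ℕ} {σ : F →+* F} [hσ : Fact (∀ x, σ (σ x) = x)]
  {M : Type*} [Group M] {π : SUG σ →* M}

/-- the situation: `M` is the quotient of `SU₃(q)` by its centre -/
structure Mod (q : ℕ) (π : SUG σ →* M) : Prop where
  card : Fintype.card F = q ^ 2
  pow : ∀ x, σ x = x ^ q
  surj : Function.Surjective π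
  ker : ∀ g, π g = 1 ↔ g ∈ Subgroup.center (SUG σ)

variable (E : Mod q π)

include E

theorem Mod.exists_ne : ∃ x : HG σ, x.a ≠ 0 := by
  obtain ⟨x, hx⟩ := H212.U3.Model.exists_a E.card E.pow (σ := σ) 1
  exact ⟨x, by rw [hx]; exact one_ne_zero⟩

theorem Mod.ker_le : π.ker ≤ borel σ := by
  intro g hg
  exact center_le_borel E.exists_ne ((E.ker g).1 hg)

theorem Mod.data : Data ((borel σ).map π) ((emb σ).range.map π) (π (wel σ)) :=
  UThreeGen.DataIso.data_map data_SUG π E.surj E.ker_le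

theorem Mod.mem_of_map {g : SUG σ} (h : π g ∈ (borel σ).map π) : g ∈ borel σ :=
  UThreeGen.DataIso.mem_of_map_mem π E.ker_le h

theorem Mod.mem_two_iff {t : M} (h1 : t ∈ (borel σ).map π) (h2 : (π (wel σ))⁻¹ * t * π (wel σ) ∈ (borel σ).map π) :
    ∃ l : Fˣ, t = π (tor σ l) := by
  obtain ⟨g, rfl⟩ := E.surj t
  have h3 := E.mem_of_map h1
  have h4 : (wel σ)⁻¹ * g * wel σ ∈ borel σ := by
    apply E.mem_of_map
    rw [map_mul, map_mul, map_inv]
    exact h2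
  obtain ⟨l, rfl⟩ := exists_tor h3 h4
  exact ⟨l, rfl⟩

omit E in
theorem two_mem (l : Fˣ) : π (tor σ l) ∈ (borel σ).map π ∧
    (π (wel σ))⁻¹ * π (tor σ l) * π (wel σ) ∈ (borel σ).map π := by
  refine ⟨Subgroup.mem_map_of_mem _ (tor_mem l), ?_⟩
  rw [← map_inv, ← map_mul, ← map_mul, wel_inv, wel_tor]
  exact Subgroup.mem_map_of_mem _ (tor_mem _)

theorem Mod.emb_inj {x y : HG σ} (h : π (emb σ x) = π (emb σ y)) : x = y := by
  have h1 : π (emb σ (x * y⁻¹)) = 1 := by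
    rw [map_mul, map_mul, map_inv, map_inv, h, mul_inv_cancel]
  exact mul_inv_eq_one.1 (eq_one_of_mem_center ((E.ker _).1 h1))

theorem Mod.card_unip : Nat.card ((emb σ).range.map π) = q ^ 3 := by
  rw [← H212.U3.Model.card_HG E.card E.pow]
  symm
  refine Nat.card_congr (Equiv.ofBijective (fun x : HG σ => (⟨π (emb σ x), Subgroup.mem_map_of_mem _ ⟨x, rfl⟩⟩ :
    (emb σ).range.map π)) ⟨fun x y h => E.emb_inj (congrArg Subtype.val h), ?_⟩)
  rintro ⟨_, _, ⟨x, rfl⟩, rfl⟩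
  exact ⟨x, rfl⟩

/-- elements of the torus with `l * σ l ≠ 1` are regular -/
theorem Mod.regular {l : Fˣ} (hl : (l : F) * σ (l : F) ≠ 1) {u : M} (hu : u ∈ (emb σ).range.map π)
    (h : π (tor σ l) * u * (π (tor σ l))⁻¹ = u) : u = 1 := by
  obtain ⟨_, ⟨x, rfl⟩, rfl⟩ := hu
  rw [tor_conj] at h
  have h1 := congrArg HG.b (E.emb_inj h)
  have h2 : (l : F) * σ (l : F) * x.b = x.b := h1
  by_contra hne
  have hx : x ≠ 1 := by
    rintro rfl
    exact hne (by rw [map_one, map_one])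
  have hb := b_ne_zero hx
  exact hl (mul_right_cancel₀ hb (by rw [h2, one_mul]))

/-- the torus as a homomorphism -/
theorem Mod.ker_tor {l : Fˣ} (h : π (tor σ l) = 1) : l ^ (q + 1) = 1 := by
  obtain ⟨x, hx⟩ := E.exists_ne
  have h1 : π (tor σ l) * π (emb σ x) * (π (tor σ l))⁻¹ = π (emb σ x) := by rw [h]; simp
  by_contra hl
  have h2 : (l : F) * σ (l : F) ≠ 1 := by
    intro h3
    apply hl
    apply Units.ext
    rw [Units.val_pow_eq_pow_val, Units.val_one, pow_succ', ← E.pow, h3]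
  have h3 := E.regular h2 (Subgroup.mem_map_of_mem _ ⟨x, rfl⟩) h1
  rw [← map_one π, ← map_one (emb σ)] at h3
  have h4 := E.emb_inj h3
  rw [h4] at hx
  exact hx one_a

variable {r : ℕ} [hr : Fact r.Prime] [CharP F r]

theorem Mod.exists_pow (hq : 1 < q) : ∃ n : ℕ, 0 < n ∧ q = r ^ n := by
  obtain ⟨n, -, hn⟩ := FiniteField.card F r
  rw [E.card] at hn
  have h1 : q ∣ r ^ (n : ℕ) := by rw [← hn]; exact dvd_pow_self q (by norm_num)
  obtain ⟨k, -, hk⟩ := (Nat.dvd_prime_pow hr.out).1 h1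
  refine ⟨k, Nat.pos_of_ne_zero ?_, hk⟩
  rintro rfl
  rw [pow_zero] at hk
  omega

theorem Mod.unip_ne (hq : 1 < q) : (emb σ).range.map π ≠ ⊥ := by
  intro h
  have h1 := E.card_unip
  rw [h, Subgroup.card_bot] at h1
  exact (Nat.one_lt_pow (n := 3) (by norm_num) hq).ne h1

omit [CharP F r] in
theorem Mod.exists_syl [CharP F r] [Finite M] (hq : 1 < q) : ∃ P : Sylow r M, (P : Subgroup M) = (emb σ).range.map π := by
  obtain ⟨n, hn, hF⟩ := E.exists_pow (r := r) hq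
  refine H255.RankTools.exists_syl E.data hr.out (IsPGroup.of_card (n := n * 3) (by rw [E.card_unip, hF, pow_mul]))
    (E.unip_ne hq) ?_
  intro h
  obtain ⟨⟨t, ht⟩, htt⟩ := exists_prime_orderOf_dvd_card' r h
  obtain ⟨l, rfl⟩ := E.mem_two_iff ht.1 ht.2
  have h1 : orderOf ((π.comp (tor σ)) l) ∣ orderOf l := orderOf_map_dvd _ l
  have h2 : orderOf ((π.comp (tor σ)) l) = r := by
    have h3 := Subgroup.orderOf_coe (⟨π (tor σ l), ht⟩ : two ((borel σ).map π) (π (wel σ)))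
    rw [htt] at h3
    exact h3
  rw [h2] at h1
  have h4 := h1.trans (orderOf_dvd_natCard l)
  rw [Nat.card_units, Nat.card_eq_fintype_card, E.card, hF] at h4
  have h5 : r ∣ (r ^ n) ^ 2 := dvd_pow (dvd_pow_self r hn.ne') (by norm_num)
  have h6 : 0 < (r ^ n) ^ 2 := pow_pos (pow_pos hr.out.pos n) 2
  have h7 : r ∣ 1 := by
    have := Nat.dvd_sub h5 h4
    have h8 : (r ^ n) ^ 2 - ((r ^ n) ^ 2 - 1) = 1 := by omega
    rwa [h8] at this
  exact hr.out.one_lt.ne' (Nat.dvd_one.1 h7)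

theorem Mod.exists_generator (hq : 1 < q) : ∃ l₀ : Fˣ, (∀ l : Fˣ, l ∈ Subgroup.zpowers l₀) ∧
    orderOf l₀ = (q - 1) * (q + 1) ∧ ∃ m, orderOf (π (tor σ l₀)) = m * (q - 1) ∧ m ∣ q + 1 := by
  obtain ⟨l₀, hl₀⟩ := IsCyclic.exists_generator (α := Fˣ)
  have hord : orderOf l₀ = (q - 1) * (q + 1) := by
    rw [orderOf_eq_card_of_forall_mem_zpowers hl₀, Nat.card_units, Nat.card_eq_fintype_card, E.card]
    obtain ⟨k, rfl⟩ : ∃ k, q = k + 1 := ⟨q - 1, by omega⟩
    simp only [Nat.add_sub_cancel]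
    ring_nf
    omega
  refine ⟨l₀, hl₀, hord, ?_⟩
  have h1 : π (tor σ (l₀ ^ orderOf (π (tor σ l₀)))) = 1 := by
    rw [map_pow, map_pow, pow_orderOf_eq_one]
  have h2 := E.ker_tor h1
  rw [← pow_mul] at h2
  have h3 := orderOf_dvd_of_pow_eq_one h2
  rw [hord] at h3
  obtain ⟨m, hm⟩ := Nat.dvd_of_mul_dvd_mul_right (by omega) h3
  refine ⟨m, by rw [hm, mul_comm], ?_⟩
  have h4 : orderOf (π (tor σ l₀)) ∣ orderOf l₀ := orderOf_map_dvd (π.comp (tor σ)) l₀
  rw [hm, hord] at h4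
  exact Nat.dvd_of_mul_dvd_mul_left (by omega) h4

/-- **`PSU₃(q)`**, the generic case. -/
theorem Mod.com_gen [Finite M] (hq : 2 < q) [hs : IsSimpleGroup M] (hsol : ¬ Group.IsSolvable M) {p : ℕ}
    (hp : p.Prime) (hpr : p ≠ r) (hcase : ¬ (p = 2 ∧ ∃ i, q - 1 = 2 ^ i)) : Com p M := by
  obtain ⟨P₀, hP₀⟩ := E.exists_syl (r := r) (by omega)
  obtain ⟨l₀, hl₀, hord, m, hm, hmq⟩ := E.exists_generator (by omega)
  refine com_of_cyclic E.data P₀ hP₀ (E.unip_ne (by omega)) hsol hp hpr (two_mem l₀).1 (two_mem l₀).2 ?_ hm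
    (by omega) ?_ ?_
  · intro t ht htw
    obtain ⟨l, rfl⟩ := E.mem_two_iff ht htw
    obtain ⟨j, rfl⟩ := Subgroup.mem_zpowers_iff.1 (hl₀ l)
    exact Subgroup.mem_zpowers_iff.2 ⟨j, (map_zpow (π.comp (tor σ)) l₀ j).symm⟩
  · intro t ht htw htm u hu hfix
    obtain ⟨l, rfl⟩ := E.mem_two_iff ht htw
    refine E.regular ?_ hu hfix
    intro h
    apply htm
    obtain ⟨j, hj⟩ := (Submonoid.mem_powers_iff _ _).1 ((mem_powers_iff_mem_zpowers).2 (hl₀ l))
    have h1 : l ^ (q + 1) = 1 := by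
      apply Units.ext
      rw [Units.val_pow_eq_pow_val, Units.val_one, pow_succ', ← E.pow, h]
    rw [← hj, ← pow_mul] at h1
    have h2 := orderOf_dvd_of_pow_eq_one h1
    rw [hord] at h2
    obtain ⟨k, hk⟩ := Nat.dvd_of_mul_dvd_mul_right (by omega) h2
    rw [← hj, map_pow, map_pow, ← pow_mul, hk]
    have h3 : (q - 1) * k * m = m * (q - 1) * k := by ring
    rw [h3, ← hm, pow_mul, pow_orderOf_eq_one, one_pow]
  · intro i hi
    have hi0 : i ≠ 0 := by
      rintro rfl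
      rw [pow_zero] at hi
      omega
    have hp2 : p ≠ 2 := by
      rintro rfl
      exact hcase ⟨rfl, i, hi⟩
    have hpq : p ∣ q - 1 := by rw [hi]; exact dvd_pow_self p hi0
    refine ⟨hp2, ?_, ?_⟩
    · intro h
      have h1 := Nat.dvd_sub (h.trans hmq) hpq
      have h2 : q + 1 - (q - 1) = 2 := by omega
      rw [h2] at h1
      exact hp2 ((Nat.prime_dvd_prime_iff_eq hp Nat.prime_two).1 h1)
    · rw [E.card_unip]
      intro h
      apply hp2
      refine two_of_dvd (n := q - 1) (j := 3) hp hpq ?_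
      have h1 : q - 1 + 1 = q := by omega
      rw [h1]
      exact h

omit E in
/-- `PSU₃(q)` has a model. -/
theorem exists_mod (F : Type*) [Field F] [Fintype F] {q : ℕ} (hF : Fintype.card F = q ^ 2) (hq : 1 < q) :
    ∃ (σ : F →+* F) (_ : Fact (∀ x, σ (σ x) = x)) (π : SUG σ →* Cfsg.PSU 3 F q), Mod q π := by
  obtain ⟨σ, hs, hσ⟩ : ∃ σ : F →+* F, (∀ x, σ x = x ^ q) ∧ ∀ x, σ (σ x) = x := by
    obtain ⟨n, hp, hn⟩ := FiniteField.card F (ringChar F)
    have : Fact (ringChar F).Prime := ⟨hp⟩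
    have h1 : q ∣ (ringChar F) ^ (n : ℕ) := by rw [← hn, hF]; exact dvd_pow_self q (by norm_num)
    obtain ⟨k, -, hk⟩ := (Nat.dvd_prime_pow hp).1 h1
    refine ⟨iterateFrobenius F (ringChar F) k, fun x => by rw [iterateFrobenius_def, hk], fun x => ?_⟩
    rw [iterateFrobenius_def, iterateFrobenius_def, ← hk, ← pow_mul, ← sq, ← hF, FiniteField.pow_card]
  have hσ' : Fact (∀ x, σ (σ x) = x) := ⟨hσ⟩
  obtain ⟨π, h1, h2⟩ := H212.U3.Model.exists_pi (σ := σ) hq hs (by rw [Nat.card_eq_fintype_card, hF])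
  exact ⟨σ, hσ', π, ⟨hF, hs, h1, h2⟩⟩

end Cfsg.Agent.H705.PSU
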