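import Cfsg.Agent.H705.ComTorus
import Cfsg.Agent.H255.RoSz

/-!
# Suzuki groups (helper705)

`com_suzuki` : `Com p S` for the Suzuki groups and odd primes `p`.
-/

set_option autoImplicit false
set_option linter.unusedSectionVars false

namespace Cfsg.Agent.H705

open Cfsg Cfsg.Agent.LieRecognition.RankOneAbstract Cfsg.Agent.H255.RankOne
open Cfsg.Agent.LieRecognition.SzMatrix Cfsg.Agent.SuzukiRankOne

/-- `n = p ^ i`, `n > 1` and `p` divides `(n + 1) ^ j + 1`: `p = 2` -/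
theorem two_of_dvd {p n j : ℕ} (hp : p.Prime) (hn : p ∣ n) (h : p ∣ (n + 1) ^ j + 1) : p = 2 := by
  have h1 : (n + 1) ^ j ≡ 1 ^ j [MOD p] := Nat.ModEq.pow j (by
    have : n ≡ 0 [MOD p] := (Nat.modEq_zero_iff_dvd).2 hn
    simpa using this.add_right 1)
  rw [one_pow] at h1
  have h2 : (n + 1) ^ j + 1 ≡ 1 + 1 [MOD p] := h1.add_right 1
  have h3 : p ∣ 2 := (Nat.modEq_zero_iff_dvd).1 (h2.symm.trans ((Nat.modEq_zero_iff_dvd).2 h))
  exact (Nat.prime_dvd_prime_iff_eq hp Nat.prime_two).1 h3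

theorem com_sz {F : Type} [Field F] [Finite F] {θ : F →+* F} {e : ℕ} (H : Good F θ e) (h2 : 2 < Nat.card F)
    [hs : IsSimpleGroup ↥(Cfsg.Lie.Sz F e)] (hsol : ¬ Group.IsSolvable ↥(Cfsg.Lie.Sz F e)) {p : ℕ} (hp : p.Prime)
    (hp2 : p ≠ 2) : Com p ↥(Cfsg.Lie.Sz F e) := by
  classical
  have : Fact (Nat.Prime 2) := ⟨Nat.prime_two⟩
  have R := H255.RoSz.ro H
  obtain ⟨P₀, hP₀⟩ := R.syl
  have hU : H.unip ≠ ⊥ := by
    intro h
    have h1 : H.u 1 0 ∈ H.unip := H.u_mem_unip _ _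
    rw [h, Subgroup.mem_bot, ← H.u_zero] at h1
    exact one_ne_zero (H.u_inj h1).1
  obtain ⟨k₀, hk₀⟩ := IsCyclic.exists_generator (α := Fˣ)
  have hord : orderOf (H.d k₀) = 1 * (Nat.card F - 1) := by
    have h1 : orderOf (SzModel.diag H k₀) = orderOf k₀ :=
      orderOf_injective (SzModel.diag H) (fun k l h => H.d_inj h) k₀
    have h3 : orderOf (H.d k₀) = orderOf k₀ := h1
    rw [h3, orderOf_eq_card_of_forall_mem_zpowers hk₀, Nat.card_units, one_mul]
  refine com_of_cyclic R.data P₀ hP₀ hU hsol hp hp2 (H.d_mem_borel k₀) (H255.RoSz.d_two H k₀) ?_ hord (by omega) ?_ ?_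
  · intro t ht htw
    obtain ⟨k, rfl⟩ := H255.RoSz.mem_two_iff H ht htw
    obtain ⟨j, rfl⟩ := Subgroup.mem_zpowers_iff.1 (hk₀ k)
    exact Subgroup.mem_zpowers_iff.2 ⟨j, (map_zpow (SzModel.diag H) k₀ j).symm⟩
  · intro t ht htw ht1 u hu hfix
    rw [pow_one] at ht1
    obtain ⟨k, rfl⟩ := H255.RoSz.mem_two_iff H ht htw
    obtain ⟨a, b, rfl⟩ := (H.mem_unip_iff _).1 hu
    rw [H255.RoSz.d_conj] at hfix
    obtain ⟨h3, h4⟩ := H.u_inj hfix
    have hk1 : k ≠ 1 := by
      rintro rfl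
      exact ht1 H.d_one
    have ha : a = 0 := by
      by_contra ha
      rw [mul_assoc] at h3
      have h5 : (k : F) ^ 2 * (θ k)⁻¹ = 1 := mul_left_cancel₀ ha (by rw [h3, mul_one])
      have h6 : (k : F) ^ 2 = θ k := by
        have h3 : θ (k : F) ≠ 0 := theta_ne_zero θ k
        field_simp at h5
        exact h5
      have h7 : θ (θ (k : F)) = (k : F) ^ 2 := H.sq _
      rw [← h6, map_pow, ← h6] at h7
      have h8 : (k : F) ^ 2 = 1 := by
        have h5 : (k : F) ^ 2 * ((k : F) ^ 2 - 1) = 0 := by linear_combination h7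
        rcases mul_eq_zero.1 h5 with h6 | h6
        · exact absurd h6 (pow_ne_zero 2 k.ne_zero)
        · exact sub_eq_zero.1 h6
      apply hk1
      apply Units.ext
      rw [Units.val_one]
      have h5 : ((k : F) - 1) ^ 2 = 0 := by
        have h0 := H.two
        linear_combination h8 + (1 - (k : F)) * h0
      exact sub_eq_zero.1 (pow_eq_zero_iff (two_ne_zero) |>.1 h5)
    have hb : b = 0 := by
      by_contra hb
      have h5 : θ (k : F) = 1 := mul_left_cancel₀ hb (by rw [h4, mul_one])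
      apply hk1
      apply Units.ext
      rw [Units.val_one]
      exact θ.injective (by rw [h5, map_one])
    rw [ha, hb, H.u_zero]
  · intro i hi
    have hi0 : i ≠ 0 := by
      rintro rfl
      rw [pow_zero] at hi
      omega
    refine ⟨hp2, ?_, ?_⟩
    · intro h
      exact hp.one_lt.ne' (Nat.dvd_one.1 h)
    · rw [H.card_unip]
      intro h
      apply hp2
      refine two_of_dvd (n := Nat.card F - 1) (j := 2) hp ?_ ?_
      · rw [hi]
        exact dvd_pow_self p hi0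
      · have : Nat.card F - 1 + 1 = Nat.card F := by omega
        rw [this]
        exact h

/-- **The Suzuki groups.** -/
theorem com_suzuki {S : Type*} [Group S] [hs : IsSimpleGroup S] (h : Cfsg.Lie.IsoSuzuki S)
    (hsol : ¬ Group.IsSolvable S) {p : ℕ} (hp : p.Prime) (hp2 : p ≠ 2) : Com p S := by
  obtain ⟨F, i1, i2, m, hm, hF, ⟨e⟩⟩ := h
  have H := good hF
  have hs' : IsSimpleGroup ↥(Cfsg.Lie.Sz F (2 ^ (m + 1))) := e.symm.isSimpleGroup
  have hsol' : ¬ Group.IsSolvable ↥(Cfsg.Lie.Sz F (2 ^ (m + 1))) := fun h =>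
    hsol (solvable_of_surjective (f := e.symm.toMonoidHom) e.symm.surjective)
  refine (com_sz H ?_ hsol' hp hp2).of_equiv e
  rw [Nat.card_eq_fintype_card, hF]
  calc 2 < 2 ^ 3 := by norm_num
    _ ≤ 2 ^ (2 * m + 1) := Nat.pow_le_pow_right (by norm_num) (by omega)

end Cfsg.Agent.H705
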