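import Cfsg.Agent.H705.Com
import Cfsg.Agent.H864.TrAct
import Cfsg.Agent.H967.SimpleIrr
import Cfsg.Agent.H682.OppSyl
import Cfsg.Agent.FixBN.TraceSys

/-!
# Automorphisms which fix the elements they leave in a common `r`-subgroup (helper705)

`RFix r a` : if `h` and `a h` lie in a common `r`-subgroup then `a h = h`.
`exists_fixed` : for a simple group with a split (B,N)-pair of characteristic `r` and rank at least two such an
automorphism fixes a nontrivial `r`-element.
-/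

set_option autoImplicit false

namespace Cfsg.Agent.H705

open Cfsg Cfsg.Agent.LieExceptional.BNPairCore Cfsg.Agent.Tits.Core Cfsg.Agent.Tits.Core.Bldg Cfsg.Agent.Tits.OfBN
  Cfsg.Agent.Schreier.BNSch Cfsg.Agent.Tits.OppRes Cfsg.Agent.FixBN Cfsg.Agent.FixBN.OfBN

variable {K : Type*} [Group K]

/-- If `h` and `a h` lie in a common `r`-subgroup then `a h = h`. -/
def RFix (r : ℕ) (a : MulAut K) : Prop :=
  ∀ V : Subgroup K, IsPGroup r V → ∀ h ∈ V, a h ∈ V → a h = h

theorem Bad.rfix {p : ℕ} {a : MulAut K} (ha : Bad p a) (hp : p.Prime) {r : ℕ} (hr : r.Prime) (hrp : r ≠ p) :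
    RFix r a := fun _ hV _ h1 h2 => ha.fix_of_isPGroup hp hr hrp hV h1 h2

theorem isPGroup_zpowers {r k : ℕ} {v : K} (hv : v ^ r ^ k = 1) : IsPGroup r (Subgroup.zpowers v) := by
  rintro ⟨w, hw⟩
  obtain ⟨j, rfl⟩ := Subgroup.mem_zpowers_iff.1 hw
  refine ⟨k, Subtype.ext ?_⟩
  show (v ^ j) ^ r ^ k = 1
  rw [← zpow_natCast, ← zpow_mul, mul_comm, zpow_mul, zpow_natCast, hv, one_zpow]

/-- **Rank at least two: a nontrivial `r`-element is fixed.** -/
theorem exists_fixed [Finite K] [IsSimpleGroup K] {r : ℕ} [hr : Fact r.Prime] {P : Cfsg.BNPair K} {U : Subgroup K}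
    (S : Split P r U) (h2 : ∃ s t : P.S, s ≠ t) {a : MulAut K} (ha : RFix r a) :
    ∃ v : K, v ≠ 1 ∧ a v = v ∧ ∃ k : ℕ, v ^ r ^ k = 1 := by
  classical
  by_contra hcon
  push Not at hcon
  have hN : ((P.B ⊓ P.N).subgroupOf P.N).Normal := normal_subgroupOf P
  obtain ⟨M, cs, hcs⟩ := S0320.result P
  have hI : Finite P.S := finite_I (Equiv.refl P.S)
  have hC : Cox cs := inferInstance
  obtain ⟨θ, φ, σ, h1, hφ, hθ, -⟩ := H864.TrAct.exists_act S (Equiv.refl P.S) cs hcs a
  set Δ := bldg P (Equiv.refl P.S) cs hcs with hΔ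
  have hopp : ∀ x, Δ.δ x (θ x) = wJ cs Set.univ := by
    intro x
    refine H682.OppSyl.opp_of_inf (Equiv.refl P.S) cs hcs S fun u hu hu' => ?_
    obtain ⟨v, rfl⟩ := a.surjective u
    have hvx : v • x = x := by
      apply θ.injective
      rw [h1]
      exact fix S hu'
    obtain ⟨k, hk⟩ := isP S x ⟨a v, hu⟩
    have hk' : v ^ r ^ k = 1 := by
      have h3 : (a v) ^ r ^ k = 1 := by simpa using congrArg Subtype.val hk
      rw [← map_pow] at h3
      exact (MulEquiv.map_eq_one_iff a).1 h3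
    have hvp : IsPGroup r (Subgroup.zpowers v) := isPGroup_zpowers hk'
    have hvU : v ∈ UU P U x := by
      refine OfBN.max S x _ hvp ?_ (Subgroup.mem_zpowers v)
      intro w hw
      obtain ⟨j, rfl⟩ := Subgroup.mem_zpowers_iff.1 hw
      exact MulAction.mem_stabilizer_iff.1
        (zpow_mem (MulAction.mem_stabilizer_iff.2 hvx : v ∈ MulAction.stabilizer K x) j)
    have hfix : a v = v := ha _ (isP S x) v hvU hu
    rw [hfix]
    by_contra hne
    exact hcon v hne hfix k hk'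
  -- the type map is an involution
  have hx0 : Nonempty (K ⧸ P.B) := ⟨QuotientGroup.mk 1⟩
  obtain ⟨x₀⟩ := hx0
  have hs1 : ∀ i, φ (cs.simple i) = wJ cs Set.univ * cs.simple i * wJ cs Set.univ := fun i =>
    Trace.map_simple_eq hφ hθ (x := x₀) (fun y _ => hopp y) (Set.mem_univ i)
  have hww := hC.wJ_mul_self Set.univ
  have hσσ : ∀ i, σ (σ i) = i := by
    intro i
    apply hC.inj
    rw [← hφ, hs1, ← hφ, hs1]
    calc _ = (wJ cs Set.univ * wJ cs Set.univ) * cs.simple i * (wJ cs Set.univ * wJ cs Set.univ) := by group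
      _ = _ := by rw [hww, one_mul, mul_one]
  have hcomm : ∀ i j : P.S, cs.simple i * cs.simple j = cs.simple j * cs.simple i := fun i j =>
    Trace.comm_of_opp (p := r) (J := Set.univ) (x := x₀) hφ hσσ (fun _ _ => Set.mem_univ _) hθ (fun y _ => hopp y)
      (fun i _ y _ => (OfBN.sys (Equiv.refl P.S) cs hcs S).card_Pan_eq (thick P (Equiv.refl P.S) cs hcs) y i)
      (Set.mem_univ i) (Set.mem_univ j)
  obtain ⟨s, t, hst⟩ := h2
  have hirr := H967.SimpleIrr.irreducible S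
  obtain ⟨u, hu, v, hv, huv⟩ := hirr {(s : K)} (by rintro _ rfl; exact s.2) (Set.singleton_nonempty _)
    ⟨t, t.2, fun h => hst (Subtype.ext h.symm)⟩
  apply huv
  have h3 := hcomm ⟨u, by rw [Set.mem_singleton_iff.1 hu]; exact s.2⟩ ⟨v, hv.1⟩
  rw [hcs, hcs, ← QuotientGroup.mk_mul, ← QuotientGroup.mk_mul, eq_comm, mk_eq_iff] at h3
  have h4 : (v * u)⁻¹ * (u * v) ∈ P.B ⊓ P.N := by
    refine Subgroup.mem_inf.2 ⟨h3, ?_⟩
    have hu' : u ∈ P.N := P.subset (by rw [Set.mem_singleton_iff.1 hu]; exact s.2)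
    have hv' : v ∈ P.N := P.subset hv.1
    exact mul_mem (inv_mem (mul_mem hv' hu')) (mul_mem hu' hv')
  have h5 := P.conj_mem (v * u) (mul_mem (P.subset hv.1) (P.subset (by rw [Set.mem_singleton_iff.1 hu]; exact s.2))) _ h4
  have h6 : v * u * ((v * u)⁻¹ * (u * v)) * (v * u)⁻¹ = u * v * u⁻¹ * v⁻¹ := by group
  rw [h6] at h5
  exact h5

end Cfsg.Agent.H705
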