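import Cfsg.Agent.H705.ComRank
import Cfsg.Agent.BpLieP.Big
import Cfsg.Agent.Lib.Cores
import Cfsg.Agent.H690.LieMix

/-!
# `RFix` automorphisms of groups of local characteristic `r` with a split (B,N)-pair of rank at least two (helper705)

`eq_one_of_rank` : they are trivial.
-/

set_option autoImplicit false
set_option linter.unusedSectionVars false

namespace Cfsg.Agent.H705

open Subgroup Cfsg Cfsg.Agent.FixBN Cfsg.Agent.FixBN.OfBN
open Cfsg.Agent.BpLieP.Big (LocChar)

variable {K : Type*} [Group K] [Finite K] {r : ℕ} [hr : Fact r.Prime] {a : MulAut K}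

/-- The `r`-elements of the normaliser of a subgroup of fixed points are fixed. -/
theorem RFix.normalizer (ha : RFix r a) (hL : LocChar r K) {R : Subgroup K} (hR : IsPGroup r R) (hR1 : R ≠ ⊥)
    (hfix : ∀ x ∈ R, a x = x) {v : K} (hv : v ∈ Subgroup.normalizer (R : Set K)) {k : ℕ} (hvk : v ^ r ^ k = 1) :
    a v = v := by
  set N := Subgroup.normalizer (R : Set K) with hN
  have haN : ∀ g ∈ N, a g ∈ N := by
    intro g hg
    have hg' : ∀ x ∈ R, g * x * g⁻¹ ∈ R := fun x hx => (mem_normalizer_iff.1 hg x).1 hx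
    have key : ∀ x ∈ R, a g * x * (a g)⁻¹ = g * x * g⁻¹ := by
      intro x hx
      rw [← hfix _ (hg' x hx), map_mul, map_mul, map_inv, hfix x hx]
    have h1 : R.map (MulAut.conj (a g)).toMonoidHom ≤ R := by
      rintro _ ⟨x, hx, rfl⟩
      show a g * x * (a g)⁻¹ ∈ R
      rw [key x hx]
      exact hg' x hx
    have h2 : R.map (MulAut.conj (a g)).toMonoidHom = R :=
      Subgroup.eq_of_le_of_card_ge h1 (le_of_eq (Nat.card_congr (R.equivMapOfInjective _
        (MulAut.conj (a g)).injective).toEquiv))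
    rw [hN, mem_normalizer_iff]
    intro x
    constructor
    · intro hx
      exact h1 ⟨x, hx, rfl⟩
    · intro hx
      rw [← h2] at hx
      obtain ⟨y, hy, hyx⟩ := hx
      have : y = x := (MulAut.conj (a g)).injective hyx
      rwa [← this]
  have hmap : N.map a.toMonoidHom = N := by
    refine Subgroup.eq_of_le_of_card_ge ?_ (le_of_eq (Nat.card_congr (N.equivMapOfInjective _
        a.injective).toEquiv))
    rintro _ ⟨g, hg, rfl⟩
    exact haN g hg
  let aN : N ≃* N := (a.subgroupMap N).trans (MulEquiv.subgroupCongr hmap)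
  have haNv : ∀ x : N, ((aN x : N) : K) = a x := fun x => rfl
  have hchar := (Lib.Cores.pCore_characteristic (G := N) r)
  have hQp : IsPGroup r (pCore r N) := Lib.Cores.pCore_isPGroup r
  have hQn : (pCore r N).Normal := inferInstance
  have hcm : (pCore r N).map aN.toMonoidHom = pCore r N := Subgroup.characteristic_iff_map_eq.1 hchar aN
  set Q : Subgroup K := (pCore r N).map N.subtype with hQ
  have hQK : IsPGroup r Q := hQp.map _
  have hQfix : ∀ h ∈ Q, a h = h := by
    rintro _ ⟨h, hh, rfl⟩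
    refine ha Q hQK _ ⟨h, hh, rfl⟩ ⟨aN h, ?_, haNv h⟩
    rw [← hcm]
    exact ⟨h, hh, rfl⟩
  have hcent : ∀ g ∈ N, g⁻¹ * a g ∈ Q := by
    intro g hg
    have h1 : (⟨g, hg⟩ : N)⁻¹ * aN ⟨g, hg⟩ ∈ pCore r N := by
      refine hL R hR hR1 ?_
      rw [mem_centralizer_iff]
      intro h hh
      have h2 : g * h * g⁻¹ ∈ Q := by
        refine ⟨⟨g, hg⟩ * h * ⟨g, hg⟩⁻¹, hQn.conj_mem h hh _, rfl⟩
      have h3 := hQfix _ h2
      have h4 := hQfix h ⟨h, hh, rfl⟩
      rw [map_mul, map_mul, map_inv, h4] at h3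
      apply Subtype.ext
      show (h : K) * (g⁻¹ * a g) = g⁻¹ * a g * h
      have h5 : g * h * g⁻¹ * a g = a g * h := by
        rw [← h3]; group
      calc (h : K) * (g⁻¹ * a g) = g⁻¹ * (g * h * g⁻¹ * a g) := by group
        _ = g⁻¹ * (a g * h) := by rw [h5]
        _ = _ := by group
    exact ⟨_, h1, rfl⟩
  -- the group `Q ⟨v⟩`
  have hvp := isPGroup_zpowers hvk
  have hnorm : Subgroup.zpowers v ≤ Subgroup.normalizer (Q : Set K) := by
    rw [Subgroup.zpowers_le]
    have hvN : N ≤ Subgroup.normalizer (Q : Set K) := by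
      intro g hg
      rw [mem_normalizer_iff]
      intro x
      constructor
      · rintro ⟨y, hy, rfl⟩
        exact ⟨⟨g, hg⟩ * y * ⟨g, hg⟩⁻¹, hQn.conj_mem y hy _, rfl⟩
      · rintro ⟨y, hy, hyx⟩
        refine ⟨⟨g, hg⟩⁻¹ * y * ⟨g, hg⟩⁻¹⁻¹, hQn.conj_mem y hy _, ?_⟩
        show g⁻¹ * (y : K) * g⁻¹⁻¹ = x
        have : (y : K) = g * x * g⁻¹ := hyx
        rw [this]
        group
    exact hvN hv
  have hVp : IsPGroup r ((Subgroup.zpowers v ⊔ Q : Subgroup K)) := by
    exact IsPGroup.to_sup_of_normal_right' hvp hQK hnorm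
  refine ha _ hVp v ((le_sup_left : Subgroup.zpowers v ≤ _) (mem_zpowers v)) ?_
  have h1 : a v = v * (v⁻¹ * a v) := by group
  rw [h1]
  exact mul_mem ((le_sup_left : Subgroup.zpowers v ≤ _) (mem_zpowers v)) ((le_sup_right : Q ≤ _) (hcent v hv))

/-- A Sylow `r`-subgroup is fixed elementwise. -/
theorem RFix.exists_sylow (ha : RFix r a) (hL : LocChar r K) {v : K} (hv1 : v ≠ 1) (hv : a v = v) {k : ℕ}
    (hvk : v ^ r ^ k = 1) : ∃ T : Sylow r K, ∀ x ∈ (T : Subgroup K), a x = x := by
  classical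
  -- a maximal `r`-subgroup of fixed points containing `v`
  let 𝓕 : Set (Subgroup K) := {R | IsPGroup r R ∧ (∀ x ∈ R, a x = x) ∧ v ∈ R}
  have h𝓕 : 𝓕.Nonempty := by
    refine ⟨Subgroup.zpowers v, isPGroup_zpowers hvk, ?_, mem_zpowers v⟩
    have h1 : Subgroup.zpowers v ≤ fixS a := by rw [Subgroup.zpowers_le]; exact hv
    exact fun x hx => h1 hx
  obtain ⟨R, hR⟩ := (Set.toFinite 𝓕).exists_maximal h𝓕
  obtain ⟨hRp, hRfix, hvR⟩ := hR.1
  have hR1 : R ≠ ⊥ := by
    rintro rfl
    exact hv1 (mem_bot.1 hvR)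
  obtain ⟨T, hT⟩ := hRp.exists_le_sylow
  refine ⟨T, ?_⟩
  have hRT : R = (T : Subgroup K) := by
    by_contra hne
    have hlt : R < (T : Subgroup K) := lt_of_le_of_ne hT hne
    have hnil : Group.IsNilpotent T := T.isPGroup'.isNilpotent
    have hlt' : R.subgroupOf (T : Subgroup K) < ⊤ := by
      rw [lt_top_iff_ne_top, Ne, Subgroup.subgroupOf_eq_top]
      exact hlt.not_ge
    have h1 := Group.normalizerCondition_of_isNilpotent (G := T) _ hlt'
    obtain ⟨w, hw, hwR⟩ := SetLike.exists_of_lt h1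
    -- `w` normalises `R`
    have hwn : (w : K) ∈ Subgroup.normalizer (R : Set K) := by
      rw [mem_normalizer_iff] at hw ⊢
      intro x
      constructor
      · intro hx
        have := (hw ⟨x, hT hx⟩).1 (by rw [Subgroup.mem_subgroupOf]; exact hx)
        rw [Subgroup.mem_subgroupOf] at this
        exact this
      · intro hx
        have hxT : x ∈ (T : Subgroup K) := by
          have h2 : x = (w : K)⁻¹ * (w * x * (w : K)⁻¹) * w := by group
          rw [h2]
          exact mul_mem (mul_mem (inv_mem w.2) (hT hx)) w.2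
        have := (hw ⟨x, hxT⟩).2 (by rw [Subgroup.mem_subgroupOf]; exact hx)
        rw [Subgroup.mem_subgroupOf] at this
        exact this
    obtain ⟨j, hj⟩ := T.isPGroup' w
    have hj' : (w : K) ^ r ^ j = 1 := by simpa using congrArg Subtype.val hj
    have hwfix := ha.normalizer hL hRp hR1 hRfix hwn hj'
    have hle : Subgroup.zpowers (w : K) ⊔ R ≤ (T : Subgroup K) :=
      sup_le (by rw [Subgroup.zpowers_le]; exact w.2) hT
    have h3 : Subgroup.zpowers (w : K) ⊔ R ∈ 𝓕 := by
      refine ⟨T.isPGroup'.to_le hle, ?_, (le_sup_right : R ≤ _) hvR⟩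
      have h4 : Subgroup.zpowers (w : K) ⊔ R ≤ fixS a :=
        sup_le (by rw [Subgroup.zpowers_le]; exact hwfix) (fun x hx => hRfix x hx)
      exact fun x hx => h4 hx
    have h5 := hR.2 h3 le_sup_right
    exact hwR (by rw [Subgroup.mem_subgroupOf]; exact h5 ((le_sup_left : Subgroup.zpowers (w : K) ≤ _) (mem_zpowers _)))
  intro x hx
  exact hRfix x (hRT ▸ hx)

/-- **Local characteristic `r` and rank at least two: `RFix` automorphisms are trivial.** -/
theorem RFix.eq_one_of_rank (ha : RFix r a) [hs : IsSimpleGroup K] (hL : LocChar r K) {P : Cfsg.BNPair K}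
    {U : Subgroup K} (S : Split P r U) (h2 : ∃ s t : P.S, s ≠ t) : a = 1 := by
  obtain ⟨v, hv1, hv, k, hvk⟩ := exists_fixed S h2 ha
  obtain ⟨T, hT⟩ := ha.exists_sylow hL hv1 hv hvk
  obtain ⟨x, hx⟩ := H682.OppSyl.exists_chamber_eq S T
  induction x using QuotientGroup.induction_on with
  | _ g₀ =>
  have hg₀ : ∀ u ∈ U, a (g₀ * u * g₀⁻¹) = g₀ * u * g₀⁻¹ := by
    intro u hu
    apply hT
    rw [hx, mem_UU S]
    have : g₀⁻¹ * (g₀ * u * g₀⁻¹) * g₀ = u := by group
    rwa [this]
  -- the nodes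
  obtain ⟨s₀, t₀, hst₀⟩ := h2
  have hnode : ∀ s ∈ P.S, ∃ V, Schreier.BNSch.Node P U s V ∧ V ≠ ⊥ := by
    intro s hs
    obtain ⟨V, hV⟩ := S.node s hs
    have : ∃ t ∈ P.S, s ≠ t := by
      by_cases h1 : s = s₀
      · refine ⟨t₀, t₀.2, fun h => hst₀ (Subtype.ext (h1 ▸ h))⟩
      · exact ⟨s₀, s₀.2, h1⟩
    obtain ⟨t, ht, hst⟩ := this
    exact ⟨V, hV, H690.LieMix.node_ne_bot S hs ht hst hV⟩
  -- the set of `g` such that `U ^ g` is fixed is everything
  let Fx : K → Prop := fun g => ∀ u ∈ U, a (g * u * g⁻¹) = g * u * g⁻¹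
  have hpar : ∀ s ∈ P.S, ∀ y ∈ P.parabolic {s}, ∀ g : K, Fx g → Fx (g * y) := by
    intro s hs y hy g hg u hu
    obtain ⟨V, hV, hV1⟩ := hnode s hs
    have hVn : ∀ z ∈ P.parabolic {s}, ∀ v : K, v ∈ V ↔ z * v * z⁻¹ ∈ V := by
      intro z hz v
      constructor
      · intro hv
        have := hV.conj_mem (inv_mem hz) hv
        rwa [inv_inv] at this
      · intro hv
        have := hV.conj_mem hz hv
        have h3 : z⁻¹ * (z * v * z⁻¹) * z = v := by group
        rwa [h3] at this
    have hRp : IsPGroup r (V.map (MulAut.conj g).toMonoidHom) := (S.isP.to_le hV.le).map _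
    have hR1 : V.map (MulAut.conj g).toMonoidHom ≠ ⊥ := by
      rw [Ne, Subgroup.map_eq_bot_iff_of_injective _ (MulAut.conj g).injective]
      exact hV1
    obtain ⟨k, hk⟩ := S.isP ⟨u, hu⟩
    have hk' : u ^ r ^ k = 1 := by simpa using congrArg Subtype.val hk
    refine ha.normalizer hL hRp hR1 ?_ (v := g * y * u * (g * y)⁻¹) ?_ (k := k) ?_
    · rintro _ ⟨v, hv, rfl⟩
      exact hg v (hV.le hv)
    · have hz : y * u * y⁻¹ ∈ P.parabolic {s} :=
        mul_mem (mul_mem hy (Schreier.BNSch.B_le_parabolic P _ (S.le hu))) (inv_mem hy)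
      have h3 := hVn _ hz
      rw [mem_normalizer_iff]
      intro x
      have h4 : ∀ w : K, w ∈ V.map (MulAut.conj g).toMonoidHom ↔ g⁻¹ * w * g ∈ V := by
        intro w
        constructor
        · rintro ⟨v, hv, rfl⟩
          have : g⁻¹ * ((MulAut.conj g).toMonoidHom v) * g = v := by
            show g⁻¹ * (g * v * g⁻¹) * g = v
            group
          rwa [this]
        · intro hw
          refine ⟨_, hw, ?_⟩
          show g * (g⁻¹ * w * g) * g⁻¹ = w
          group
      rw [h4, h4, h3]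
      have h5 : y * u * y⁻¹ * (g⁻¹ * x * g) * (y * u * y⁻¹)⁻¹ =
          g⁻¹ * (g * y * u * (g * y)⁻¹ * x * (g * y * u * (g * y)⁻¹)⁻¹) * g := by group
      rw [h5]
    · have h6 : g * y * u * (g * y)⁻¹ = MulAut.conj (g * y) u := rfl
      rw [h6, ← map_pow, hk', map_one]
  let H : Subgroup K :=
    { carrier := {y | ∀ g : K, Fx g ↔ Fx (g * y)}
      one_mem' := fun g => by rw [mul_one]
      mul_mem' := fun {x y} hx hy g => by
        rw [← mul_assoc, ← hy, ← hx]
      inv_mem' := fun {x} hx g => by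
        have := hx (g * x⁻¹)
        rw [inv_mul_cancel_right] at this
        exact this.symm }
  have hH : (⊤ : Subgroup K) ≤ H := by
    rw [← Schreier.BNSch.sup_closure_eq_top P, sup_le_iff]
    constructor
    · intro b hb g
      constructor
      · exact hpar s₀ s₀.2 b (Schreier.BNSch.B_le_parabolic P _ hb) g
      · intro h1
        have := hpar s₀ s₀.2 b⁻¹ (Schreier.BNSch.B_le_parabolic P _ (inv_mem hb)) _ h1
        rwa [mul_inv_cancel_right] at this
    · rw [Subgroup.closure_le]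
      intro s hs g
      have hsP : s ∈ P.parabolic {s} := Schreier.BNSch.mem_parabolic_self P s
      constructor
      · exact hpar s hs s hsP g
      · intro h1
        have := hpar s hs s⁻¹ (inv_mem hsP) _ h1
        rwa [mul_inv_cancel_right] at this
  have hall : ∀ y : K, Fx y := by
    intro y
    have h1 : g₀⁻¹ * y ∈ H := hH (mem_top _)
    have h3 := (h1 g₀).1 hg₀
    rwa [mul_inv_cancel_left] at h3
  -- the normal closure of `U`
  have hU1 : ∃ u ∈ U, u ≠ 1 := by
    obtain ⟨V, hV, -⟩ := hnode s₀ s₀.2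
    obtain ⟨u, hu, huV⟩ := hV.ne
    exact ⟨u, hu, fun h => huV (h ▸ one_mem V)⟩
  obtain ⟨u, hu, hu1⟩ := hU1
  have hle : Subgroup.normalClosure {u} ≤ fixS a := by
    rw [Subgroup.normalClosure, Subgroup.closure_le]
    intro z hz
    rw [Group.mem_conjugatesOfSet_iff] at hz
    obtain ⟨w, hw, hwz⟩ := hz
    rw [Set.mem_singleton_iff] at hw
    subst hw
    obtain ⟨c, rfl⟩ := isConj_iff.1 hwz
    exact hall c w hu
  rcases hs.eq_bot_or_eq_top_of_normal _ (Subgroup.normalClosure_normal (s := ({u} : Set K))) with h1 | h1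
  · exfalso
    apply hu1
    have : u ∈ Subgroup.normalClosure ({u} : Set K) := Subgroup.subset_normalClosure rfl
    rwa [h1, mem_bot] at this
  · rw [h1] at hle
    ext y
    exact hle (mem_top y)

end Cfsg.Agent.H705
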