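import Cfsg.Agent.H705.ComSt
import Cfsg.Agent.H705.ComLocal
import Cfsg.Agent.H705.ComRee
import Cfsg.Agent.H705.ComPSL
import Cfsg.Agent.H705.ComPSU
import Cfsg.Agent.H519.LieRank
import Cfsg.Agent.H400.LieLocal

/-!
# `Com p S` for the simple groups of Lie type (helper705)

`lie_gen` : `Com p S` for every simple group of Lie type and every prime, unless `p = 2` and `S ≅ PSU₃(q)` with `q - 1` a
power of two.
-/

set_option autoImplicit false
set_option linter.unusedSectionVars false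

namespace Cfsg.Agent.H705

open Cfsg Cfsg.Agent.FixBN Cfsg.Agent.Omega.ML.Ex.Typ Cfsg.Agent.H519.LieRank

/-- the case division -/
theorem cases_all {p : ℕ} [hp : Fact p.Prime] {K : Type*} [Group K] [IsSimpleGroup K] (hK : IsLieTypeChar p K) :
    HasRank p K ∨
      (∃ (F : Type) (_ : Field F) (_ : Fintype F) (_ : CharP F p), 4 ≤ Fintype.card F ∧
        Nonempty (K ≃* Matrix.ProjectiveSpecialLinearGroup (Fin 2) F)) ∨
      (∃ (F : Type) (_ : Field F) (_ : Fintype F) (_ : CharP F p) (q : ℕ), Fintype.card F = q ^ 2 ∧ q ≠ 2 ∧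
        Nonempty (K ≃* PSU 3 F q)) ∨
      (p = 2 ∧ Lie.IsoSuzuki K) ∨ (p = 2 ∧ Lie.Iso2F4 K) ∨ (p = 3 ∧ Lie.IsoRee K) := by
  rcases hK with h | h | h | h | h | h | h | h | h | h | h
  · obtain ⟨F, i1, i2, i3, n, hn, h3, ⟨e⟩⟩ := h
    by_cases hn2 : n = 2
    · subst hn2
      exact Or.inr (Or.inl ⟨F, i1, i2, i3, h3 rfl, ⟨e⟩⟩)
    · obtain ⟨n, rfl⟩ : ∃ k, n = k + 1 := ⟨n - 1, by omega⟩
      exact Or.inl (hasRank_of_typ hp.1 (by omega) ((typ_PSL n).of_equiv e.symm))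
  · obtain ⟨F, i1, i2, i3, m, hm, -, ⟨e⟩⟩ := h
    exact Or.inl (hasRank_of_typ hp.1 hm ((typ_PSp (by omega)).of_equiv e.symm))
  · obtain ⟨F, i1, i2, i3, n, q, hF, hn, h32, ⟨e⟩⟩ := h
    by_cases hn3 : n = 3
    · subst hn3
      exact Or.inr (Or.inr (Or.inl ⟨F, i1, i2, i3, q, hF, fun h => h32 ⟨rfl, h⟩, ⟨e⟩⟩))
    · obtain ⟨m, hm, h⟩ := typ_PSU (p := p) hF hn
      exact Or.inl (hasRank_of_typ hp.1 (by omega) (h.of_equiv e.symm))
  · obtain ⟨F, i1, i2, i3, m, hm, hodd, ⟨e⟩⟩ := h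
    have h2 : (2 : F) ≠ 0 := by
      intro h2
      have h3 : CharP F 2 := CharTwo.of_one_ne_zero_of_two_eq_zero one_ne_zero h2
      obtain ⟨n, -, hn⟩ := FiniteField.card F 2
      rw [hn] at hodd
      exact (Nat.not_even_iff_odd.2 hodd) ((Nat.even_pow' n.ne_zero).2 even_two)
    exact Or.inl (hasRank_of_typ hp.1 (by omega) ((typ_PO_odd h2 (by omega)).of_equiv e.symm))
  · obtain ⟨F, i1, i2, i3, m, hm, ⟨e⟩⟩ := h
    obtain ⟨n, rfl⟩ : ∃ n, m = n + 3 := ⟨m - 3, by omega⟩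
    exact Or.inl (hasRank_of_typ hp.1 (by omega) ((typ_PO_plus n).of_equiv e.symm))
  · obtain ⟨F, i1, i2, i3, m, a, b, hm, hab, ⟨e⟩⟩ := h
    exact Or.inl (hasRank_of_typ hp.1 (by omega) ((typ_PO_minus hab (by omega)).of_equiv e.symm))
  · rcases typ_of_exc h with h | h | h | h | h
    · exact Or.inl (hasRank_of_typ hp.1 (by omega) h)
    · exact Or.inl (hasRank_of_typ hp.1 (by omega) h)
    · exact Or.inl (hasRank_of_typ hp.1 (by omega) h)
    · exact Or.inl (hasRank_of_typ hp.1 (by omega) h)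
    · exact Or.inl (hasRank_of_typ hp.1 (by omega) h)
  · obtain ⟨F, i1, i2, i3, q, hq, ⟨hK, ⟨e⟩⟩ | ⟨hK, ⟨e⟩⟩⟩ := h
    · exact Or.inl (hasRank_of_typ hp.1 (by omega) ((typ_twE6 hq hK p).of_equiv e.symm))
    · exact Or.inl (hasRank_of_typ hp.1 (by omega) ((typ_twD4 hq hK p).of_equiv e.symm))
  · exact Or.inr (Or.inr (Or.inr (Or.inl h)))
  · exact Or.inr (Or.inr (Or.inr (Or.inr (Or.inl h))))
  · exact Or.inr (Or.inr (Or.inr (Or.inr (Or.inr h))))

theorem not_solvable_congr {S T : Type*} [Group S] [Group T] (e : S ≃* T) (h : ¬ Group.IsSolvable S) :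
    ¬ Group.IsSolvable T := fun h' => h (solvable_of_surjective (f := e.symm.toMonoidHom) e.symm.surjective)

/-- rank at least two -/
theorem com_of_rank {K : Type*} [Group K] [Finite K] [IsSimpleGroup K] {r : ℕ} [hr : Fact r.Prime]
    (hK : IsLieTypeChar r K) (hsz : ¬ (r = 2 ∧ Lie.IsoSuzuki K)) {p : ℕ} (hp : p.Prime) (hpr : p ≠ r)
    (h : HasRank r K) : Com p K := by
  rw [com_iff]
  intro a ha
  obtain ⟨P, U, S, h2⟩ := h
  exact (ha.rfix hp hr.out hpr.symm).eq_one_of_rank (H400.LieLocal.local_char_of_lie hK hsz) S h2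

theorem com_2F4 {S : Type*} [Group S] [Finite S] [IsSimpleGroup S] (h : Lie.Iso2F4 S) {p : ℕ} (hp : p.Prime)
    (hp2 : p ≠ 2) : Com p S := by
  have hr : Fact (Nat.Prime 2) := ⟨Nat.prime_two⟩
  have h' := h
  obtain ⟨K, i1, i2, m, hm, hK, ⟨e⟩⟩ := h
  have hfin : Finite ↥(Lie.twistedF4 K (2 ^ m)) := Finite.of_equiv S e.toEquiv
  have hsim : IsSimpleGroup ↥(Lie.twistedF4 K (2 ^ m)) := e.symm.isSimpleGroup
  have hlie : IsLieTypeChar 2 ↥(Lie.twistedF4 K (2 ^ m)) :=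
    Or.inr (Or.inr (Or.inr (Or.inr (Or.inr (Or.inr (Or.inr (Or.inr (Or.inr (Or.inl ⟨rfl, K, i1, i2, m, hm, hK,
      ⟨MulEquiv.refl _⟩⟩)))))))))
  obtain ⟨Q, UE, s, t, hq, -⟩ := ParSys.Fam.TwoFFour.exists_all hm hK
  have hL : Cfsg.Agent.BpLieP.Big.LocChar 2 ↥(Lie.twistedF4 K (2 ^ m)) :=
    (Cfsg.Agent.EvenType.ChevTwoF4.charTwo ⟨K, i1, i2, m, hm, hK, ⟨MulEquiv.refl _⟩⟩).2
  refine Com.of_equiv e ?_
  rw [com_iff]
  intro a ha
  refine (ha.rfix hp Nat.prime_two hp2.symm).eq_one_of_rank hL hq.split ⟨⟨s, ?_⟩, ⟨t, ?_⟩, ?_⟩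
  · rw [hq.S]; exact Set.mem_insert _ _
  · rw [hq.S]; exact Set.mem_insert_of_mem _ rfl
  · intro h
    exact hq.ne (congrArg Subtype.val h)

/-- the exceptional situation -/
def Spec (p : ℕ) (S : Type*) [Group S] : Prop :=
  p = 2 ∧ ∃ (F : Type) (_ : Field F) (_ : Fintype F) (q i : ℕ), Fintype.card F = q ^ 2 ∧ q = 2 ^ i + 1 ∧ 1 ≤ i ∧
    Nonempty (S ≃* PSU 3 F q)

/-- **Groups of Lie type**, up to the exceptional situation. -/
theorem lie_gen {S : Type*} [Group S] [Finite S] [hs : IsSimpleGroup S] {r : ℕ} [hr : Fact r.Prime]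
    (h : IsLieTypeChar r S) (hsol : ¬ Group.IsSolvable S) {p : ℕ} (hp : p.Prime) (hsp : ¬ Spec p S) : Com p S := by
  by_cases hpr : p = r
  · subst hpr
    exact com_defining hp h hsol
  by_cases hsz : r = 2 ∧ Lie.IsoSuzuki S
  · obtain ⟨rfl, hsz⟩ := hsz
    exact com_suzuki hsz hsol hp hpr
  rcases cases_all h with h1 | h1 | h1 | h1 | h1 | h1
  · exact com_of_rank h hsz hp hpr h1
  · obtain ⟨F, i1, i2, i3, hF, ⟨e⟩⟩ := h1
    have hsim : IsSimpleGroup (Matrix.ProjectiveSpecialLinearGroup (Fin 2) F) := e.symm.isSimpleGroup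
    exact (PSL.com_psl (r := r) (by rw [Nat.card_eq_fintype_card]; omega) (not_solvable_congr e hsol) hp hpr).of_equiv e
  · obtain ⟨F, i1, i2, i3, q, hF, hq2, ⟨e⟩⟩ := h1
    have hsim : IsSimpleGroup (PSU 3 F q) := e.symm.isSimpleGroup
    have hfin : Finite (PSU 3 F q) := Finite.of_equiv S e.toEquiv
    have hq1 : 1 < q := by
      by_contra hq
      have h2 : 1 < Fintype.card F := Fintype.one_lt_card
      rw [hF] at h2
      have h3 : q ^ 2 ≤ 1 ^ 2 := Nat.pow_le_pow_left (by omega) 2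
      omega
    obtain ⟨σ, hσ, π, E⟩ := PSU.exists_mod F hF hq1
    refine (E.com_gen (r := r) (by omega) (not_solvable_congr e hsol) hp hpr ?_).of_equiv e
    rintro ⟨rfl, i, hi⟩
    have hi0 : i ≠ 0 := by
      rintro rfl
      rw [pow_zero] at hi
      omega
    exact hsp ⟨rfl, F, i1, i2, q, i, hF, by omega, by omega, ⟨e⟩⟩
  · exact absurd h1 hsz
  · obtain ⟨rfl, h1⟩ := h1
    exact com_2F4 h1 hp hpr
  · obtain ⟨rfl, h1⟩ := h1
    exact com_ree h1 hsol hp hpr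

end Cfsg.Agent.H705
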