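import Cfsg.Agent.H705.ComUSpec
import Cfsg.Agent.H705.ComLie

/-!
# `PSU₃(3)` at the prime two: some commutator is not a 2-element (helper705)
-/

set_option autoImplicit false
set_option linter.unusedSectionVars false

namespace Cfsg.Agent.H705

open Cfsg

/-- For every nontrivial automorphism some `(a s)⁻¹ * s` is not a `p`-element. -/
def WCom (p : ℕ) (S : Type*) [Group S] : Prop :=
  ∀ a : MulAut S, a ≠ 1 → ∃ s : S, ∀ k : ℕ, orderOf ((a s)⁻¹ * s) ≠ p ^ k

theorem Com.wcom {p : ℕ} {S : Type*} [Group S] (h : Com p S) : WCom p S := by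
  intro a ha
  obtain ⟨s, h1, h2⟩ := h a ha
  refine ⟨s, fun k hk => ?_⟩
  rcases k with _ | k
  · rw [pow_zero] at hk
    exact h1 (orderOf_eq_one_iff.1 hk)
  · exact h2 (by rw [hk]; exact dvd_pow_self p (Nat.succ_ne_zero k))

theorem WCom.of_equiv {p : ℕ} {S T : Type*} [Group S] [Group T] (e : S ≃* T) (h : WCom p T) : WCom p S := by
  intro a ha
  obtain ⟨t, h1⟩ := h ((e.symm.trans a).trans e) (by
    intro h1
    apply ha
    ext s
    have h2 := DFunLike.congr_fun h1 (e s)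
    simpa using h2)
  refine ⟨e.symm t, fun k h3 => ?_⟩
  apply h1 k
  rw [← h3]
  have h4 := MulEquiv.orderOf_eq e ((a (e.symm t))⁻¹ * e.symm t)
  rw [← h4]
  simp

namespace USpec

open Cfsg.Agent.LieClassical.HermBasic Cfsg.Agent.LieClassical.HermSiegel
open Cfsg.Agent.ClassicalGeometry.UnitAutBasic Cfsg.Agent.ClassicalGeometry.PSUAutCount

variable {F : Type*} [Field F] [Fintype F]

theorem charP_three (hF : Fintype.card F = 3 ^ 2) : CharP F 3 := by
  obtain ⟨n, hp, hn⟩ := FiniteField.card F (ringChar F)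
  have h1 : ringChar F ∣ 3 := by
    have h2 : ringChar F ∣ 3 ^ 2 := by
      rw [← hF, hn]
      exact dvd_pow_self _ n.ne_zero
    exact hp.dvd_of_dvd_pow h2
  have h3 : ringChar F = 3 := (Nat.prime_dvd_prime_iff_eq hp Nat.prime_three).1 h1
  rw [← h3]
  exact ringChar.charP F

theorem three_eq_zero (hF : Fintype.card F = 3 ^ 2) : (3 : F) = 0 := by
  have := charP_three hF
  exact_mod_cast CharP.cast_eq_zero F 3

/-- the product of two transvections with `D = 1` is not a `2`-element -/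
theorem not_two (hF : Fintype.card F = 3 ^ 2) {v w : Fin 3 → F} (hv : hermForm 3 F 3 v v = 0)
    (hw : hermForm 3 F 3 w w = 0) (hD : c0 hF ^ 2 * (hermForm 3 F 3 v w * hermForm 3 F 3 v w ^ 3) = 1) (k : ℕ) :
    ((tau hF w)⁻¹ * tau hF v) ^ 2 ^ k ≠ 1 := by
  have h3 := three_eq_zero hF
  set g := (T hF w)⁻¹ * T hF v with hg
  set a := c0 hF with ha
  set κ := hermForm 3 F 3 v w with hκ
  have hact : ∀ x, act g x = x + (a * hermForm 3 F 3 x v) • v -
      (a * (hermForm 3 F 3 x w + a * hermForm 3 F 3 x v * κ)) • w := by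
    intro x
    rw [hg, act_mul, UOrd.act_T_inv hF hw, act_T hF hv, herm_add_left, herm_smul_left]
  have hwv : hermForm 3 F 3 w v = κ ^ 3 := herm_swap hF v w
  set n : Fin 3 → F := -v - (a * κ) • w with hn
  have hgv : act g v = -v + n := by
    rw [hact, hv, hn]
    funext i
    simp only [Pi.add_apply, Pi.sub_apply, Pi.smul_apply, smul_eq_mul, Pi.neg_apply]
    rw [← hκ]
    linear_combination (v i) * h3
  have hgw : act g w = w + (a * κ ^ 3) • v - (a * (a * κ ^ 3 * κ)) • w := by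
    rw [hact, hw, hwv, zero_add]
  have hgn : act g n = -n := by
    have e1 : act g n = -act g v - (a * κ) • act g w := by
      rw [hn, act_sub, act_smul, act_neg]
    rw [e1, hgv, hgw, hn]
    funext i
    simp only [Pi.add_apply, Pi.sub_apply, Pi.smul_apply, smul_eq_mul, Pi.neg_apply]
    linear_combination (a * κ * w i - v i) * hD
  have hpow : ∀ j : ℕ, act (g ^ j) v = (-1 : F) ^ j • (v - (j : F) • n) := by
    intro j
    induction j with
    | zero => rw [pow_zero, act_one]; simp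
    | succ j ih =>
      rw [pow_succ', act_mul, ih, act_smul, act_sub, act_smul, hgv, hgn]
      funext i
      simp only [Pi.add_apply, Pi.sub_apply, Pi.smul_apply, smul_eq_mul, Pi.neg_apply]
      push_cast
      ring
  intro h
  have h1 : pr 3 F 3 (g ^ 2 ^ k) = pr 3 F 3 1 := by
    rw [map_one, ← h, hg, map_pow, map_mul, map_inv]
    rfl
  obtain ⟨c, -, hc⟩ := exists_scalar_of_pr_eq hF le_rfl h1
  -- hc : act 1 x = c • act (g ^ 2 ^ k) x
  have h4 := hc v
  rw [act_one, hpow] at h4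
  have h5 : hermForm 3 F 3 v v = hermForm 3 F 3 (c • (-1 : F) ^ 2 ^ k • (v - ((2 ^ k : ℕ) : F) • n)) v := by
    rw [← h4]
  rw [herm_smul_left, herm_smul_left, herm_sub_left, herm_smul_left, hv, hn, herm_sub_left, herm_neg_left,
    herm_smul_left, hv, hwv] at h5
  have hc0 : c ≠ 0 := by
    rintro rfl
    rw [zero_smul] at h4
    have h6 : κ = 0 := by rw [hκ, h4, herm_zero_left]
    rw [h6] at hD
    simp at hD
  have h6 : a * κ * κ ^ 3 ≠ 0 := by
    intro h6
    have h7 : a ^ 2 * (κ * κ ^ 3) = a * (a * κ * κ ^ 3) := by ring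
    rw [h7, h6, mul_zero] at hD
    exact zero_ne_one hD
  have h7 : ((2 ^ k : ℕ) : F) ≠ 0 := by
    push_cast
    refine pow_ne_zero _ ?_
    intro h2
    have : (1 : F) = 0 := by linear_combination h3 - h2
    exact one_ne_zero this
  have h8 : c * (-1 : F) ^ 2 ^ k * (((2 ^ k : ℕ) : F) * (a * κ * κ ^ 3)) = 0 := by
    linear_combination -h5
  exact mul_ne_zero (mul_ne_zero hc0 (pow_ne_zero _ (neg_ne_zero.2 one_ne_zero))) (mul_ne_zero h7 h6) h8

/-- **`PSU₃(3)` at the prime two**, weak form. -/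
theorem wcom_three (hF : Fintype.card F = 3 ^ 2) [hfin : Finite (PSU 3 F 3)]
    [hs : IsSimpleGroup (PSU 3 F 3)] : WCom 2 (PSU 3 F 3) := by
  have h3 := three_eq_zero hF
  have hfr : Fact (Nat.Prime 3) := ⟨Nat.prime_three⟩
  have hch : CharP F 3 := charP_three hF
  intro α hne
  by_contra hcon
  push Not at hcon
  have hα : Bad 2 α := by
    intro s
    obtain ⟨k, hk⟩ := hcon s
    rcases k with _ | k
    · rw [pow_zero] at hk
      exact Or.inl (orderOf_eq_one_iff.1 hk)
    · exact Or.inr (by rw [hk]; exact dvd_pow_self 2 (Nat.succ_ne_zero k))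
  obtain ⟨A, ρ, rfl⟩ := ClassicalGeometry.PSUAutMain.exists_toAut hF le_rfl (by omega) α
  obtain ⟨c, hc0, hc⟩ := exists_r hF ρ
  have hno : ∀ v : Fin 3 → F, v ≠ 0 → hermForm 3 F 3 v v = 0 → hermForm 3 F 3 v (TG.phi A ρ v) ≠ 0 := by
    intro v hv0 hv h
    exact hne (eq_one_of_herm_eq_zero (r := 3) hF (by norm_num) Nat.prime_two (by norm_num) hα hv0 hv h)
  have hboth := TG.exists_both hF (by decide) (m := 4) (by norm_num) A ρ hno
  have hcc : c0 hF * c0 hF = -1 := by
    have h1 := c0_pow hF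
    have h2 : c0 hF * (c0 hF * c0 hF + 1) = 0 := by linear_combination h1
    have h4 := (mul_eq_zero.1 h2).resolve_left (c0_ne_zero hF)
    linear_combination h4
  have hρc : ρ (c0 hF) * ρ (c0 hF) = -1 := by rw [← map_mul, hcc, map_neg, map_one]
  have hprod : c0 hF * ρ (c0 hF) = 1 ∨ c0 hF * ρ (c0 hF) = -1 := by
    apply sq_eq_one_iff.1
    linear_combination (ρ (c0 hF) * ρ (c0 hF)) * hcc - hρc
  obtain ⟨v, hv0, hv, hD⟩ : ∃ v : Fin 3 → F, v ≠ 0 ∧ hermForm 3 F 3 v v = 0 ∧
      c0 hF * ρ (c0 hF) * hermForm 3 F 3 v (TG.phi A ρ v) ^ 4 = 1 := by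
    rcases hprod with h | h
    · obtain ⟨v, h1, h2, h4⟩ := hboth.1
      exact ⟨v, h1, h2, by rw [h, h4]; ring⟩
    · obtain ⟨v, h1, h2, h4⟩ := hboth.2
      exact ⟨v, h1, h2, by rw [h, h4]; ring⟩
  set t := hermForm 3 F 3 v (TG.phi A ρ v) with ht
  have hφ : hermForm 3 F 3 (TG.phi A ρ v) (TG.phi A ρ v) = 0 := by rw [TG.herm_phi, hv, map_zero]
  have h1 : toAut A ρ (tau hF v) = tau hF (c • TG.phi A ρ v) := toAut_tau hF A ρ hc hv
  have h2 : hermForm 3 F 3 (c • TG.phi A ρ v) (c • TG.phi A ρ v) = 0 := iso_smul c hφ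
  have hκ : hermForm 3 F 3 v (c • TG.phi A ρ v) = c ^ 3 * t := by
    rw [herm_smul_right]
  have h4 : c0 hF ^ 2 * (hermForm 3 F 3 v (c • TG.phi A ρ v) * hermForm 3 F 3 v (c • TG.phi A ρ v) ^ 3) = 1 := by
    rw [hκ]
    have e1 : (c ^ 3 * t) ^ 3 = c * t ^ 3 := by rw [mul_pow, pow_q_pow_q hF]
    rw [e1, ← hD, ← hc]
    ring
  obtain ⟨k, hk⟩ := hcon (tau hF v)
  apply not_two hF hv h2 h4 k
  rw [← h1, ← hk]
  exact pow_orderOf_eq_one _

end USpec

/-- the last open situation: `PSU₃(3)` at the prime two -/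
def SpecThree (p : ℕ) (S : Type*) [Group S] : Prop :=
  p = 2 ∧ ∃ (F : Type) (_ : Field F) (_ : Fintype F), Fintype.card F = 3 ^ 2 ∧ Nonempty (S ≃* PSU 3 F 3)

/-- **Groups of Lie type**, except for `PSU₃(3)` at the prime two. -/
theorem lie_but {S : Type*} [Group S] [Finite S] [hs : IsSimpleGroup S] {r : ℕ} [hr : Fact r.Prime]
    (h : IsLieTypeChar r S) (hsol : ¬ Group.IsSolvable S) {p : ℕ} (hp : p.Prime) (hsp : ¬ SpecThree p S) : Com p S := by
  by_cases h1 : Spec p S
  · obtain ⟨rfl, F, i1, i2, q, i, hF, hq, hi, ⟨e⟩⟩ := h1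
    have hsim : IsSimpleGroup (PSU 3 F q) := e.symm.isSimpleGroup
    have hfin : Finite (PSU 3 F q) := Finite.of_equiv S e.toEquiv
    by_cases hi1 : i = 1
    · subst hi1
      have hq3 : q = 3 := by omega
      subst hq3
      exact absurd ⟨rfl, F, i1, i2, hF, ⟨e⟩⟩ hsp
    · exact (USpec.com_two hF hq (by omega)).of_equiv e
  · exact lie_gen h hsol hp h1

/-- **Groups of Lie type**, odd primes. -/
theorem lie_odd {S : Type*} [Group S] [Finite S] [hs : IsSimpleGroup S] {r : ℕ} [hr : Fact r.Prime]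
    (h : IsLieTypeChar r S) (hsol : ¬ Group.IsSolvable S) {p : ℕ} (hp : p.Prime) (hp2 : p ≠ 2) : Com p S :=
  lie_but h hsol hp fun h => hp2 h.1

/-- **Groups of Lie type**, all primes, weak form. -/
theorem lie_weak {S : Type*} [Group S] [Finite S] [hs : IsSimpleGroup S] {r : ℕ} [hr : Fact r.Prime]
    (h : IsLieTypeChar r S) (hsol : ¬ Group.IsSolvable S) {p : ℕ} (hp : p.Prime) : WCom p S := by
  by_cases h1 : SpecThree p S
  · obtain ⟨rfl, F, i1, i2, hF, ⟨e⟩⟩ := h1
    have hsim : IsSimpleGroup (PSU 3 F 3) := e.symm.isSimpleGroup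
    have hfin : Finite (PSU 3 F 3) := Finite.of_equiv S e.toEquiv
    exact (USpec.wcom_three hF).of_equiv e
  · exact (lie_but h hsol hp h1).wcom

end Cfsg.Agent.H705
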