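import Cfsg.Agent.H705.Com
import Cfsg.Agent.S4037
import Cfsg.Agent.S0200
import Cfsg.Agent.S0215
import Cfsg.Agent.S0205
import Cfsg.Agent.SmallSimple.SelfCentPrime

/-!
# Automorphisms of a non-abelian finite simple group: general criteria (helper705)

`S` finite simple, not solvable, `a` an automorphism.

* `eq_one_of_solvable` : the normal closure of (the element inducing) `a` in `S ⋊ ⟨a⟩` is not solvable unless `a = 1`;
* `eq_one_of_index` : if `|S : C_S(a)|` is a prime power then `a = 1`;
* `Bad.eq_one_of_sq` : if `a ^ 2 = 1` and `Bad p a` then `a = 1` (Baer-Suzuki for `p = 2`, the `Z*`-theorem for `p` odd).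
-/

set_option autoImplicit false
set_option linter.unusedSectionVars false

namespace Cfsg.Agent.H705

open Cfsg

variable {S : Type*} [Group S] [Finite S] {a : MulAut S}

/-- `S ⋊ ⟨a⟩` -/
abbrev Ext (a : MulAut S) : Type _ := S ⋊[(Subgroup.zpowers a).subtype] (Subgroup.zpowers a)

instance instFiniteExt (a : MulAut S) : Finite (Ext a) := by
  have : Finite (S × Subgroup.zpowers a) := inferInstance
  exact Finite.of_equiv (S × Subgroup.zpowers a) SemidirectProduct.equivProd.symm

/-- the element inducing `a` -/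
def xx (a : MulAut S) : Ext a := SemidirectProduct.inr ⟨a, Subgroup.mem_zpowers a⟩

theorem xx_conj (s : S) : xx a * SemidirectProduct.inl s * (xx a)⁻¹ = SemidirectProduct.inl (a s) := by
  have h := SemidirectProduct.inl_aut (φ := (Subgroup.zpowers a).subtype) ⟨a, Subgroup.mem_zpowers a⟩ s
  rw [xx, ← map_inv]
  exact h.symm

/-- every element is `inl s * inr c` with `c` a power of `a` -/
theorem exists_eq (g : Ext a) : ∃ (s : S) (c : Subgroup.zpowers a),
    g = SemidirectProduct.inl s * SemidirectProduct.inr c :=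
  ⟨g.left, g.right, by ext <;> simp⟩

theorem xx_comm (c : Subgroup.zpowers a) : xx a * SemidirectProduct.inr c = SemidirectProduct.inr c * xx a := by
  rw [xx, ← map_mul, ← map_mul]
  congr 1
  obtain ⟨k, hk⟩ := Subgroup.mem_zpowers_iff.1 c.2
  apply Subtype.ext
  show a * (c : MulAut S) = (c : MulAut S) * a
  rw [← hk]
  exact (Commute.refl a).zpow_right k

/-- the conjugates of `xx a` are the `s (xx a) s⁻¹` with `s` in `S` -/
theorem conj_xx (g : Ext a) : ∃ s : S, g * xx a * g⁻¹ = SemidirectProduct.inl (s * (a s)⁻¹) * xx a := by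
  obtain ⟨s, c, rfl⟩ := exists_eq g
  refine ⟨s, ?_⟩
  have h1 : SemidirectProduct.inr c * xx a * (SemidirectProduct.inr c)⁻¹ = xx a := by
    rw [← xx_comm, mul_inv_cancel_right]
  have h2 : (xx a)⁻¹⁻¹ * (SemidirectProduct.inl s : Ext a)⁻¹ * (xx a)⁻¹ = SemidirectProduct.inl (a s)⁻¹ := by
    rw [inv_inv, ← map_inv, xx_conj, map_inv]
  calc SemidirectProduct.inl s * SemidirectProduct.inr c * xx a * (SemidirectProduct.inl s * SemidirectProduct.inr c)⁻¹
      = SemidirectProduct.inl s * (SemidirectProduct.inr c * xx a * (SemidirectProduct.inr c)⁻¹) *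
          (SemidirectProduct.inl s)⁻¹ := by group
    _ = SemidirectProduct.inl s * xx a * (SemidirectProduct.inl s)⁻¹ := by rw [h1]
    _ = SemidirectProduct.inl s * ((xx a)⁻¹⁻¹ * (SemidirectProduct.inl s : Ext a)⁻¹ * (xx a)⁻¹) * xx a := by group
    _ = _ := by rw [h2, map_mul]

/-- **The normal closure of `a` in `S ⋊ ⟨a⟩` is not solvable.** -/
theorem eq_one_of_solvable [hs : IsSimpleGroup S] (hsol : ¬ Group.IsSolvable S)
    {M : Subgroup (Ext a)} (hM : M.Normal) (hx : ∀ s : S, SemidirectProduct.inl ((a s)⁻¹ * s) ∈ M)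
    (h : Group.IsSolvable M) : a = 1 := by
  let M' : Subgroup S := M.comap SemidirectProduct.inl
  have hMn : M'.Normal := inferInstance
  rcases hMn.eq_bot_or_eq_top with h1 | h1
  · ext s
    have h2 : (a s)⁻¹ * s ∈ M' := hx s
    rw [h1, Subgroup.mem_bot] at h2
    simpa using inv_mul_eq_one.1 h2
  · exfalso
    apply hsol
    have h2 : ∀ s : S, SemidirectProduct.inl s ∈ M := fun s => by
      have : s ∈ M' := by rw [h1]; trivial
      exact this
    exact Group.isSolvable_of_isSolvable_injective
      (f := (SemidirectProduct.inl : S →* Ext a).codRestrict M h2) (by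
        intro s t hst
        exact SemidirectProduct.inl_injective (congrArg Subtype.val hst))

theorem comm_mem {M : Subgroup (Ext a)} (hM : M.Normal) (hx : xx a ∈ M) (s : S) :
    SemidirectProduct.inl ((a s)⁻¹ * s) ∈ M := by
  have h1 : (SemidirectProduct.inl ((a s)⁻¹ * s) : Ext a) =
      xx a * ((SemidirectProduct.inl s)⁻¹ * (xx a)⁻¹ * (SemidirectProduct.inl s)⁻¹⁻¹) := by
    rw [map_mul, map_inv, ← xx_conj]
    group
  rw [h1]
  exact mul_mem hx (hM.conj_mem _ (inv_mem hx) _)

/-- **The index of the fixed points is not a prime power.** -/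
theorem eq_one_of_index [hs : IsSimpleGroup S] (hsol : ¬ Group.IsSolvable S) {r : ℕ} (hr : r.Prime) {n : ℕ}
    (h : Nat.card S = Nat.card (fixS a) * r ^ n) : a = 1 := by
  have hcl := SmallSimple.SelfCentPrime.card_carrier_mul_card_centralizer (xx a)
  have hT : Nat.card (Ext a) = Nat.card S * Nat.card (Subgroup.zpowers a) := by
    rw [← Nat.card_prod]
    exact Nat.card_congr SemidirectProduct.equivProd
  -- the centraliser
  have hC : Nat.card (Subgroup.centralizer ({xx a} : Set (Ext a))) =
      Nat.card (fixS a) * Nat.card (Subgroup.zpowers a) := by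
    rw [← Nat.card_prod]
    refine (Nat.card_congr (Equiv.ofBijective (fun y : fixS a × Subgroup.zpowers a =>
      (⟨SemidirectProduct.inl (y.1 : S) * SemidirectProduct.inr y.2, ?_⟩ :
        Subgroup.centralizer ({xx a} : Set (Ext a)))) ⟨?_, ?_⟩)).symm
    · rw [Subgroup.mem_centralizer_singleton_iff]
      have h1 : xx a * SemidirectProduct.inl (y.1 : S) = SemidirectProduct.inl (y.1 : S) * xx a := by
        have h2 := xx_conj (a := a) (y.1 : S)
        rw [mem_fixS.1 y.1.2] at h2
        rw [← mul_inv_eq_iff_eq_mul]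
        exact h2
      rw [← mul_assoc, h1, mul_assoc, mul_assoc, xx_comm]
    · rintro ⟨y, c⟩ ⟨y', c'⟩ hy
      have h1 : (SemidirectProduct.inl (y : S) * SemidirectProduct.inr c : Ext a) =
          SemidirectProduct.inl (y' : S) * SemidirectProduct.inr c' := congrArg Subtype.val hy
      have h2 := congrArg SemidirectProduct.left h1
      have h3 := congrArg SemidirectProduct.right h1
      simp at h2 h3
      exact Prod.ext h2 h3
    · rintro ⟨g, hg⟩
      obtain ⟨s, c, rfl⟩ := exists_eq g
      rw [Subgroup.mem_centralizer_singleton_iff] at hg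
      have h1 : a s = s := by
        have h2 : xx a * SemidirectProduct.inl s * (xx a)⁻¹ = SemidirectProduct.inl s := by
          rw [mul_inv_eq_iff_eq_mul]
          have h3 : xx a * SemidirectProduct.inl s * SemidirectProduct.inr c =
              SemidirectProduct.inl s * xx a * SemidirectProduct.inr c := by
            rw [mul_assoc, mul_assoc (SemidirectProduct.inl s), xx_comm, ← mul_assoc (SemidirectProduct.inl s)]
            exact hg.symm
          exact mul_right_cancel h3
        rw [xx_conj] at h2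
        exact SemidirectProduct.inl_injective h2
      exact ⟨⟨⟨s, h1⟩, c⟩, rfl⟩
  rw [hC, hT, h] at hcl
  have h1 : Nat.card (ConjClasses.mk (xx a)).carrier = r ^ n := by
    have h2 : 0 < Nat.card (fixS a) := Nat.card_pos
    have h3 : 0 < Nat.card (Subgroup.zpowers a) := Nat.card_pos
    have h4 : Nat.card (ConjClasses.mk (xx a)).carrier * (Nat.card (fixS a) * Nat.card (Subgroup.zpowers a)) =
        r ^ n * (Nat.card (fixS a) * Nat.card (Subgroup.zpowers a)) := by
      rw [hcl]; ring
    exact Nat.eq_of_mul_eq_mul_right (Nat.mul_pos h2 h3) h4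
  have hsolv := Cfsg.Agent.S4037.result (xx a) hr n (by rw [← h1]; exact (Nat.card_coe_set_eq _).symm)
  have hn : (Subgroup.normalClosure ({xx a} : Set (Ext a))).Normal := Subgroup.normalClosure_normal
  exact eq_one_of_solvable hsol hn (comm_mem hn (Subgroup.subset_normalClosure rfl)) hsolv

theorem xx_sq (h : a * a = 1) : xx a * xx a = 1 := by
  rw [xx, ← map_mul]
  have : (⟨a, Subgroup.mem_zpowers a⟩ : Subgroup.zpowers a) * ⟨a, Subgroup.mem_zpowers a⟩ = 1 := Subtype.ext h
  rw [this, map_one]

theorem xx_ne_one (h : a ≠ 1) : xx a ≠ 1 := by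
  intro h1
  apply h
  have h2 : (⟨a, Subgroup.mem_zpowers a⟩ : Subgroup.zpowers a) = 1 := by
    apply SemidirectProduct.inr_injective (N := S)
    rw [map_one]
    exact h1
  exact congrArg Subtype.val h2

/-- an odd element inverted by `xx a`, `a ^ 2 = 1`, comes from `S` -/
theorem exists_of_odd (h : a * a = 1) {g : Ext a} (hg : Odd (orderOf g)) : ∃ s : S, g = SemidirectProduct.inl s := by
  obtain ⟨s, c, rfl⟩ := exists_eq g
  refine ⟨s, ?_⟩
  have hc : c * c = 1 := by
    obtain ⟨k, hk⟩ := Subgroup.mem_zpowers_iff.1 c.2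
    apply Subtype.ext
    show (c : MulAut S) * c = 1
    rw [← hk, ← (Commute.refl a).mul_zpow, h, one_zpow]
  have h1 : Odd (orderOf c) := by
    have h2 : orderOf (SemidirectProduct.rightHom (SemidirectProduct.inl s * SemidirectProduct.inr c : Ext a)) ∣
        orderOf (SemidirectProduct.inl s * SemidirectProduct.inr c : Ext a) := orderOf_map_dvd _ _
    rw [map_mul, SemidirectProduct.rightHom_inl, SemidirectProduct.rightHom_inr, one_mul] at h2
    exact hg.of_dvd_nat h2
  have h2 : orderOf c ∣ 2 := orderOf_dvd_of_pow_eq_one (by rw [pow_two]; exact hc)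
  have h3 : orderOf c = 1 := by
    rcases (Nat.dvd_prime Nat.prime_two).1 h2 with h4 | h4
    · exact h4
    · rw [h4] at h1
      exact absurd h1 (by decide)
  rw [orderOf_eq_one_iff.1 h3, map_one, mul_one]

/-- **Involutory automorphisms are not bad.** -/
theorem Bad.eq_one_of_sq [hs : IsSimpleGroup S] (hsol : ¬ Group.IsSolvable S) {p : ℕ} (hp : p.Prime) (ha : Bad p a)
    (h : a * a = 1) : a = 1 := by
  by_contra hne
  have hord : orderOf (xx a) = 2 := orderOf_eq_prime (by rw [pow_two]; exact xx_sq h) (xx_ne_one hne)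
  have hxinv : (xx a)⁻¹ = xx a := inv_eq_of_mul_eq_one_left (xx_sq h)
  by_cases hp2 : p = 2
  · subst hp2
    by_cases hO : ∀ N : Subgroup (Ext a), N.Normal → IsPGroup 2 N → xx a ∉ N
    · obtain ⟨g, hg1, hgo, hg⟩ := Cfsg.Agent.S0200.result (xx a) hord hO
      obtain ⟨s, rfl⟩ := exists_of_odd h hgo
      rw [xx_conj, ← map_inv] at hg
      have h2 : a s = s⁻¹ := SemidirectProduct.inl_injective hg
      have h3 : Odd (orderOf s) := by
        rwa [orderOf_injective (SemidirectProduct.inl : S →* Ext a) SemidirectProduct.inl_injective] at hgo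
      have hs1 : s ≠ 1 := by
        rintro rfl
        exact hg1 (map_one _)
      have h4 := ha s
      rw [h2, inv_inv] at h4
      rcases h4 with h4 | h4
      · have h5 : orderOf s ∣ 2 := orderOf_dvd_of_pow_eq_one (by rw [pow_two]; exact h4)
        rcases (Nat.dvd_prime Nat.prime_two).1 h5 with h6 | h6
        · exact hs1 (orderOf_eq_one_iff.1 h6)
        · rw [h6] at h3
          exact absurd h3 (by decide)
      · have h5 : orderOf (s * s) ∣ orderOf s := by
          rw [← pow_two]
          exact orderOf_pow_dvd 2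
        have h6 : 2 ∣ orderOf s := h4.trans h5
        exact (Nat.not_even_iff_odd.2 h3) (even_iff_two_dvd.2 h6)
    · push Not at hO
      obtain ⟨N, hN, hN2, hx⟩ := hO
      have hsolv : Group.IsSolvable N := by
        have : Fact (Nat.Prime 2) := ⟨Nat.prime_two⟩
        have := hN2.isNilpotent
        infer_instance
      exact hne (eq_one_of_solvable hsol hN (comm_mem hN hx) hsolv)
  · have h2p : Fact (Nat.Prime 2) := ⟨Nat.prime_two⟩
    have hx2 : IsPGroup 2 (Subgroup.zpowers (xx a)) := by
      refine IsPGroup.of_card (n := 1) ?_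
      rw [Nat.card_zpowers, hord, pow_one]
    obtain ⟨P, hP⟩ := hx2.exists_le_sylow
    have hxP : xx a ∈ P := hP (Subgroup.mem_zpowers _)
    obtain ⟨N, hN, hNo, hcomm⟩ := Cfsg.Agent.S0215.result P (xx a) hord hxP (by
      intro g hg
      obtain ⟨s, hs⟩ := conj_xx g
      rw [hs] at hg ⊢
      have h1 : (SemidirectProduct.inl (s * (a s)⁻¹) : Ext a) ∈ P := by
        have := mul_mem hg (inv_mem hxP)
        rwa [mul_inv_cancel_right] at this
      obtain ⟨k, hk⟩ := P.isPGroup' ⟨_, h1⟩
      have hk' : (SemidirectProduct.inl (s * (a s)⁻¹) : Ext a) ^ 2 ^ k = 1 := by simpa using congrArg Subtype.val hk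
      rw [← map_pow] at hk'
      have hk2 : (s * (a s)⁻¹) ^ 2 ^ k = 1 := by
        apply SemidirectProduct.inl_injective (φ := (Subgroup.zpowers a).subtype)
        rw [hk', map_one]
      have h3 : orderOf (s * (a s)⁻¹) = orderOf ((a s)⁻¹ * s) := by
        have h4 : s * (a s)⁻¹ = MulAut.conj s ((a s)⁻¹ * s) := by
          rw [MulAut.conj_apply]; group
        rw [h4, MulEquiv.orderOf_eq]
      rcases ha s with h4 | h4
      · have h5 : s = a s := (inv_mul_eq_one.1 h4).symm
        rw [← h5, mul_inv_cancel, map_one, one_mul]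
      · exfalso
        rw [← h3] at h4
        have h5 := h4.trans (orderOf_dvd_of_pow_eq_one hk2)
        exact hp2 ((Nat.prime_dvd_prime_iff_eq hp Nat.prime_two).1 (hp.dvd_of_dvd_pow h5)))
    have hsolv : Group.IsSolvable N := Cfsg.Agent.S0205.result hNo
    refine hne (eq_one_of_solvable hsol hN (fun s => ?_) hsolv)
    have h1 := hcomm (SemidirectProduct.inl s)⁻¹
    have h2 : (xx a * (SemidirectProduct.inl s : Ext a)⁻¹ * (xx a)⁻¹ * (SemidirectProduct.inl s)⁻¹⁻¹) =
        SemidirectProduct.inl ((a s)⁻¹ * s) := by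
      rw [← map_inv, xx_conj, ← map_inv, inv_inv, map_inv a, ← map_mul]
    rw [h2] at h1
    exact h1

end Cfsg.Agent.H705
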