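import Cfsg.Agent.H705.ComUFull

/-!
# The Lie type part of the commutator theorems (helper705)

* `Cfsg.Agent.H705.lie` : `Com p S` for every finite simple group `S` of Lie type and every prime `p`;
* `Cfsg.Agent.H705.lie_weak` : `WCom p S`.
-/
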