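import Cfsg.Agent.H705.Indicator
import Cfsg.Agent.OddOrderCharacters.PF9.CliffGen
import Cfsg.Agent.CharactersDeep.CosetAverage
import Cfsg.Agent.Blocks.Basic

/-!
# Counting linear characters of indicator one over an extendible character
-/

set_option autoImplicit false
set_option linter.unusedSectionVars false

namespace Cfsg.Agent.H705.StrongLin

open Cfsg
open scoped ComplexConjugate commutatorElement
open Cfsg.Agent.Characters.Core
open Cfsg.Agent.OddOrderCharacters.NormalInduced (conjFn)
open Cfsg.Agent.OddOrderCharacters.PF9.CliffGen (resTo irr_ind ind_inj)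

universe u

/-- There are at most `[G : I]` linear characters of `G` trivial on `I`. -/
theorem card_hom_le {G : Type*} [Group G] [Finite G] (I : Subgroup G) :
    Nat.card {f : G →* ℂˣ // ∀ t ∈ I, f t = 1} ≤ I.index := by
  classical
  let X := {f : G →* ℂˣ // ∀ t ∈ I, f t = 1}
  let v : X → (G ⧸ I → ℂ) := fun f => Quotient.lift (fun g : G => (f.1 g : ℂ)) (by
    intro a b hab
    have h1 : a⁻¹ * b ∈ I := QuotientGroup.leftRel_apply.1 hab
    have h2 := f.2 _ h1
    rw [map_mul, map_inv, inv_mul_eq_one] at h2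
    show (f.1 a : ℂ) = f.1 b
    rw [h2])
  let L : (G ⧸ I → ℂ) →ₗ[ℂ] (G → ℂ) := LinearMap.funLeft ℂ ℂ (QuotientGroup.mk : G → G ⧸ I)
  have hLv : ∀ f : X, L (v f) = fun g => (f.1 g : ℂ) := fun f => rfl
  have hli : LinearIndependent ℂ v := by
    apply LinearIndependent.of_comp L
    let j : X → (G →* ℂ) := fun f => (Units.coeHom ℂ).comp f.1
    have hj : Function.Injective j := by
      intro f f' h
      refine Subtype.ext (MonoidHom.ext fun g => Units.ext ?_)
      exact DFunLike.congr_fun h g
    exact (linearIndependent_monoidHom G ℂ).comp j hj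
  have hfin : Finite X := hli.finite
  have := Fintype.ofFinite X
  have := Fintype.ofFinite (G ⧸ I)
  have h1 := hli.fintype_card_le_finrank
  rw [Module.finrank_fintype_fun_eq_card, ← Nat.card_eq_fintype_card,
    ← Nat.card_eq_fintype_card] at h1
  exact h1

/-- Multiplication by linear characters of `I / N` is injective on extensions. -/
theorem eq_of_mul_eq {I : Type u} [Group I] [Finite I] (N : Subgroup I) [N.Normal] {ψ : I → ℂ}
    (hψ : IsIrrCharacter I ψ) (hψN : IsIrrCharacter N (fun n : N => ψ n)) {a b : I →* ℂˣ}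
    (ha : ∀ n ∈ N, a n = 1) (hb : ∀ n ∈ N, b n = 1)
    (h : ∀ t, (a t : ℂ) * ψ t = (b t : ℂ) * ψ t) : a = b := by
  classical
  have := Fintype.ofFinite I
  have := Fintype.ofFinite N
  ext t
  by_contra hne
  have h0 : ∀ n : N, ψ ((n : I) * t) = 0 := by
    intro n
    have h1 := h ((n : I) * t)
    rw [map_mul, map_mul, ha n n.2, hb n n.2, one_mul, one_mul] at h1
    have h2 : ((a t : ℂ) - (b t : ℂ)) * ψ ((n : I) * t) = 0 := by
      linear_combination h1
    exact (mul_eq_zero.1 h2).resolve_left (sub_ne_zero.2 hne)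
  have h1 := Cfsg.Agent.CharactersDeep.CosetAverage.cosetAverage_self N ψ hψ hψN t
  simp [h0] at h1

/-- The Frobenius-Schur indicator. -/
noncomputable def ind {G : Type*} [Group G] (χ : G → ℂ) : ℂ :=
  (Nat.card G : ℂ)⁻¹ * ∑ᶠ g : G, χ (g * g)

theorem ind_eq {G : Type*} [Group G] [Fintype G] (χ : G → ℂ) :
    ind χ = (Nat.card G : ℂ)⁻¹ * ∑ g : G, χ (g * g) := by
  rw [ind, finsum_eq_sum_of_fintype]

theorem sq_eq_one {G : Type*} [Group G] [Finite G] {f : G →* ℂˣ}
    (h : ind (fun g => (f g : ℂ)) = 1) (g : G) : f g * f g = 1 := by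
  classical
  have := Fintype.ofFinite G
  rw [ind_eq] at h
  set S : ℂ := ∑ g : G, (f (g * g) : ℂ) with hS
  have hS0 : S ≠ 0 := by
    intro h0
    rw [h0, mul_zero] at h
    exact zero_ne_one h
  have h1 : ((f g : ℂ) * (f g : ℂ)) * S = S := by
    rw [hS, Finset.mul_sum]
    refine Fintype.sum_equiv (Equiv.mulLeft g) _ _ fun x => ?_
    simp only [Equiv.coe_mulLeft, map_mul, Units.val_mul]
    ring
  have h2 : ((f g : ℂ) * (f g : ℂ) - 1) * S = 0 := by linear_combination h1
  have h3 := sub_eq_zero.1 ((mul_eq_zero.1 h2).resolve_right hS0)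
  exact Units.ext (by rw [Units.val_mul, h3, Units.val_one])

/-- Characters of indicator one are real. -/
theorem real_of_ind {G : Type*} [Group G] [Finite G] {χ : G → ℂ} (hχ : IsIrrCharacter G χ)
    (h : ind χ = 1) (g : G) : (χ g).im = 0 := by
  classical
  have := Fintype.ofFinite G
  obtain ⟨n, ρ, hρ, rfl⟩ := hχ
  rw [ind_eq] at h
  by_contra hg
  have h1 := (Cfsg.Agent.S0158.result ρ).2.2 ⟨g, hg⟩
  rw [h] at h1
  exact one_ne_zero h1

/-- An induced function of a real function is real. -/
theorem real_indFun {G : Type u} [Group G] [Fintype G] (I : Subgroup G) {ψ : I → ℂ}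
    (h : ∀ t, (ψ t).im = 0) (g : G) : (indFun I ψ g).im = 0 := by
  have h1 := congrFun (Cfsg.Agent.OddOrderCharacters.IndRes.conj_indFun I ψ) g
  have h2 : (fun t => conj (ψ t)) = ψ := funext fun t => Complex.conj_eq_iff_im.2 (h t)
  rw [h2] at h1
  exact Complex.conj_eq_iff_im.1 h1

/-- Induced characters of indicator one. -/
theorem ind_indFun {G : Type u} [Group G] [Fintype G] (I : Subgroup G) [Fintype I] {ψ : I → ℂ}
    (hψ : IsIrrCharacter I ψ) (hi : IsIrrCharacter G (indFun I ψ)) (h : ind ψ = 1) :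
    ind (indFun I ψ) = 1 := by
  rw [ind_eq]
  rw [ind_eq] at h
  refine Cfsg.Agent.H705.Indicator.indicator_restrict I.subtype hi
    (real_indFun I (real_of_ind hψ (by rw [ind_eq]; exact h))) hψ h ?_
  have h1 := Cfsg.Agent.OddOrderCharacters.Clifford.classInner_indFun I ψ (indFun I ψ)
    (isIrr_isClassFunction hi)
  rw [classInner_irr_self hi] at h1
  rw [← classInner_conj_symm]
  have h2 : classInner ψ (fun h : I => indFun I ψ (I.subtype h)) = 1 := h1.symm
  rw [h2, map_one]

/-- **The counting lemma.** -/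
theorem main {G : Type u} [Group G] [Finite G] (N : Subgroup G) [hN : N.Normal]
    (hperf : ⁅N, N⁆ = N) (φ : N → ℂ) (hφ : IsIrrCharacter N φ) (I : Subgroup G)
    (hI : ∀ g, g ∈ I ↔ conjFn N φ g = φ) (hNI : N ≤ I) (ψ : I → ℂ) (hψ : IsIrrCharacter I ψ)
    (hν : ind ψ = 1) (hext : resTo hNI ψ = φ) :
    Nat.card {χ : IrrCharacter G // charDegree (χ : G → ℂ) = 1 ∧ ind (χ : G → ℂ) = 1} ≤
      I.index * Nat.card {χ : IrrCharacter G //
        charDegree (χ : G → ℂ) = charDegree φ * I.index ∧ ind (χ : G → ℂ) = 1} := by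
  classical
  have := Fintype.ofFinite G
  have := Fintype.ofFinite N
  have := Fintype.ofFinite I
  have hfinG : Finite (IrrCharacter G) := finite_irr
  let A := {χ : IrrCharacter G // charDegree (χ : G → ℂ) = 1 ∧ ind (χ : G → ℂ) = 1}
  let B := {χ : IrrCharacter G //
        charDegree (χ : G → ℂ) = charDegree φ * I.index ∧ ind (χ : G → ℂ) = 1}
  have hA : ∀ a : A, ∃ f : G →* ℂˣ, (a.1 : G → ℂ) = fun g => (f g : ℂ) := by
    intro a
    refine Cfsg.Agent.Characters.Linear.exists_hom_of_isIrrCharacter a.1.2 ?_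
    rw [Cfsg.Agent.Blocks.Basic.irr_one_eq_charDegree a.1.2, a.2.1, Nat.cast_one]
  choose f hf using hA
  have hfsq : ∀ (a : A) (g : G), f a g * f a g = 1 := by
    intro a g
    refine sq_eq_one ?_ g
    rw [← hf a]
    exact a.2.2
  have hfN : ∀ (a : A) (n : G), n ∈ N → f a n = 1 := by
    intro a n hn
    have h1 : n ∈ commutator G := by
      rw [← hperf] at hn
      exact Subgroup.commutator_mono le_top le_top hn
    exact MonoidHom.mem_ker.1 (Abelianization.commutator_subset_ker (f a) h1)
  let ps : A → I → ℂ := fun a t => ((f a).comp I.subtype t : ℂ) * ψ t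
  have hps : ∀ a, IsIrrCharacter I (ps a) := fun a =>
    Cfsg.Agent.OddOrderCharacters.InertiaAbelian.isIrr_mul_hom _ hψ
  have hpsres : ∀ a, resTo hNI (ps a) = φ := by
    intro a
    rw [← hext]
    funext n
    show (f a (n : G) : ℂ) * ψ ⟨n, hNI n.2⟩ = ψ ⟨n, hNI n.2⟩
    rw [hfN a n n.2, Units.val_one, one_mul]
  have hpsind : ∀ a, ind (ps a) = 1 := by
    intro a
    rw [← hν, ind_eq, ind_eq]
    congr 1
    refine Finset.sum_congr rfl fun t _ => ?_
    show (f a ((t * t : I) : G) : ℂ) * ψ (t * t) = ψ (t * t)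
    rw [Subgroup.coe_mul, map_mul, hfsq, Units.val_one, one_mul]
  have h0 : ∀ a, classInner (resTo hNI (ps a)) φ ≠ 0 := by
    intro a
    rw [hpsres, classInner_irr_self hφ]
    exact one_ne_zero
  have hirr : ∀ a, IsIrrCharacter G (indFun I (ps a)) := fun a =>
    irr_ind hφ hI hNI (hps a) (h0 a)
  have hdeg : ∀ a, charDegree (indFun I (ps a)) = charDegree φ * I.index := by
    intro a
    have h1 := Cfsg.Agent.OddOrderCharacters.IndRes.indFun_apply_one (H := I) (ps a)
    have h2 : ps a 1 = φ 1 := by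
      have := congrFun (hpsres a) 1
      rw [← this]
      rfl
    rw [h2, Cfsg.Agent.Blocks.Basic.irr_one_eq_charDegree hφ,
      Cfsg.Agent.Blocks.Basic.irr_one_eq_charDegree (hirr a)] at h1
    rw [mul_comm]
    exact_mod_cast h1
  let F : A → B := fun a => ⟨⟨indFun I (ps a), hirr a⟩, hdeg a, ind_indFun I (hps a) (hirr a)
    (hpsind a)⟩
  have hfinA : Finite A := inferInstance
  have hfinB : Finite B := inferInstance
  have := Fintype.ofFinite A
  have := Fintype.ofFinite B
  have hfib : ∀ b : B, (Finset.univ.filter fun a : A => F a = b).card ≤ I.index := by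
    intro b
    rcases (Finset.univ.filter fun a : A => F a = b).eq_empty_or_nonempty with he | ⟨a₀, ha₀⟩
    · rw [he]; exact Nat.zero_le _
    · have ha₀' : F a₀ = b := (Finset.mem_filter.1 ha₀).2
      let X := {f : G →* ℂˣ // ∀ t ∈ I, f t = 1}
      have hkey : ∀ a : {a : A // F a = b}, ∀ t ∈ I, (f a.1 * (f a₀)⁻¹) t = 1 := by
        intro a t ht
        have h1 : indFun I (ps a.1) = indFun I (ps a₀) := by
          have h2 : F a.1 = F a₀ := a.2.trans ha₀'.symm
          exact congrArg (fun x : B => (x.1 : G → ℂ)) h2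
        have h2 := ind_inj hφ hI hNI (hps a.1) (hps a₀) (h0 a.1) (h0 a₀) h1
        have hnorm : (N.subgroupOf I).Normal := inferInstance
        have hψN : IsIrrCharacter (N.subgroupOf I) (fun n : N.subgroupOf I => ψ n) := by
          have h3 : (fun n : N.subgroupOf I => ψ n) =
              φ ∘ (Subgroup.subgroupOfEquivOfLe hNI : N.subgroupOf I ≃* N) := by
            funext n
            rw [← hext]
            rfl
          rw [h3]
          exact isIrr_comp (Subgroup.subgroupOfEquivOfLe hNI : N.subgroupOf I ≃* N).toMonoidHom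
            (Subgroup.subgroupOfEquivOfLe hNI : N.subgroupOf I ≃* N).surjective hφ
        have h3 : (f a.1).comp I.subtype = (f a₀).comp I.subtype :=
          eq_of_mul_eq (N.subgroupOf I) hψ hψN
            (fun n hn => hfN _ _ (Subgroup.mem_subgroupOf.1 hn))
            (fun n hn => hfN _ _ (Subgroup.mem_subgroupOf.1 hn)) (fun t => congrFun h2 t)
        have h4 : f a.1 t = f a₀ t := DFunLike.congr_fun h3 ⟨t, ht⟩
        rw [MonoidHom.mul_apply, MonoidHom.inv_apply, h4, mul_inv_cancel]
      have hfinX : Finite X := by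
        have : Finite (G →* ℂˣ) := Finite.of_injective
          (fun f : G →* ℂˣ => (⟨fun g => (f g : ℂ),
            Cfsg.Agent.Characters.Linear.isIrrCharacter_hom f⟩ : IrrCharacter G)) (by
            intro f f' h
            refine MonoidHom.ext fun g => Units.ext ?_
            exact congrFun (congrArg Subtype.val h) g)
        infer_instance
      have h1 : Nat.card {a : A // F a = b} ≤ Nat.card X := by
        refine Nat.card_le_card_of_injective
          (fun a : {a : A // F a = b} => (⟨f a.1 * (f a₀)⁻¹, hkey a⟩ : X)) ?_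
        intro a a' haa
        have h2 : f a.1 * (f a₀)⁻¹ = f a'.1 * (f a₀)⁻¹ := congrArg Subtype.val haa
        have h3 : f a.1 = f a'.1 := mul_right_cancel h2
        refine Subtype.ext (Subtype.ext (Subtype.ext ?_))
        rw [hf, hf, h3]
      have h2 := h1.trans (card_hom_le I)
      rw [Nat.card_eq_fintype_card, Fintype.card_subtype] at h2
      exact h2
  have h1 := Finset.card_le_mul_card_image_of_maps_to (s := (Finset.univ : Finset A))
    (t := (Finset.univ : Finset B)) (f := F) (fun a _ => Finset.mem_univ _) I.index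
    (fun b _ => hfib b)
  rw [Finset.card_univ, Finset.card_univ, ← Nat.card_eq_fintype_card,
    ← Nat.card_eq_fintype_card] at h1
  exact h1

end Cfsg.Agent.H705.StrongLin
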