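import Cfsg.Agent.H593.GlaubermanP2
import Cfsg.Agent.S0160
import Cfsg.Agent.Blocks.ExistsModular
import Cfsg.Agent.Characters.CentralCharacter

/-!
# Invariant real characters and invariant real classes under a coprime `p`-group action
-/

set_option autoImplicit false

namespace Cfsg.Agent.H705.RealCount

open Cfsg
open scoped ComplexConjugate
open Cfsg.Agent.H593.GlaubermanP
open Cfsg.Agent.Characters.Core

variable {K : Type*} [Group K] [Finite K] {S : Type*} [Group S] [MulDistribMulAction S K]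

/-- The complex conjugate of an irreducible character. -/
noncomputable def cj {K : Type*} [Group K] [Finite K] (χ : IrrCharacter K) : IrrCharacter K :=
  ⟨fun g => conj ((χ : K → ℂ) g), isIrr_conj χ.2⟩

theorem cj_eq_iff (χ : IrrCharacter K) : cj χ = χ ↔ ∀ g : K, ((χ : K → ℂ) g).im = 0 := by
  constructor
  · intro h g
    have := congrFun (congrArg Subtype.val h) g
    exact Complex.conj_eq_iff_im.1 this
  · intro h
    refine Subtype.ext (funext fun g => ?_)
    exact Complex.conj_eq_iff_im.2 (h g)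

theorem inv_cj {χ : IrrCharacter K} (h : Inv S (χ : K → ℂ)) : Inv S ((cj χ : IrrCharacter K) : K → ℂ) := by
  intro s g
  show conj ((χ : K → ℂ) (s • g)) = conj ((χ : K → ℂ) g)
  rw [h s g]

section corr

variable [Fintype K] {D : Type*} [Group D] [Fintype D] {ι : D →* K} {p : ℕ} [Fact p.Prime]
  {M : Ideal AlgInt}

theorem rel_cj (h : Setup S ι p) (hM : IsPModular p M) {χ : IrrCharacter K} {β : IrrCharacter D}
    (hb : ¬ MemLocalIdeal M (b ι χ β)) : ¬ MemLocalIdeal M (b ι (cj χ) (cj β)) := by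
  obtain ⟨m, hm⟩ := exists_mult (ι := ι) χ β
  have hm' : classInner (((cj χ : IrrCharacter K) : K → ℂ) ∘ ι) ((cj β : IrrCharacter D) : D → ℂ) = m := by
    have h1 : classInner (((cj χ : IrrCharacter K) : K → ℂ) ∘ ι) ((cj β : IrrCharacter D) : D → ℂ) =
        conj (classInner ((χ : K → ℂ) ∘ ι) (β : D → ℂ)) := by
      simp only [classInner, map_mul, map_sum, map_inv₀, Complex.conj_natCast]
      rfl
    rw [h1, hm, Complex.conj_natCast]
  rw [good_iff h hM hm] at hb
  rw [good_iff h hM hm']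
  exact hb

theorem card_real_irr (h : Setup S ι p) :
    Nat.card {θ : IrrCharacter K // (∀ k, ((θ : K → ℂ) k).im = 0) ∧ Inv S (θ : K → ℂ)} =
      Nat.card {β : IrrCharacter D // ∀ d, ((β : D → ℂ) d).im = 0} := by
  classical
  obtain ⟨M, hM⟩ := Cfsg.Agent.Blocks.ExistsModular.exists_isPModular (Fact.out : p.Prime)
  choose f hf using fun χ : IrrCharacter K => exists_beta h hM χ
  have hreal : ∀ χ : IrrCharacter K, Inv S (χ : K → ℂ) → cj χ = χ → cj (f χ) = f χ := by
    intro χ hχ hc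
    have h1 := rel_cj h hM (hf χ)
    rw [hc] at h1
    exact unique_beta h hM hχ h1 (hf χ)
  refine Nat.card_congr (Equiv.ofBijective (fun θ => ⟨f θ.1, ?_⟩) ⟨?_, ?_⟩)
  · exact (cj_eq_iff _).1 (hreal θ.1 θ.2.2 ((cj_eq_iff _).2 θ.2.1))
  · intro θ θ' hθ
    have h1 : f θ.1 = f θ'.1 := congrArg Subtype.val hθ
    refine Subtype.ext ?_
    have h2 := hf θ'.1
    rw [← h1] at h2
    exact unique_chi h hM θ.2.2 θ'.2.2 (hf θ.1) h2
  · rintro ⟨β, hβ⟩
    obtain ⟨χ, hχ, hb⟩ := exists_chi h hM β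
    have hβ' : cj β = β := (cj_eq_iff β).2 hβ
    have h1 := rel_cj h hM hb
    rw [hβ'] at h1
    have h2 : cj χ = χ := unique_chi h hM (inv_cj hχ) hχ h1 hb
    refine ⟨⟨χ, (cj_eq_iff χ).1 h2, hχ⟩, Subtype.ext ?_⟩
    exact unique_beta h hM hχ (hf χ) hb

/-- An invariant class contains a fixed element. -/
theorem exists_fixed (h : Setup S ι p) {k : K} (hk : ∀ s : S, IsConj k (s • k)) :
    ∃ d : D, IsConj k (ι d) := by
  classical
  let X := {x : K // IsConj k x}
  let _ : MulAction S X :=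
    { smul := fun s x => ⟨s • (x : K), by
        obtain ⟨c, hc⟩ := isConj_iff.1 x.2
        refine (hk s).trans (isConj_iff.2 ⟨s • c, ?_⟩)
        rw [← smul_inv', ← smul_mul', ← smul_mul', hc]⟩
      one_smul := fun x => Subtype.ext (one_smul S (x : K))
      mul_smul := fun s t x => Subtype.ext (mul_smul s t (x : K)) }
  have hcoe : ∀ (s : S) (x : X), ((s • x : X) : K) = s • (x : K) := fun _ _ => rfl
  have hdvd : Nat.card X ∣ Nat.card K := by
    have h1 : Nat.card X = (Subgroup.centralizer ({k} : Set K)).index :=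
      (Cfsg.Agent.Characters.CentralCharacter.index_centralizer_eq_card k).symm
    rw [h1]
    exact Subgroup.index_dvd_card _
  have hnd : ¬ p ∣ Nat.card X := fun hd => h.ndvd (hd.trans hdvd)
  have : Finite X := inferInstance
  obtain ⟨x, hx⟩ := h.pgroup.nonempty_fixed_point_of_prime_not_dvd_card X hnd
  obtain ⟨d, hd⟩ := (h.fixed (x : K)).1 (fun s => by
    rw [← hcoe]; exact congrArg Subtype.val (hx s))
  exact ⟨d, by rw [hd]; exact x.2⟩

theorem card_real_classes (h : Setup S ι p) :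
    Nat.card {C : ConjClasses D // ∀ g : D, ConjClasses.mk g = C → IsConj g g⁻¹} =
      Nat.card {C : ConjClasses K // (∀ k : K, ConjClasses.mk k = C → IsConj k k⁻¹) ∧
        ∀ k : K, ConjClasses.mk k = C → ∀ s : S, ConjClasses.mk (s • k) = C} := by
  classical
  refine Nat.card_congr (Equiv.ofBijective (fun C => ⟨ConjClasses.map ι C.1, ?_, ?_⟩) ⟨?_, ?_⟩)
  · obtain ⟨C, hC⟩ := C
    obtain ⟨d, rfl⟩ := ConjClasses.exists_rep C
    intro k hk
    have h1 : IsConj k (ι d) := ConjClasses.mk_eq_mk_iff_isConj.1 hk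
    have h2 : IsConj (ι d) (ι d)⁻¹ := by
      rw [← map_inv]
      exact ι.map_isConj (hC d rfl)
    have h3 : IsConj (ι d)⁻¹ k⁻¹ := by
      obtain ⟨c, hc⟩ := isConj_iff.1 h1
      exact (isConj_iff.2 ⟨c, by rw [← hc]; group⟩ : IsConj k⁻¹ (ι d)⁻¹).symm
    exact (h1.trans h2).trans h3
  · obtain ⟨C, hC⟩ := C
    obtain ⟨d, rfl⟩ := ConjClasses.exists_rep C
    intro k hk s
    have h1 : IsConj k (ι d) := ConjClasses.mk_eq_mk_iff_isConj.1 hk
    refine ConjClasses.mk_eq_mk_iff_isConj.2 ?_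
    obtain ⟨c, hc⟩ := isConj_iff.1 h1
    refine isConj_iff.2 ⟨s • c, ?_⟩
    rw [← smul_inv', ← smul_mul', ← smul_mul', hc, h.smul]
  · intro C C' hCC
    obtain ⟨C, hC⟩ := C
    obtain ⟨C', hC'⟩ := C'
    obtain ⟨d, rfl⟩ := ConjClasses.exists_rep C
    obtain ⟨d', rfl⟩ := ConjClasses.exists_rep C'
    have h1 : ConjClasses.mk (ι d) = ConjClasses.mk (ι d') := congrArg Subtype.val hCC
    exact Subtype.ext (ConjClasses.mk_eq_mk_iff_isConj.2
      (fusion h (ConjClasses.mk_eq_mk_iff_isConj.1 h1)))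
  · rintro ⟨C, hC, hC'⟩
    obtain ⟨k, rfl⟩ := ConjClasses.exists_rep C
    obtain ⟨d, hd⟩ := exists_fixed h (k := k) fun s =>
      (ConjClasses.mk_eq_mk_iff_isConj.1 (hC' k rfl s)).symm
    have hd' : ConjClasses.mk (ι d) = ConjClasses.mk k :=
      (ConjClasses.mk_eq_mk_iff_isConj.2 hd).symm
    refine ⟨⟨ConjClasses.mk d, fun g hg => ?_⟩, Subtype.ext hd'⟩
    have h1 : IsConj (ι d) (ι d)⁻¹ := hC _ hd'
    rw [← map_inv] at h1
    have h2 : IsConj d d⁻¹ := fusion h h1
    have h3 : IsConj g d := ConjClasses.mk_eq_mk_iff_isConj.1 hg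
    have h4 : IsConj d⁻¹ g⁻¹ := by
      obtain ⟨c, hc⟩ := isConj_iff.1 h3
      exact (isConj_iff.2 ⟨c, by rw [← hc]; group⟩ : IsConj g⁻¹ d⁻¹).symm
    exact (h3.trans h2).trans h4

/-- **Invariant real characters and invariant real classes**, with the fixed points given. -/
theorem card_eq_of_setup (h : Setup S ι p) :
    Nat.card {θ : IrrCharacter K // (∀ k, ((θ : K → ℂ) k).im = 0) ∧ Inv S (θ : K → ℂ)} =
      Nat.card {C : ConjClasses K // (∀ k : K, ConjClasses.mk k = C → IsConj k k⁻¹) ∧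
        ∀ k : K, ConjClasses.mk k = C → ∀ s : S, ConjClasses.mk (s • k) = C} := by
  rw [card_real_irr h, Cfsg.Agent.S0160.result, card_real_classes h]

end corr

variable (S) in
/-- The fixed points of the operator group. -/
def fix : Subgroup K where
  carrier := {k | ∀ s : S, s • k = k}
  one_mem' := fun s => smul_one s
  mul_mem' := fun {a b} ha hb s => by rw [smul_mul', ha s, hb s]
  inv_mem' := fun {a} ha s => by rw [smul_inv', ha s]

omit [Finite K] in
theorem setup_fix {p : ℕ} (hS : IsPGroup p S) (hK : ¬ p ∣ Nat.card K) :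
    Setup S (fix S (K := K)).subtype p where
  inj := Subtype.val_injective
  fixed := fun g => ⟨fun hg => ⟨⟨g, hg⟩, rfl⟩, by rintro ⟨c, rfl⟩; exact c.2⟩
  pgroup := hS
  ndvd := hK

theorem card_eq {p : ℕ} [Fact p.Prime] (hS : IsPGroup p S) (hK : ¬ p ∣ Nat.card K) :
    Nat.card {θ : IrrCharacter K // (∀ k, ((θ : K → ℂ) k).im = 0) ∧ Inv S (θ : K → ℂ)} =
      Nat.card {C : ConjClasses K // (∀ k : K, ConjClasses.mk k = C → IsConj k k⁻¹) ∧
        ∀ k : K, ConjClasses.mk k = C → ∀ s : S, ConjClasses.mk (s • k) = C} := by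
  classical
  have := Fintype.ofFinite K
  have := Fintype.ofFinite (fix S (K := K))
  exact card_eq_of_setup (setup_fix hS hK)

/-- If every real irreducible character is invariant, every real element is conjugate to a
fixed element. -/
theorem exists_fixed_of_real {p : ℕ} [Fact p.Prime] (hS : IsPGroup p S) (hK : ¬ p ∣ Nat.card K)
    (hinv : ∀ θ : IrrCharacter K, (∀ k, ((θ : K → ℂ) k).im = 0) → Inv S (θ : K → ℂ))
    {k : K} (hk : IsConj k k⁻¹) : ∃ k' : K, IsConj k k' ∧ ∀ s : S, s • k' = k' := by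
  classical
  have := Fintype.ofFinite K
  have := Fintype.ofFinite (fix S (K := K))
  have h1 := card_eq (S := S) hS hK
  have h2 : Nat.card {θ : IrrCharacter K // (∀ k, ((θ : K → ℂ) k).im = 0) ∧ Inv S (θ : K → ℂ)} =
      Nat.card {θ : IrrCharacter K // ∀ k, ((θ : K → ℂ) k).im = 0} :=
    Nat.card_congr (Equiv.subtypeEquivRight fun θ => ⟨fun h => h.1, fun h => ⟨h, hinv θ h⟩⟩)
  rw [h2, Cfsg.Agent.S0160.result] at h1
  have hfin : Finite (ConjClasses K) := Quotient.finite _
  have hall : ∀ C : ConjClasses K, (∀ k : K, ConjClasses.mk k = C → IsConj k k⁻¹) →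
      ∀ k : K, ConjClasses.mk k = C → ∀ s : S, ConjClasses.mk (s • k) = C := by
    intro C hC
    let f : {C : ConjClasses K // (∀ k : K, ConjClasses.mk k = C → IsConj k k⁻¹) ∧
        ∀ k : K, ConjClasses.mk k = C → ∀ s : S, ConjClasses.mk (s • k) = C} →
        {C : ConjClasses K // ∀ g : K, ConjClasses.mk g = C → IsConj g g⁻¹} :=
      fun C => ⟨C.1, C.2.1⟩
    have hf : Function.Injective f := fun C C' hCC =>
      Subtype.ext (congrArg (fun t : {C : ConjClasses K // ∀ g : K, ConjClasses.mk g = C →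
        IsConj g g⁻¹} => t.1) hCC)
    have hb : Function.Bijective f := by
      refine (Nat.bijective_iff_injective_and_card f).2 ⟨hf, h1.symm⟩
    obtain ⟨C', hC'⟩ := hb.2 ⟨C, hC⟩
    have h3 : C'.1 = C := congrArg Subtype.val hC'
    rw [← h3]
    exact C'.2.2
  have hreal : ∀ x : K, ConjClasses.mk x = ConjClasses.mk k → IsConj x x⁻¹ := by
    intro x hx
    have h3 : IsConj x k := ConjClasses.mk_eq_mk_iff_isConj.1 hx
    have h4 : IsConj k⁻¹ x⁻¹ := by
      obtain ⟨c, hc⟩ := isConj_iff.1 h3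
      exact (isConj_iff.2 ⟨c, by rw [← hc]; group⟩ : IsConj x⁻¹ k⁻¹).symm
    exact (h3.trans hk).trans h4
  obtain ⟨d, hd⟩ := exists_fixed (setup_fix hS hK) (k := k) fun s =>
    (ConjClasses.mk_eq_mk_iff_isConj.1 (hall _ hreal k rfl s)).symm
  exact ⟨_, hd, d.2⟩

end Cfsg.Agent.H705.RealCount
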