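import Mathlib

/-!
# Commutators of an automorphism with the elements of a group (helper705)

For an automorphism `a` of `S` the elements `(a s)⁻¹ * s` are the commutators `[x, s]` for `x` inducing `a`
(`x s x⁻¹ = a s`... up to inversion of `x`).

* `Bad p a` : every `(a s)⁻¹ * s` is trivial or has order divisible by `p`.
* `Com p S` : no nontrivial automorphism of `S` is `Bad p`.
* `Bad.fix`, `Bad.fix_invariant`, `Bad.card_le` : the elementary tools.
-/

set_option autoImplicit false

namespace Cfsg.Agent.H705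

variable {S : Type*} [Group S]

/-- Every commutator `(a s)⁻¹ * s` is trivial or `p`-singular. -/
def Bad (p : ℕ) (a : MulAut S) : Prop := ∀ s : S, (a s)⁻¹ * s = 1 ∨ p ∣ orderOf ((a s)⁻¹ * s)

/-- For every nontrivial automorphism `a` some commutator `(a s)⁻¹ * s` is nontrivial of order prime to `p`. -/
def Com (p : ℕ) (S : Type*) [Group S] : Prop :=
  ∀ a : MulAut S, a ≠ 1 → ∃ s : S, (a s)⁻¹ * s ≠ 1 ∧ ¬ p ∣ orderOf ((a s)⁻¹ * s)

theorem com_iff {p : ℕ} : Com p S ↔ ∀ a : MulAut S, Bad p a → a = 1 := by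
  unfold Com Bad
  constructor
  · intro h a ha
    by_contra hne
    obtain ⟨s, h1, h2⟩ := h a hne
    rcases ha s with h3 | h3
    · exact h1 h3
    · exact h2 h3
  · intro h a hne
    by_contra hcon
    push Not at hcon
    apply hne
    apply h
    intro s
    by_cases h1 : (a s)⁻¹ * s = 1
    · exact Or.inl h1
    · exact Or.inr (hcon s h1)

variable {p : ℕ} {a : MulAut S}

/-- If `h` and `a h` lie in a common subgroup of order prime to `p` then `a` fixes `h`. -/
theorem Bad.fix (ha : Bad p a) (hp : p ≠ 1) {K : Subgroup S} (hK : (Nat.card K).Coprime p) {h : S}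
    (h1 : h ∈ K) (h2 : a h ∈ K) : a h = h := by
  have hm : (a h)⁻¹ * h ∈ K := mul_mem (inv_mem h2) h1
  rcases ha h with h3 | h3
  · exact inv_mul_eq_one.1 h3
  · exfalso
    have h4 : orderOf ((a h)⁻¹ * h) ∣ Nat.card K := by
      have h5 := orderOf_dvd_natCard (⟨_, hm⟩ : K)
      rwa [← Subgroup.orderOf_coe] at h5
    exact hp (Nat.eq_one_of_dvd_coprimes hK (h3.trans h4) dvd_rfl)

/-- The same for a `q`-subgroup, `q ≠ p` primes. -/
theorem Bad.fix_of_isPGroup (ha : Bad p a) (hp : p.Prime) {q : ℕ} (hq : q.Prime) (hqp : q ≠ p) {K : Subgroup S}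
    (hK : IsPGroup q K) {h : S} (h1 : h ∈ K) (h2 : a h ∈ K) : a h = h := by
  have hm : (a h)⁻¹ * h ∈ K := mul_mem (inv_mem h2) h1
  rcases ha h with h3 | h3
  · exact inv_mul_eq_one.1 h3
  · exfalso
    obtain ⟨k, hk⟩ := hK ⟨_, hm⟩
    have hk' : ((a h)⁻¹ * h) ^ q ^ k = 1 := by simpa using congrArg Subtype.val hk
    have h4 : p ∣ q ^ k := h3.trans (orderOf_dvd_of_pow_eq_one hk')
    have h5 := hp.dvd_of_dvd_pow h4
    exact hqp ((Nat.prime_dvd_prime_iff_eq hp hq).1 h5).symm

/-- The subgroup of fixed points. -/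
def fixS (a : MulAut S) : Subgroup S where
  carrier := {s | a s = s}
  one_mem' := map_one a
  mul_mem' := fun {x y} hx hy => by
    show a (x * y) = x * y
    rw [map_mul, show a x = x from hx, show a y = y from hy]
  inv_mem' := fun {x} hx => by
    show a x⁻¹ = x⁻¹
    rw [map_inv, show a x = x from hx]

theorem mem_fixS {s : S} : s ∈ fixS a ↔ a s = s := Iff.rfl

/-- Counting: if `a` is bad then the fixed points are at least as many as the elements of any subgroup of order
prime to `p`. -/
theorem Bad.card_le [Finite S] (ha : Bad p a) (hp : p ≠ 1) (K : Subgroup S) (hK : (Nat.card K).Coprime p) :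
    Nat.card K ≤ Nat.card (fixS a) := by
  classical
  -- the map `s ↦ a s * s⁻¹` has fibres the left cosets of `fixS a`; its image meets every coset `g K` at most once
  let f : S ⧸ fixS a → S ⧸ K := Quotient.lift (fun s : S => (QuotientGroup.mk (a s * s⁻¹) : S ⧸ K)) (by
    intro s t hst
    have h1 : s⁻¹ * t ∈ fixS a := QuotientGroup.leftRel_apply.1 hst
    have h2 : (a s)⁻¹ * a t = s⁻¹ * t := by
      have := mem_fixS.1 h1
      rwa [map_mul, map_inv] at this
    have h3 : a t * t⁻¹ = a s * s⁻¹ := by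
      have h4 : a t = a s * (s⁻¹ * t) := by rw [← h2, mul_inv_cancel_left]
      rw [h4]
      group
    show (QuotientGroup.mk (a s * s⁻¹) : S ⧸ K) = QuotientGroup.mk (a t * t⁻¹)
    rw [h3])
  have hinj : Function.Injective f := by
    intro x y
    induction x using QuotientGroup.induction_on with
    | H s =>
      induction y using QuotientGroup.induction_on with
      | H t =>
        intro h
        have h1 : (QuotientGroup.mk (a s * s⁻¹) : S ⧸ K) = QuotientGroup.mk (a t * t⁻¹) := h
        rw [QuotientGroup.eq] at h1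
        -- `s * (a s)⁻¹ * a t * t⁻¹ ∈ K`
        have h3 : (a s * s⁻¹)⁻¹ * (a t * t⁻¹) = s * ((a (t⁻¹ * s))⁻¹ * (t⁻¹ * s)) * s⁻¹ := by
          rw [map_mul, map_inv]
          group
        rw [h3] at h1
        rcases ha (t⁻¹ * s) with h4 | h4
        · have h5 : t⁻¹ * s ∈ fixS a := mem_fixS.2 (inv_mul_eq_one.1 h4)
          exact (QuotientGroup.eq.2 h5).symm
        · exfalso
          have h5 : orderOf (s * ((a (t⁻¹ * s))⁻¹ * (t⁻¹ * s)) * s⁻¹) = orderOf ((a (t⁻¹ * s))⁻¹ * (t⁻¹ * s)) := by
            have := MulEquiv.orderOf_eq (MulAut.conj s) ((a (t⁻¹ * s))⁻¹ * (t⁻¹ * s))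
            simpa using this
          have h6 : orderOf (s * ((a (t⁻¹ * s))⁻¹ * (t⁻¹ * s)) * s⁻¹) ∣ Nat.card K := by
            have h7 := orderOf_dvd_natCard (⟨_, h1⟩ : K)
            rwa [← Subgroup.orderOf_coe] at h7
          rw [h5] at h6
          exact hp (Nat.eq_one_of_dvd_coprimes hK (h4.trans h6) dvd_rfl)
  have h1 : Nat.card (S ⧸ fixS a) ≤ Nat.card (S ⧸ K) := Nat.card_le_card_of_injective f hinj
  have h2 := (fixS a).card_eq_card_quotient_mul_card_subgroup
  have h3 := K.card_eq_card_quotient_mul_card_subgroup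
  have h4 : 0 < Nat.card (S ⧸ fixS a) := Nat.card_pos
  have h5 : 0 < Nat.card (S ⧸ K) := Nat.card_pos
  by_contra hlt
  push Not at hlt
  have h6 : Nat.card (S ⧸ fixS a) * Nat.card (fixS a) < Nat.card (S ⧸ K) * Nat.card K :=
    lt_of_le_of_lt (Nat.mul_le_mul_right _ h1) (Nat.mul_lt_mul_of_pos_left hlt h5)
  omega

theorem Com.of_equiv {T : Type*} [Group T] (e : S ≃* T) (h : Com p T) : Com p S := by
  intro a ha
  obtain ⟨t, h1, h2⟩ := h ((e.symm.trans a).trans e) (by
    intro h1
    apply ha
    ext s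
    have h2 := DFunLike.congr_fun h1 (e s)
    simpa using h2)
  refine ⟨e.symm t, ?_, ?_⟩
  · intro h3
    apply h1
    have h4 := congrArg e h3
    simpa using h4
  · intro h3
    apply h2
    have h4 := MulEquiv.orderOf_eq e ((a (e.symm t))⁻¹ * e.symm t)
    rw [← h4] at h3
    simpa using h3

end Cfsg.Agent.H705
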