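import Cfsg.Agent.H705.ComOne

/-!
# `p`-singular elements of rank one groups have two fixed points (helper705)

`One.two_of_cyclic` : `p` odd, `p` not dividing the number of points, the two-point stabilisers cyclic and their elements of
order `p` with exactly two fixed points. Then every element of order divisible by `p` has two fixed points (otherwise a Sylow
`p`-subgroup would be central in its normaliser).
-/

set_option autoImplicit false
set_option linter.unusedSectionVars false

namespace Cfsg.Agent.H705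

namespace One

variable {r : ℕ} {K : Type*} [Group K] {Ω : Type*} [MulAction K Ω] (O : One r K Ω) [Finite K] [Finite Ω]

include O

/-- an element of prime order different from `r` with a fixed point has two fixed points -/
theorem exists_second (hr : r.Prime) {l : ℕ} (hl : l.Prime) (hlr : l ≠ r) {d : K} {k : ℕ} (hd : d ^ l ^ k = 1) {x : Ω}
    (hdx : d • x = x) : ∃ y, y ≠ x ∧ d • y = y := by
  classical
  have hfact : Fact l.Prime := ⟨hl⟩
  have hfr : Fact r.Prime := ⟨hr⟩
  have hlg : IsPGroup l (Subgroup.zpowers d) := isPGroup_zpowers hd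
  have hmod := hlg.card_modEq_card_fixedPoints (α := Ω)
  obtain ⟨n, hn⟩ := (IsPGroup.iff_card (p := r)).1 (O.isP x)
  have hcard := O.card_points x
  by_contra hno
  push Not at hno
  have h1 : MulAction.fixedPoints (Subgroup.zpowers d) Ω = {x} := by
    ext y
    rw [Set.mem_singleton_iff]
    constructor
    · intro hy
      by_contra hyx
      exact hno y hyx (hy ⟨d, Subgroup.mem_zpowers d⟩)
    · rintro rfl ⟨g, hg⟩
      obtain ⟨j, rfl⟩ := Subgroup.mem_zpowers_iff.1 hg
      exact MulAction.mem_stabilizer_iff.1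
        (zpow_mem (MulAction.mem_stabilizer_iff.2 hdx : d ∈ MulAction.stabilizer K y) j)
  rw [h1, Nat.card_coe_set_eq, Set.ncard_singleton, hcard, hn] at hmod
  have h2 : l ∣ r ^ n := by
    have h3 := (Nat.modEq_iff_dvd' (by omega)).1 hmod.symm
    simpa using h3
  exact hlr ((Nat.prime_dvd_prime_iff_eq hl hr).1 (hl.dvd_of_dvd_pow h2))

/-- **`p`-singular elements have two fixed points.** -/
theorem two_of_cyclic [hs : IsSimpleGroup K] (hsol : ¬ Group.IsSolvable K) [FaithfulSMul K Ω] (hr : r.Prime) {p : ℕ}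
    (hp : p.Prime) (hp2 : p ≠ 2) (hpr : p ≠ r) (hpΩ : ¬ p ∣ Nat.card Ω) {x₀ y₀ : Ω} (hxy : x₀ ≠ y₀)
    (hcyc : IsCyclic (O.st2 x₀ y₀))
    (hreg : ∀ t ∈ O.st2 x₀ y₀, orderOf t = p → ∀ z, t • z = z → z = x₀ ∨ z = y₀) {g : K} (hg : p ∣ orderOf g) :
    ∃ y z : Ω, y ≠ z ∧ g • y = y ∧ g • z = z := by
  classical
  have hfp : Fact p.Prime := ⟨hp⟩
  have hfr : Fact r.Prime := ⟨hr⟩
  -- an element of order `p` in `⟨g⟩`
  obtain ⟨m, hm⟩ := hg
  have hm0 : m ≠ 0 := by
    rintro rfl
    rw [mul_zero] at hm
    exact (orderOf_pos g).ne' hm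
  have hdo : orderOf (g ^ m) = p := by
    rw [orderOf_pow, hm, Nat.gcd_eq_right (Dvd.intro_left p rfl), Nat.mul_div_cancel _ (Nat.pos_of_ne_zero hm0)]
  have hdp : (g ^ m) ^ p ^ 1 = 1 := by
    rw [pow_one]
    conv_lhs => rw [← hdo]
    exact pow_orderOf_eq_one _
  obtain ⟨x, hx⟩ := (isPGroup_zpowers hdp).nonempty_fixed_point_of_prime_not_dvd_card Ω hpΩ
  have hx' : (g ^ m) • x = x := hx ⟨g ^ m, Subgroup.mem_zpowers _⟩
  obtain ⟨y, hyx, hy⟩ := O.exists_second hr hp hpr hdp hx'
  obtain ⟨c, hc, hc'⟩ := O.trans_two hxy (Ne.symm hyx)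
  -- move everything to `x₀`, `y₀`
  set e := c⁻¹ * g * c with he
  have hem : e ^ m = c⁻¹ * g ^ m * c := by
    rw [he]
    have := conj_pow (i := m) (a := c⁻¹) (b := g)
    rwa [inv_inv] at this
  have hex : (e ^ m) • x₀ = x₀ := by
    rw [hem, mul_smul, mul_smul, hc, hx', ← hc, inv_smul_smul]
  have hey : (e ^ m) • y₀ = y₀ := by
    rw [hem, mul_smul, mul_smul, hc', hy, ← hc', inv_smul_smul]
  have hemo : orderOf (e ^ m) = p := by
    have h1 : e ^ m = MulAut.conj c⁻¹ (g ^ m) := by
      rw [hem, MulAut.conj_apply, inv_inv]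
    rw [h1, MulEquiv.orderOf_eq, hdo]
  have hemH : e ^ m ∈ O.st2 x₀ y₀ := O.mem_st2.2 ⟨hex, hey⟩
  have hfix := hreg _ hemH hemo
  have hmove : ∀ z : Ω, z = x₀ ∨ z = y₀ → e • z = x₀ ∨ e • z = y₀ := by
    intro z hz
    apply hfix
    have h1 : (e ^ m) • z = z := by rcases hz with rfl | rfl <;> assumption
    rw [← mul_smul, ← pow_succ, pow_succ', mul_smul, h1]
  by_cases hcase : e • x₀ = x₀
  · -- `e` fixes both points
    have h1 : e • y₀ = y₀ := by
      rcases hmove y₀ (Or.inr rfl) with h2 | h2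
      · exact absurd (MulAction.injective e (hcase.trans h2.symm)) hxy
      · exact h2
    refine ⟨x, y, Ne.symm hyx, ?_, ?_⟩
    · have h2 : c • e • x₀ = g • c • x₀ := by rw [he, ← mul_smul, ← mul_smul]; congr 1; group
      rw [hcase, hc] at h2
      exact h2.symm
    · have h2 : c • e • y₀ = g • c • y₀ := by rw [he, ← mul_smul, ← mul_smul]; congr 1; group
      rw [h1, hc'] at h2
      exact h2.symm
  · exfalso
    have hex2 : e • x₀ = y₀ := (hmove x₀ (Or.inl rfl)).resolve_left hcase
    have hey2 : e • y₀ = x₀ := by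
      rcases hmove y₀ (Or.inr rfl) with h2 | h2
      · exact h2
      · exact absurd (MulAction.injective e (hex2.trans h2.symm)) hxy
    set H := O.st2 x₀ y₀ with hH
    have hHcomm : ∀ a ∈ H, ∀ b ∈ H, a * b = b * a := by
      intro a ha b hb
      obtain ⟨z, hz⟩ := hcyc.exists_generator
      obtain ⟨i, hi⟩ := Subgroup.mem_zpowers_iff.1 (hz ⟨a, ha⟩)
      obtain ⟨j, hj⟩ := Subgroup.mem_zpowers_iff.1 (hz ⟨b, hb⟩)
      have h1 : (⟨a, ha⟩ : H) * ⟨b, hb⟩ = ⟨b, hb⟩ * ⟨a, ha⟩ := by
        rw [← hi, ← hj, ← zpow_add, ← zpow_add, add_comm]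
      exact congrArg Subtype.val h1
    have hconj : ∀ h ∈ H, e * h * e⁻¹ ∈ H := by
      intro h hh
      obtain ⟨h1, h2⟩ := O.mem_st2.1 hh
      refine O.mem_st2.2 ⟨?_, ?_⟩
      · rw [mul_smul, mul_smul, inv_smul_eq_iff.2 hey2.symm, h2, hey2]
      · rw [mul_smul, mul_smul, inv_smul_eq_iff.2 hex2.symm, h1, hex2]
    -- conjugation by `e` is a power map on `H`
    let φ : H →* H :=
      { toFun := fun h => ⟨e * h * e⁻¹, hconj h h.2⟩
        map_one' := by apply Subtype.ext; simp
        map_mul' := fun a b => by apply Subtype.ext; simp }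
    obtain ⟨k, hk⟩ := φ.map_cyclic
    have hk' : ∀ h ∈ H, e * h * e⁻¹ = h ^ k := by
      intro h hh
      exact congrArg Subtype.val (hk ⟨h, hh⟩)
    have hee : e * e ∈ H := O.mem_st2.2 ⟨by rw [mul_smul, hex2, hey2], by rw [mul_smul, hey2, hex2]⟩
    have hkk : ∀ h ∈ H, h ^ (k * k) = h := by
      intro h hh
      have h1 : e * (e * h * e⁻¹) * e⁻¹ = h ^ (k * k) := by
        rw [hk' h hh, hk' _ (zpow_mem hh k), ← zpow_mul]
      have h2 : e * (e * h * e⁻¹) * e⁻¹ = h := by
        have h3 := hHcomm _ hee _ hh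
        calc e * (e * h * e⁻¹) * e⁻¹ = (e * e) * h * (e * e)⁻¹ := by group
          _ = h * (e * e) * (e * e)⁻¹ := by rw [h3]
          _ = h := by group
      rw [← h1, h2]
    -- `k ≡ 1` modulo `p`
    have hk1 : (p : ℤ) ∣ k - 1 := by
      have h1 := hk' _ hemH
      have h2 : e * e ^ m * e⁻¹ = e ^ m := by
        rw [← pow_succ', pow_succ, mul_inv_cancel_right]
      rw [h2] at h1
      have h3 : (e ^ m) ^ (k - 1) = 1 := by
        rw [zpow_sub, zpow_one, ← h1, mul_inv_cancel]
      rw [← hemo]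
      exact orderOf_dvd_iff_zpow_eq_one.2 h3
    have hcent : ∀ h ∈ H, (∃ j : ℕ, h ^ p ^ j = 1) → e * h * e⁻¹ = h := by
      rintro h hh ⟨j, hj⟩
      rw [hk' h hh]
      have h1 : h ^ ((k - 1) * (k + 1)) = 1 := by
        have : (k - 1) * (k + 1) = k * k - 1 := by ring
        rw [this, zpow_sub, hkk h hh, zpow_one, mul_inv_cancel]
      have h2 := orderOf_dvd_iff_zpow_eq_one.2 h1
      obtain ⟨i, -, hi⟩ := (Nat.dvd_prime_pow hp).1 (orderOf_dvd_of_pow_eq_one hj)
      have h3 : IsCoprime ((p : ℤ) ^ i) (k + 1) := by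
        apply IsCoprime.pow_left
        rw [(Nat.prime_iff_prime_int.1 hp).coprime_iff_not_dvd]
        intro h4
        have h5 : (p : ℤ) ∣ 2 := by
          have := dvd_sub h4 hk1
          have h6 : k + 1 - (k - 1) = 2 := by ring
          rwa [h6] at this
        have h7 : p ∣ 2 := by exact_mod_cast h5
        exact hp2 ((Nat.prime_dvd_prime_iff_eq hp Nat.prime_two).1 h7)
      have h4 : ((orderOf h : ℕ) : ℤ) ∣ k - 1 := by
        rw [hi] at h2 ⊢
        push_cast at h2 ⊢
        exact h3.dvd_of_dvd_mul_right h2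
      have h5 := orderOf_dvd_iff_zpow_eq_one.1 h4
      rw [zpow_sub, zpow_one] at h5
      exact mul_inv_eq_one.1 h5
    -- a Sylow subgroup of `K` in `H`
    let Q : Sylow p H := default
    have hQcard : Nat.card ((Q : Subgroup H).map H.subtype) = p ^ (Nat.card K).factorization p := by
      rw [Subgroup.card_map_of_injective (Subgroup.subtype_injective H), Q.card_eq_multiplicity]
      congr 1
      obtain ⟨n, hn⟩ := (IsPGroup.iff_card (p := r)).1 (O.isP x₀)
      have h1 := O.card_group hxy
      have h2 := O.card_points x₀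
      have h3 : Nat.card Ω - 1 = r ^ n := by omega
      have h4 : Nat.card Ω ≠ 0 := by omega
      rw [h1, h3, Nat.factorization_mul (mul_ne_zero h4 (pow_ne_zero _ hr.ne_zero)) Nat.card_pos.ne',
        Nat.factorization_mul h4 (pow_ne_zero _ hr.ne_zero), Finsupp.add_apply, Finsupp.add_apply,
        Nat.factorization_eq_zero_of_not_dvd hpΩ,
        Nat.factorization_eq_zero_of_not_dvd (n := r ^ n)
          (fun h => hpr ((Nat.prime_dvd_prime_iff_eq hp hr).1 (hp.dvd_of_dvd_pow h))), hH]
      simp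
    let P : Sylow p K := Sylow.ofCard _ hQcard
    have hPH : (P : Subgroup K) ≤ H := by
      show (Q : Subgroup H).map H.subtype ≤ H
      exact Subgroup.map_subtype_le _
    have hPK : p ∣ Nat.card (P : Subgroup K) := by
      show p ∣ Nat.card ((Q : Subgroup H).map H.subtype)
      rw [hQcard]
      apply dvd_pow_self
      have h1 : p ∣ Nat.card K := hdo ▸ orderOf_dvd_natCard (g ^ m)
      exact (Nat.Prime.factorization_pos_of_dvd hp Nat.card_pos.ne' h1).ne'
    obtain ⟨d, hd⟩ := exists_prime_orderOf_dvd_card' p hPK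
    have hdP : (d : K) ∈ (P : Subgroup K) := d.2
    have hdord : orderOf (d : K) = p := by rw [Subgroup.orderOf_coe, hd]
    have hNC : Subgroup.normalizer ((P : Subgroup K) : Set K) ≤ Subgroup.centralizer ((P : Subgroup K) : Set K) := by
      intro n hn
      have hdn : n⁻¹ * (d : K) * n ∈ H := by
        apply hPH
        have := (Subgroup.mem_normalizer_iff.1 (inv_mem hn) (d : K)).1 hdP
        rwa [inv_inv] at this
      obtain ⟨h1, h2⟩ := O.mem_st2.1 hdn
      have h3 : (d : K) • n • x₀ = n • x₀ := by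
        rw [mul_smul, mul_smul] at h1
        exact (inv_smul_eq_iff.1 h1)
      have h4 : (d : K) • n • y₀ = n • y₀ := by
        rw [mul_smul, mul_smul] at h2
        exact (inv_smul_eq_iff.1 h2)
      have h5 := hreg _ (hPH hdP) hdord _ h3
      have h6 := hreg _ (hPH hdP) hdord _ h4
      have hne : n • x₀ ≠ n • y₀ := fun h => hxy (MulAction.injective n h)
      rw [Subgroup.mem_centralizer_iff]
      intro h hh
      have hhH : h ∈ H := hPH hh
      by_cases hn0 : n • x₀ = x₀
      · have hn1 : n • y₀ = y₀ := by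
          rcases h6 with h6 | h6
          · exact absurd (hn0.trans h6.symm) hne
          · exact h6
        exact hHcomm h hhH n (O.mem_st2.2 ⟨hn0, hn1⟩)
      · have hn1 : n • x₀ = y₀ := h5.resolve_left hn0
        have hn2 : n • y₀ = x₀ := by
          rcases h6 with h6 | h6
          · exact h6
          · exact absurd (hn1.trans h6.symm) hne
        have hen : e⁻¹ * n ∈ H := by
          refine O.mem_st2.2 ⟨?_, ?_⟩
          · rw [mul_smul, hn1, inv_smul_eq_iff, hex2]
          · rw [mul_smul, hn2, inv_smul_eq_iff, hey2]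
        have hpord : ∃ j : ℕ, h ^ p ^ j = 1 := by
          obtain ⟨j, hj⟩ := P.2 ⟨h, hh⟩
          exact ⟨j, by simpa using congrArg Subtype.val hj⟩
        have h7 := hcent h hhH hpord
        have h8 := hHcomm _ hen _ hhH
        have h9 : n = e * (e⁻¹ * n) := by group
        have h10 : e * h = h * e := by
          calc e * h = e * h * e⁻¹ * e := by group
            _ = h * e := by rw [h7]
        rw [h9]
        calc h * (e * (e⁻¹ * n)) = (h * e) * (e⁻¹ * n) := by group
          _ = e * h * (e⁻¹ * n) := by rw [h10]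
          _ = e * (h * (e⁻¹ * n)) := by group
          _ = e * (e⁻¹ * n * h) := by rw [h8]
          _ = e * (e⁻¹ * n) * h := by group
    have hcompl := MonoidHom.ker_transferSylow_isComplement' P hNC
    have hnd := MonoidHom.not_dvd_card_ker_transferSylow P hNC
    rcases (inferInstance : (MonoidHom.transferSylow P hNC).ker.Normal).eq_bot_or_eq_top with h | h
    · -- `K` is a `p`-group
      have h1 := hcompl.card_mul_card
      rw [h, Subgroup.card_bot, one_mul] at h1
      have h2 : IsPGroup p K := by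
        refine IsPGroup.of_card (n := (Nat.card K).factorization p) ?_
        rw [← h1]
        conv_rhs => rw [h1]
        exact P.card_eq_multiplicity
      have := h2.isNilpotent
      exact hsol inferInstance
    · rw [h] at hnd
      apply hnd
      rw [Subgroup.card_top]
      exact hdo ▸ orderOf_dvd_natCard (g ^ m)

end One

end Cfsg.Agent.H705
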