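import Cfsg.Agent.H705.ComOne
import Cfsg.Agent.LieRecognition.RankOneAbstract

/-!
# Rank one Bruhat data give rank one groups on the Sylow subgroups (helper705)

`com_of_data` : the criterion for `Com p K` in terms of the torus `B ∩ B^w`.
-/

set_option autoImplicit false
set_option linter.unusedSectionVars false

namespace Cfsg.Agent.H705

open Cfsg Cfsg.Agent.LieRecognition.RankOneAbstract
open scoped Pointwise

variable {K : Type*} [Group K] {r : ℕ} {B U : Subgroup K} {w : K}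

theorem mem_smul_sylow {g x : K} {P : Sylow r K} : x ∈ ((g • P : Sylow r K) : Subgroup K) ↔ g⁻¹ * x * g ∈ (P : Subgroup K) := by
  rw [Sylow.coe_subgroup_smul, Subgroup.mem_pointwise_smul_iff_inv_smul_mem]
  have : (MulAut.conj g)⁻¹ • x = g⁻¹ * x * g := by
    rw [← map_inv]
    change g⁻¹ * x * g⁻¹⁻¹ = _
    rw [inv_inv]
  rw [this]

section

variable [Finite K] [hr : Fact r.Prime] (D : Data B U w) (P₀ : Sylow r K) (hP₀ : (P₀ : Subgroup K) = U)

include D hP₀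

theorem norm_syl (hU : U ≠ ⊥) : Subgroup.normalizer (P₀ : Set K) = B := by
  rw [← D.normalizer_eq hU, ← hP₀]
  rfl

theorem smul_eq_iff (hU : U ≠ ⊥) {g : K} : g • P₀ = P₀ ↔ g ∈ B := by
  rw [Sylow.smul_eq_iff_mem_normalizer, norm_syl D P₀ hP₀ hU]

theorem exists_form (hU : U ≠ ⊥) {y : Sylow r K} (hy : y ≠ P₀) : ∃ s ∈ U, y = (s * w) • P₀ := by
  obtain ⟨k, rfl⟩ := MulAction.exists_smul_eq K P₀ y
  have hk : k ∉ B := fun h => hy ((smul_eq_iff D P₀ hP₀ hU).2 h)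
  obtain ⟨s, hs, h⟩ := D.bruhat k hk
  refine ⟨s, hs, ?_⟩
  rw [← inv_smul_eq_iff, ← mul_smul, smul_eq_iff D P₀ hP₀ hU]
  exact h

theorem w_smul_ne (hU : U ≠ ⊥) : w • P₀ ≠ P₀ := fun h => D.w_not_mem ((smul_eq_iff D P₀ hP₀ hU).1 h)

/-- The rank one structure on the Sylow subgroups. -/
def oneSyl (hU : U ≠ ⊥) : One r K (Sylow r K) where
  U x := x
  fix x u hu := Sylow.smul_eq_iff_mem_normalizer.2 (Subgroup.le_normalizer hu)
  isP x := x.isPGroup'
  max x V hV h := by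
    have h1 : V ≤ Subgroup.normalizer (x : Set K) := fun v hv => Sylow.smul_eq_iff_mem_normalizer.1 (h v hv)
    have h2 := hV.inf_normalizer_sylow x
    rw [inf_eq_left.2 h1] at h2
    exact inf_eq_left.1 h2.symm
  trans x y z hy hz := by
    obtain ⟨g, rfl⟩ := MulAction.exists_smul_eq K P₀ x
    obtain ⟨s, hs, h1⟩ := exists_form D P₀ hP₀ hU (y := g⁻¹ • y) (fun h => hy (inv_smul_eq_iff.1 h).symm)
    obtain ⟨s', hs', h2⟩ := exists_form D P₀ hP₀ hU (y := g⁻¹ • z) (fun h => hz (inv_smul_eq_iff.1 h).symm)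
    rw [inv_smul_eq_iff] at h1 h2
    refine ⟨g * (s' * s⁻¹) * g⁻¹, ?_, ?_⟩
    · rw [mem_smul_sylow, hP₀]
      have : g⁻¹ * (g * (s' * s⁻¹) * g⁻¹) * g = s' * s⁻¹ := by group
      rw [this]
      exact mul_mem hs' (inv_mem hs)
    · rw [h1, h2, ← mul_smul, ← mul_smul, ← mul_smul]
      congr 1
      group
  free x y hy u hu huy := by
    obtain ⟨g, rfl⟩ := MulAction.exists_smul_eq K P₀ x
    obtain ⟨s, hs, h1⟩ := exists_form D P₀ hP₀ hU (y := g⁻¹ • y) (fun h => hy (inv_smul_eq_iff.1 h).symm)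
    rw [inv_smul_eq_iff] at h1
    rw [mem_smul_sylow, hP₀] at hu
    have h2 : (g * (s * w))⁻¹ * u * (g * (s * w)) ∈ B := by
      rw [← smul_eq_iff D P₀ hP₀ hU, mul_smul, mul_smul, inv_smul_eq_iff, mul_smul g, ← h1]
      exact huy
    have h3 : (g * (s * w))⁻¹ * u * (g * (s * w)) = w⁻¹ * (s⁻¹ * (g⁻¹ * u * g) * s) * w := by group
    rw [h3] at h2
    have h4 := D.inter _ (mul_mem (mul_mem (inv_mem hs) hu) hs) h2
    have h5 : u = g * (s * (s⁻¹ * (g⁻¹ * u * g) * s) * s⁻¹) * g⁻¹ := by group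
    rw [h5, h4]
    group
  three x y := by
    by_contra hno
    push Not at hno
    have h1 : Nat.card (Sylow r K) ≤ 2 := by
      classical
      have := Fintype.ofFinite (Sylow r K)
      rw [Nat.card_eq_fintype_card]
      have h2 : (Finset.univ : Finset (Sylow r K)) ⊆ {x, y} := by
        intro z _
        rw [Finset.mem_insert, Finset.mem_singleton]
        by_cases hz : z = x
        · exact Or.inl hz
        · exact Or.inr (hno z hz)
      calc Fintype.card (Sylow r K) = (Finset.univ : Finset (Sylow r K)).card := Finset.card_univ.symm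
        _ ≤ ({x, y} : Finset (Sylow r K)).card := Finset.card_le_card h2
        _ ≤ 2 := Finset.card_le_two
    rw [P₀.card_eq_index_normalizer, norm_syl D P₀ hP₀ hU, D.index] at h1
    have h2 : Nat.card U ≤ 1 := by omega
    exact hU (Subgroup.card_eq_one.1 (le_antisymm h2 Nat.card_pos))

/-- the points fixed by a regular element of the torus -/
theorem fix_iff (hU : U ≠ ⊥) {t : K} (ht : t ∈ B) (htw : w⁻¹ * t * w ∈ B) (hreg : ∀ u ∈ U, t * u * t⁻¹ = u → u = 1)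
    (z : Sylow r K) : t • z = z ↔ z = P₀ ∨ z = w • P₀ := by
  have hw : t • w • P₀ = w • P₀ := by
    rw [← inv_smul_eq_iff (g := w), ← mul_smul, ← mul_smul, smul_eq_iff D P₀ hP₀ hU]
    exact htw
  constructor
  · intro hz
    by_cases hz0 : z = P₀
    · exact Or.inl hz0
    · right
      obtain ⟨s, hs, rfl⟩ := exists_form D P₀ hP₀ hU hz0
      -- `s⁻¹ t s t⁻¹` fixes `w • P₀`
      have h1 : (s⁻¹ * (t * s * t⁻¹)) • w • P₀ = w • P₀ := by
        have h2 : s⁻¹ * (t * s * t⁻¹) = s⁻¹ * t * s * t⁻¹ := by group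
        rw [h2, mul_smul (s⁻¹ * t * s), inv_smul_eq_iff.2 hw.symm, mul_smul, mul_smul, inv_smul_eq_iff,
          ← mul_smul, ← mul_smul]
        rw [← mul_smul] at hz
        rw [mul_assoc, hz, mul_smul]
      have h2 : s⁻¹ * (t * s * t⁻¹) = 1 := by
        apply D.inter _ (mul_mem (inv_mem hs) (D.norm t ht s hs))
        rw [← smul_eq_iff D P₀ hP₀ hU, mul_smul, mul_smul, inv_smul_eq_iff]
        exact h1
      have h3 := hreg s hs (inv_mul_eq_one.1 h2).symm
      rw [h3, one_mul]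
  · rintro (h | h)
    · rw [h]; exact (smul_eq_iff D P₀ hP₀ hU).2 ht
    · rw [h]; exact hw

/-- modulo `U` the group `B` is commutative if the torus is -/
theorem comm_mem_of_torus (hab : ∀ s ∈ B, ∀ t ∈ B, w⁻¹ * s * w ∈ B → w⁻¹ * t * w ∈ B → s * t = t * s) {b c : K}
    (hb : b ∈ B) (hc : c ∈ B) : b * c * b⁻¹ * c⁻¹ ∈ U := by
  -- `b = s b'` with `b'` in the torus
  have key : ∀ b ∈ B, ∃ s ∈ U, s⁻¹ * b ∈ B ∧ w⁻¹ * (s⁻¹ * b) * w ∈ B := by
    intro b hb
    have h1 : b * w ∉ B := fun h => D.w_not_mem (by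
      have := mul_mem (inv_mem hb) h
      rwa [inv_mul_cancel_left] at this)
    obtain ⟨s, hs, h⟩ := D.bruhat (b * w) h1
    refine ⟨s, hs, mul_mem (inv_mem (D.le hs)) hb, ?_⟩
    have h2 : w⁻¹ * (s⁻¹ * b) * w = (s * w)⁻¹ * (b * w) := by group
    rw [h2]
    exact h
  obtain ⟨s, hs, h1, h2⟩ := key b hb
  obtain ⟨t, ht, h3, h4⟩ := key c hc
  set b' := s⁻¹ * b with hb'
  set c' := t⁻¹ * c with hc'
  have e1 : b = s * b' := by rw [hb']; group
  have e2 : c = t * c' := by rw [hc']; group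
  have h5 := hab _ h1 _ h3 h2 h4
  have h6 : b * c * b⁻¹ * c⁻¹ = s * (b' * t * b'⁻¹) * (b' * c' * b'⁻¹ * c'⁻¹) * (c' * s⁻¹ * c'⁻¹) * t⁻¹ := by
    rw [e1, e2]; group
  have h7 : b' * c' * b'⁻¹ * c'⁻¹ = 1 := by rw [h5]; group
  rw [h6, h7, mul_one]
  exact mul_mem (mul_mem (mul_mem hs (D.norm _ h1 _ ht)) (D.norm _ h3 _ (inv_mem hs))) (inv_mem ht)

/-- **Rank one groups given by Bruhat data.** -/
theorem com_of_data (hU : U ≠ ⊥) [hs : IsSimpleGroup K] (hsol : ¬ Group.IsSolvable K) {p : ℕ}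
    (hp : p.Prime) (hpr : p ≠ r)
    (hab : ∀ s ∈ B, ∀ t ∈ B, w⁻¹ * s * w ∈ B → w⁻¹ * t * w ∈ B → s * t = t * s)
    (hreg : ∃ t ∈ B, w⁻¹ * t * w ∈ B ∧ ∀ u ∈ U, t * u * t⁻¹ = u → u = 1)
    (h : (∃ t ∈ B, w⁻¹ * t * w ∈ B ∧ (∀ u ∈ U, t * u * t⁻¹ = u → u = 1) ∧ ¬ p ∣ orderOf t) ∨
      (∀ g : K, p ∣ orderOf g → ∃ y z : Sylow r K, y ≠ z ∧ g • y = y ∧ g • z = z)) : Com p K := by
  have hne : P₀ ≠ w • P₀ := (w_smul_ne D P₀ hP₀ hU).symm
  -- the action on the Sylow subgroups is faithful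
  have hfaith : FaithfulSMul K (Sylow r K) := by
    have h1 : (MulAction.toPermHom K (Sylow r K)).ker = ⊥ := by
      rcases hs.eq_bot_or_eq_top_of_normal _ (MonoidHom.normal_ker (MulAction.toPermHom K (Sylow r K))) with h2 | h2
      · exact h2
      · exfalso
        have h3 : w ∈ (MulAction.toPermHom K (Sylow r K)).ker := by rw [h2]; trivial
        rw [MonoidHom.mem_ker] at h3
        have h4 : w • P₀ = P₀ := by
          have := congrArg (fun e : Equiv.Perm (Sylow r K) => e P₀) h3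
          exact this
        exact hne h4.symm
    constructor
    intro a b hab
    have h2 : a⁻¹ * b ∈ (MulAction.toPermHom K (Sylow r K)).ker := by
      rw [MonoidHom.mem_ker]
      ext1 x
      show (a⁻¹ * b) • x = x
      rw [mul_smul, ← hab x, inv_smul_smul]
    rw [h1, Subgroup.mem_bot] at h2
    exact (inv_mul_eq_one.1 h2)
  refine (oneSyl D P₀ hP₀ hU).com hsol hr.out hp hpr ?_ ?_ ?_
  · intro a
    refine ⟨fun P => a • P, MulAction.injective a, fun g P => ?_⟩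
    apply Sylow.ext
    show ((a • g • P : Sylow r K) : Subgroup K) = ((a g • a • P : Sylow r K) : Subgroup K)
    ext x
    rw [mem_smul_sylow, Sylow.pointwise_smul_def, Subgroup.mem_pointwise_smul_iff_inv_smul_mem,
      Sylow.pointwise_smul_def, Subgroup.mem_pointwise_smul_iff_inv_smul_mem]
    change a⁻¹ x ∈ ((g • P : Sylow r K) : Subgroup K) ↔ a⁻¹ ((a g)⁻¹ * x * a g) ∈ (P : Subgroup K)
    rw [mem_smul_sylow, map_mul, map_mul, map_inv, MulAut.inv_apply_self]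
  · obtain ⟨t, ht, htw, htr⟩ := hreg
    exact ⟨t, P₀, w • P₀, hne, fix_iff D P₀ hP₀ hU ht htw htr⟩
  · rcases h with ⟨t, ht, htw, htr, htp⟩ | h
    · refine Or.inr (Or.inr ⟨?_, t, htp, P₀, w • P₀, hne, fix_iff D P₀ hP₀ hU ht htw htr⟩)
      intro x b c hb hc
      obtain ⟨g, rfl⟩ := MulAction.exists_smul_eq K P₀ x
      show b * c * b⁻¹ * c⁻¹ ∈ ((g • P₀ : Sylow r K) : Subgroup K)
      rw [mem_smul_sylow, hP₀]
      have hb' : g⁻¹ * b * g ∈ B := by
        rw [← smul_eq_iff D P₀ hP₀ hU, mul_smul, mul_smul, hb, inv_smul_smul]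
      have hc' : g⁻¹ * c * g ∈ B := by
        rw [← smul_eq_iff D P₀ hP₀ hU, mul_smul, mul_smul, hc, inv_smul_smul]
      have h1 := comm_mem_of_torus D P₀ hP₀ hab hb' hc'
      have h2 : g⁻¹ * (b * c * b⁻¹ * c⁻¹) * g =
          g⁻¹ * b * g * (g⁻¹ * c * g) * (g⁻¹ * b * g)⁻¹ * (g⁻¹ * c * g)⁻¹ := by group
      rw [h2]
      exact h1
    · exact Or.inr (Or.inl h)

end

end Cfsg.Agent.H705
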