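import Cfsg.Agent.H705.ComRank
import Cfsg.Agent.H705.ComGen

/-!
# Bad automorphisms of rank one groups (helper705)

`One r K Ω` : the group `K` acts on `Ω`, for every point `x` an `r`-subgroup `U x` fixing `x` and regular on the other points.

For an automorphism `a` with a compatible permutation `θ` of `Ω` (`θ (g • x) = a g • θ x`):

* `One.card_count` : if `θ` has no fixed points, the number of pairs `(s, x)` such that `(a s)⁻¹ * s` fixes `x` is
  `|Ω| * |Ω| * h`, where `h` is the order of the stabiliser of two points;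
* `One.eq_one_of_fixed`, `One.eq_one_of_borel`, `One.false_of_two`, `One.eq_one_of_torus`.
-/

set_option autoImplicit false
set_option linter.unusedSectionVars false

namespace Cfsg.Agent.H705

/-- Rank one groups. -/
structure One (r : ℕ) (K : Type*) [Group K] (Ω : Type*) [MulAction K Ω] where
  /-- the Sylow `r`-subgroup of the stabiliser of a point -/
  U : Ω → Subgroup K
  fix : ∀ x, ∀ u ∈ U x, u • x = x
  isP : ∀ x, IsPGroup r (U x)
  max : ∀ x (V : Subgroup K), IsPGroup r V → (∀ v ∈ V, v • x = x) → V ≤ U x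
  trans : ∀ x y z, x ≠ y → x ≠ z → ∃ u ∈ U x, u • y = z
  free : ∀ x y, x ≠ y → ∀ u ∈ U x, u • y = y → u = 1
  three : ∀ x y : Ω, ∃ z, z ≠ x ∧ z ≠ y

namespace One

variable {r : ℕ} {K : Type*} [Group K] {Ω : Type*} [MulAction K Ω] (O : One r K Ω)

include O

/-- the group is transitive -/
theorem transitive (x y : Ω) : ∃ g : K, g • x = y := by
  obtain ⟨z, hzx, hzy⟩ := O.three x y
  obtain ⟨u, -, hu⟩ := O.trans z x y hzx hzy
  exact ⟨u, hu⟩

/-- the group is transitive on the pairs of distinct points -/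
theorem trans_two {x y x' y' : Ω} (h : x ≠ y) (h' : x' ≠ y') : ∃ g : K, g • x = x' ∧ g • y = y' := by
  obtain ⟨g, hg⟩ := O.transitive x x'
  have h1 : x' ≠ g • y := by
    rintro rfl
    exact h (MulAction.injective g hg)
  obtain ⟨u, hu, huy⟩ := O.trans x' (g • y) y' h1 h'
  refine ⟨u * g, ?_, ?_⟩
  · rw [mul_smul, hg, O.fix _ u hu]
  · rw [mul_smul, huy]

/-- the stabiliser of two points -/
def st2 (_O : One r K Ω) (x y : Ω) : Subgroup K := MulAction.stabilizer K x ⊓ MulAction.stabilizer K y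

theorem mem_st2 {x y : Ω} {g : K} : g ∈ O.st2 x y ↔ g • x = x ∧ g • y = y := by
  rw [st2, Subgroup.mem_inf, MulAction.mem_stabilizer_iff, MulAction.mem_stabilizer_iff]

/-- the number of elements mapping a pair to a pair -/
theorem card_move {x y x' y' x₀ y₀ : Ω} (h : x ≠ y) (h' : x' ≠ y') (h₀ : x₀ ≠ y₀) :
    Nat.card {g : K // g • x = x' ∧ g • y = y'} = Nat.card (O.st2 x₀ y₀) := by
  obtain ⟨b, hb, hb'⟩ := O.trans_two h₀ h'
  obtain ⟨c, hc, hc'⟩ := O.trans_two h h₀
  refine Nat.card_congr ⟨fun g => ⟨b⁻¹ * g.1 * c⁻¹, ?_⟩, fun g => ⟨b * g.1 * c, ?_⟩, fun g => ?_, fun g => ?_⟩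
  · rw [O.mem_st2]
    constructor
    · rw [mul_smul, mul_smul, inv_smul_eq_iff.2 hc.symm, g.2.1, inv_smul_eq_iff.2 hb.symm]
    · rw [mul_smul, mul_smul, inv_smul_eq_iff.2 hc'.symm, g.2.2, inv_smul_eq_iff.2 hb'.symm]
  · obtain ⟨h1, h2⟩ := O.mem_st2.1 g.2
    constructor
    · rw [mul_smul, mul_smul, hc, h1, hb]
    · rw [mul_smul, mul_smul, hc', h2, hb']
  · apply Subtype.ext
    show b * (b⁻¹ * g.1 * c⁻¹) * c = g.1
    group
  · apply Subtype.ext
    show b⁻¹ * (b * g.1 * c) * c⁻¹ = g.1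
    group

variable [Finite K] [Finite Ω]

/-- `|Ω| = |U x| + 1` -/
theorem card_points (x : Ω) : Nat.card Ω = Nat.card (O.U x) + 1 := by
  classical
  obtain ⟨y, hy, -⟩ := O.three x x
  have h1 : Nat.card (O.U x) = Nat.card {z : Ω // z ≠ x} := by
    refine Nat.card_congr (Equiv.ofBijective (fun u : O.U x => (⟨(u : K) • y, ?_⟩ : {z : Ω // z ≠ x})) ⟨?_, ?_⟩)
    · intro h
      apply hy
      have := O.fix x u u.2
      exact MulAction.injective (u : K) (h.trans this.symm)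
    · intro u v huv
      have h2 : (u : K) • y = (v : K) • y := congrArg Subtype.val huv
      have h3 : ((v : K)⁻¹ * u) • y = y := by rw [mul_smul, h2, inv_smul_smul]
      have h4 := O.free x y hy.symm _ (mul_mem (inv_mem v.2) u.2) h3
      exact Subtype.ext (inv_mul_eq_one.1 h4).symm
    · rintro ⟨z, hz⟩
      obtain ⟨u, hu, huz⟩ := O.trans x y z hy.symm hz.symm
      exact ⟨⟨u, hu⟩, Subtype.ext huz⟩
  have := Fintype.ofFinite Ω
  rw [h1, Nat.card_eq_fintype_card, Nat.card_eq_fintype_card, Fintype.card_subtype_compl, Fintype.card_subtype_eq]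
  have : 0 < Fintype.card Ω := Fintype.card_pos_iff.2 ⟨x⟩
  omega

/-- the order of the group -/
theorem card_group {x y : Ω} (h : x ≠ y) :
    Nat.card K = Nat.card Ω * (Nat.card Ω - 1) * Nat.card (O.st2 x y) := by
  classical
  have h1 : Nat.card K = Nat.card (Σ q : {q : Ω × Ω // q.1 ≠ q.2}, {g : K // g • x = q.1.1 ∧ g • y = q.1.2}) := by
    refine Nat.card_congr ⟨fun g => ⟨⟨(g • x, g • y), fun h' => h (MulAction.injective g h')⟩, ⟨g, rfl, rfl⟩⟩,
      fun q => q.2.1, fun g => rfl, ?_⟩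
    rintro ⟨⟨⟨z, w⟩, hzw⟩, ⟨g, hg, hg'⟩⟩
    simp only at hg hg'
    subst hg
    subst hg'
    rfl
  have h2 : Nat.card {q : Ω × Ω // q.1 ≠ q.2} = Nat.card Ω * (Nat.card Ω - 1) := by
    have := Fintype.ofFinite Ω
    rw [Nat.card_eq_fintype_card, Nat.card_eq_fintype_card, Fintype.card_subtype]
    have h3 : (Finset.univ.filter fun q : Ω × Ω => q.1 ≠ q.2) = (Finset.univ : Finset Ω).offDiag := by
      ext q
      simp [Finset.mem_offDiag]
    rw [h3, Finset.offDiag_card, Finset.card_univ, Nat.mul_sub, mul_one]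
  have := Fintype.ofFinite {q : Ω × Ω // q.1 ≠ q.2}
  rw [h1, Nat.card_sigma, ← h2, Nat.card_eq_fintype_card]
  rw [Finset.sum_congr rfl fun q _ => O.card_move h q.2 h]
  rw [Finset.sum_const, Finset.card_univ, smul_eq_mul]

variable {a : MulAut K} {θ : Ω → Ω} (hθ : ∀ (g : K) x, θ (g • x) = a g • θ x)

/-- **Counting the fixed points of the commutators.** -/
theorem card_count (hinj : Function.Injective θ) (hθ : ∀ (g : K) x, θ (g • x) = a g • θ x)
    (hno : ∀ x, θ x ≠ x) {x₀ y₀ : Ω} (h₀ : x₀ ≠ y₀) :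
    Nat.card {q : K × Ω // ((a q.1)⁻¹ * q.1) • q.2 = q.2} = Nat.card Ω * Nat.card Ω * Nat.card (O.st2 x₀ y₀) := by
  classical
  have hb : Function.Bijective θ := Finite.injective_iff_bijective.1 hinj
  have h1 : Nat.card {q : K × Ω // ((a q.1)⁻¹ * q.1) • q.2 = q.2} =
      Nat.card (Σ q : Ω × Ω, {g : K // g • q.1 = q.2 ∧ g • θ q.1 = θ q.2}) := by
    symm
    refine Nat.card_congr (Equiv.ofBijective (fun q => (⟨(q.2.1, θ q.1.1), ?_⟩ :
      {q : K × Ω // ((a q.1)⁻¹ * q.1) • q.2 = q.2})) ⟨?_, ?_⟩)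
    · obtain ⟨⟨x, y⟩, ⟨g, hg, hg'⟩⟩ := q
      simp only at hg hg' ⊢
      rw [mul_smul, inv_smul_eq_iff, hg', ← hθ, hg]
    · rintro ⟨⟨x, y⟩, ⟨g, hg, hg'⟩⟩ ⟨⟨x', y'⟩, ⟨g', hg1, hg1'⟩⟩ h
      have h2 : g = g' := congrArg (fun q => q.1.1) h
      have h3 : θ x = θ x' := congrArg (fun q => q.1.2) h
      have h4 := hinj h3
      subst h2
      subst h4
      simp only at hg hg1
      subst hg
      subst hg1
      rfl
    · rintro ⟨⟨g, x⟩, hgx⟩
      obtain ⟨z, rfl⟩ := hb.2 x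
      simp only at hgx
      rw [mul_smul, inv_smul_eq_iff, ← hθ] at hgx
      exact ⟨⟨(z, g • z), ⟨g, rfl, hgx⟩⟩, rfl⟩
  have := Fintype.ofFinite Ω
  rw [h1, Nat.card_sigma]
  rw [Finset.sum_congr rfl fun q _ => O.card_move (hno q.1).symm (hno q.2).symm h₀]
  rw [Finset.sum_const, Finset.card_univ, Fintype.card_prod, smul_eq_mul, Nat.card_eq_fintype_card (α := Ω)]

/-- the fixed points of the commutators in terms of the fixed points of `a` -/
theorem two_le_card : 3 ≤ Nat.card Ω ∨ IsEmpty Ω := by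
  classical
  by_cases h : IsEmpty Ω
  · exact Or.inr h
  · left
    rw [not_isEmpty_iff] at h
    obtain ⟨x⟩ := h
    obtain ⟨y, hy, -⟩ := O.three x x
    obtain ⟨z, hzx, hzy⟩ := O.three x y
    have := Fintype.ofFinite Ω
    rw [Nat.card_eq_fintype_card]
    have h1 : ({x, y, z} : Finset Ω).card = 3 := Finset.card_eq_three.2 ⟨x, y, z, hy.symm, hzx.symm, hzy.symm, rfl⟩
    rw [← h1]
    exact Finset.card_le_univ _

/-- **Criterion 1**: `p` does not divide the order of the point stabilisers. -/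
theorem eq_one_of_borel [hs : IsSimpleGroup K] (hsol : ¬ Group.IsSolvable K) (hr : r.Prime) {p : ℕ}
    (ha : Bad p a) (hinj : Function.Injective θ) (hθ : ∀ (g : K) x, θ (g • x) = a g • θ x) (hno : ∀ x, θ x ≠ x)
    (x : Ω) (hB : ¬ p ∣ Nat.card (MulAction.stabilizer K x)) : a = 1 := by
  classical
  obtain ⟨y, hy, -⟩ := O.three x x
  have hBy : ∀ z : Ω, ¬ p ∣ Nat.card (MulAction.stabilizer K z) := by
    intro z
    obtain ⟨g, hg⟩ := O.transitive x z
    rw [← hg, Nat.card_congr (MulAction.stabilizerEquivStabilizer (α := Ω) (g := g) (a := x) (b := g • x) rfl).symm.toEquiv]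
    exact hB
  have h1 := O.card_count hinj hθ hno hy.symm
  have h2 : Nat.card {q : K × Ω // ((a q.1)⁻¹ * q.1) • q.2 = q.2} = Nat.card (fixS a) * Nat.card Ω := by
    rw [← Nat.card_prod]
    refine Nat.card_congr ⟨fun q => (⟨q.1.1, ?_⟩, q.1.2), fun q => ⟨(q.1.1, q.2), ?_⟩, fun q => rfl, fun q => rfl⟩
    · obtain ⟨⟨g, z⟩, hq⟩ := q
      rcases ha g with h3 | h3
      · exact inv_mul_eq_one.1 h3
      · exfalso
        apply hBy z
        have h4 := orderOf_dvd_natCard (⟨(a g)⁻¹ * g, hq⟩ : MulAction.stabilizer K z)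
        rw [← Subgroup.orderOf_coe] at h4
        exact h3.trans h4
    · have h3 : a q.1 = q.1 := q.1.2
      simp only [h3, inv_mul_cancel, one_smul]
  have hcard := O.card_group hy.symm
  have hpos : 0 < Nat.card Ω := by
    have : Nonempty Ω := ⟨x⟩
    exact Nat.card_pos
  have h3 : Nat.card (fixS a) = Nat.card Ω * Nat.card (O.st2 x y) := by
    apply Nat.eq_of_mul_eq_mul_right hpos
    rw [← h2, h1]
    ring
  have : Fact r.Prime := ⟨hr⟩
  obtain ⟨n, hn⟩ := (IsPGroup.iff_card (p := r)).1 (O.isP x)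
  refine eq_one_of_index hsol hr (n := n) ?_
  rw [h3, ← hn, hcard, O.card_points x, Nat.add_sub_cancel]
  ring

/-- **Criterion 2**: the `p`-singular elements have at least two fixed points. -/
theorem false_of_two {p : ℕ} (ha : Bad p a) (hinj : Function.Injective θ)
    (hθ : ∀ (g : K) x, θ (g • x) = a g • θ x) (hno : ∀ x, θ x ≠ x) (x : Ω)
    (h2 : ∀ g : K, p ∣ orderOf g → ∃ y z : Ω, y ≠ z ∧ g • y = y ∧ g • z = z) : False := by
  classical
  obtain ⟨y, hy, -⟩ := O.three x x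
  have h1 := O.card_count hinj hθ hno hy.symm
  have hcard := O.card_group hy.symm
  have hex : ∀ g : K, ∃ q : Ω × Ω, q.1 ≠ q.2 ∧ ((a g)⁻¹ * g) • q.1 = q.1 ∧ ((a g)⁻¹ * g) • q.2 = q.2 := by
    intro g
    rcases ha g with h3 | h3
    · exact ⟨(x, y), hy.symm, by rw [h3, one_smul], by rw [h3, one_smul]⟩
    · obtain ⟨z, w, hzw, h4, h5⟩ := h2 _ h3
      exact ⟨(z, w), hzw, h4, h5⟩
  choose F hF1 hF2 hF3 using hex
  have h3 : Nat.card K * 2 ≤ Nat.card {q : K × Ω // ((a q.1)⁻¹ * q.1) • q.2 = q.2} := by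
    have h4 : Nat.card (K × Bool) = Nat.card K * 2 := by
      rw [Nat.card_prod, Nat.card_eq_fintype_card (α := Bool), Fintype.card_bool]
    rw [← h4]
    refine Nat.card_le_card_of_injective (fun q : K × Bool =>
      (⟨(q.1, if q.2 then (F q.1).1 else (F q.1).2), ?_⟩ : {q : K × Ω // ((a q.1)⁻¹ * q.1) • q.2 = q.2})) ?_
    · rcases q with ⟨g, b⟩
      cases b
      · exact hF3 g
      · exact hF2 g
    · rintro ⟨g, b⟩ ⟨g', b'⟩ h
      have h5 : g = g' := congrArg (fun q => q.1.1) h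
      subst h5
      have h6 : (if b then (F g).1 else (F g).2) = if b' then (F g).1 else (F g).2 := congrArg (fun q => q.1.2) h
      have h7 := hF1 g
      cases b <;> cases b'
      · rfl
      · exact absurd h6.symm h7
      · exact absurd h6 h7
      · rfl
  rw [h1, hcard] at h3
  have hΩ : 3 ≤ Nat.card Ω := by
    rcases O.two_le_card with h | h
    · exact h
    · exact (h.false x).elim
  have hh : 0 < Nat.card (O.st2 x y) := Nat.card_pos
  have h5 : Nat.card Ω * Nat.card (O.st2 x y) * ((Nat.card Ω - 1) * 2) ≤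
      Nat.card Ω * Nat.card (O.st2 x y) * Nat.card Ω := by
    calc _ = Nat.card Ω * (Nat.card Ω - 1) * Nat.card (O.st2 x y) * 2 := by ring
      _ ≤ _ := h3
      _ = _ := by ring
  have h6 := Nat.le_of_mul_le_mul_left h5 (Nat.mul_pos (by omega) hh)
  omega

omit [Finite K] [Finite Ω] in
theorem pow_mem {x : Ω} (hab : ∀ b c : K, b • x = x → c • x = x → b * c * b⁻¹ * c⁻¹ ∈ O.U x) {b c : K}
    (hb : b • x = x) (hc : c • x = x) {m : ℕ} (hbm : b ^ m = 1) (hcm : c ^ m = 1) : (b * c) ^ m ∈ O.U x := by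
  set D := MulAction.stabilizer K x with hD
  have hUD : O.U x ≤ D := fun u hu => O.fix x u hu
  have hN : ((O.U x).subgroupOf D).Normal := by
    constructor
    intro u hu g
    rw [Subgroup.mem_subgroupOf] at hu ⊢
    have h1 : ((g * u * g⁻¹ : D) : K) = (g * u * (g : K)⁻¹ * (u : K)⁻¹) * u := by
      simp
    rw [h1]
    exact mul_mem (hab _ _ g.2 u.2) hu
  have hcomm : ∀ y z : D ⧸ (O.U x).subgroupOf D, y * z = z * y := by
    intro y z
    induction y using QuotientGroup.induction_on with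
    | H y =>
    induction z using QuotientGroup.induction_on with
    | H z =>
    rw [← QuotientGroup.mk_mul, ← QuotientGroup.mk_mul, QuotientGroup.eq, Subgroup.mem_subgroupOf]
    have h1 : (((y * z)⁻¹ * (z * y) : D) : K) = (z : K)⁻¹ * (y : K)⁻¹ * ((z : K)⁻¹)⁻¹ * ((y : K)⁻¹)⁻¹ := by
      simp [mul_assoc]
    rw [h1]
    exact hab _ _ (inv_smul_eq_iff.2 z.2.symm) (inv_smul_eq_iff.2 y.2.symm)
  have h1 : ((⟨b, hb⟩ * ⟨c, hc⟩ : D) : D ⧸ (O.U x).subgroupOf D) ^ m = 1 := by
    rw [QuotientGroup.mk_mul, (show Commute _ _ from hcomm _ _).mul_pow, ← QuotientGroup.mk_pow,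
      ← QuotientGroup.mk_pow]
    have h2 : (⟨b, hb⟩ : D) ^ m = 1 := Subtype.ext hbm
    have h3 : (⟨c, hc⟩ : D) ^ m = 1 := Subtype.ext hcm
    rw [h2, h3]
    exact one_mul 1
  rw [← QuotientGroup.mk_pow, QuotientGroup.eq_one_iff, Subgroup.mem_subgroupOf] at h1
  exact h1

/-- **Criterion 3**: the stabiliser of two points contains an element of order prime to `p` with exactly two fixed points;
the point stabilisers are abelian modulo `U`. -/
theorem sq_of_torus {p : ℕ} (hp : p.Prime) (hr : r.Prime) (hpr : p ≠ r) (ha : Bad p a)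
    (hθ : ∀ (g : K) x, θ (g • x) = a g • θ x) (hno : ∀ x, θ x ≠ x) [FaithfulSMul K Ω]
    (hab : ∀ x : Ω, ∀ b c : K, b • x = x → c • x = x → b * c * b⁻¹ * c⁻¹ ∈ O.U x)
    (ht : ∃ t : K, ¬ p ∣ orderOf t ∧ ∃ x y : Ω, x ≠ y ∧ ∀ z, t • z = z ↔ z = x ∨ z = y) : a * a = 1 := by
  classical
  obtain ⟨t, htp, x₀, y₀, hxy₀, ht⟩ := ht
  have hsq : ∀ x, θ (θ x) = x := by
    intro x
    obtain ⟨g, hg, hg'⟩ := O.trans_two hxy₀ (hno x).symm
    set h := g * t * g⁻¹ with hh
    have hfix : ∀ z, h • z = z ↔ z = x ∨ z = θ x := by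
      intro z
      rw [hh, mul_smul, mul_smul, ← eq_inv_smul_iff, ht, inv_smul_eq_iff, inv_smul_eq_iff, hg, hg']
    have hhp : ¬ p ∣ orderOf h := by
      have h1 : h = MulAut.conj g t := rfl
      rw [h1, MulEquiv.orderOf_eq]
      exact htp
    have h1 : h • θ x = θ x := (hfix _).2 (Or.inr rfl)
    have h2 : h • x = x := (hfix _).2 (Or.inl rfl)
    have h3 : a h • θ x = θ x := by rw [← hθ, h2]
    -- `z = (a h)⁻¹ h` has order prime to `p`
    have hz := O.pow_mem (hab (θ x)) (b := (a h)⁻¹) (c := h) (inv_smul_eq_iff.2 h3.symm) h1 (m := orderOf h)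
      (by rw [inv_pow, ← map_pow, pow_orderOf_eq_one, map_one, inv_one]) (pow_orderOf_eq_one h)
    obtain ⟨k, hk⟩ := O.isP _ ⟨_, hz⟩
    have hk' : ((a h)⁻¹ * h) ^ (orderOf h * r ^ k) = 1 := by
      rw [pow_mul]
      simpa using congrArg Subtype.val hk
    have hfixh : a h = h := by
      rcases ha h with h4 | h4
      · exact inv_mul_eq_one.1 h4
      · exfalso
        have h5 := h4.trans (orderOf_dvd_of_pow_eq_one hk')
        rcases (hp.dvd_mul).1 h5 with h6 | h6
        · exact hhp h6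
        · exact hpr ((Nat.prime_dvd_prime_iff_eq hp hr).1 (hp.dvd_of_dvd_pow h6))
    have h4 : h • θ (θ x) = θ (θ x) := by
      conv_lhs => rw [← hfixh]
      rw [← hθ, h1]
    rcases (hfix _).1 h4 with h5 | h5
    · exact h5
    · exact absurd h5 (hno (θ x))
  ext g
  apply eq_of_smul_eq_smul (α := Ω)
  intro x
  have h1 : (a * a) g • θ (θ x) = θ (θ (g • x)) := by
    rw [hθ, hθ]
    rfl
  rw [hsq, hsq] at h1
  exact h1

omit [Finite Ω] in
theorem U_ne (x : Ω) : ∃ u ∈ O.U x, u ≠ 1 := by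
  obtain ⟨y, hy, -⟩ := O.three x x
  obtain ⟨z, hzx, hzy⟩ := O.three x y
  obtain ⟨u, hu, huy⟩ := O.trans x y z hy.symm hzx.symm
  refine ⟨u, hu, ?_⟩
  rintro rfl
  rw [one_smul] at huy
  exact hzy huy.symm

/-- the centraliser of `U x` contains no element of prime order different from `r` -/
theorem central_order (hr : r.Prime) [FaithfulSMul K Ω] (x : Ω) {c : K} (hc : ∀ u ∈ O.U x, c * u = u * c) {l : ℕ}
    (hl : l.Prime) (hlr : l ≠ r) : ¬ l ∣ orderOf c := by
  classical
  intro hd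
  -- an element of order `l`
  obtain ⟨m, hm⟩ := hd
  have hm0 : m ≠ 0 := by
    rintro rfl
    rw [mul_zero] at hm
    exact (orderOf_pos c).ne' hm
  set d := c ^ m with hdef
  have hdo : orderOf d = l := by
    rw [hdef, orderOf_pow, hm, Nat.gcd_eq_right (Dvd.intro_left l rfl), Nat.mul_div_cancel _ (Nat.pos_of_ne_zero hm0)]
  have hdU : ∀ u ∈ O.U x, d * u = u * d := by
    intro u hu
    exact ((show Commute c u from hc u hu).pow_left m)
  -- `d` fixes `x`
  have hdx : d • x = x := by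
    by_contra hne
    obtain ⟨u, hu, hu1⟩ := O.U_ne x
    apply hu1
    refine O.free x (d • x) (fun h => hne h.symm) u hu ?_
    rw [← mul_smul, ← hdU u hu, mul_smul, O.fix x u hu]
  -- `⟨d⟩` has a second fixed point
  have hfact : Fact l.Prime := ⟨hl⟩
  have hfr : Fact r.Prime := ⟨hr⟩
  have hlg : IsPGroup l (Subgroup.zpowers d) := isPGroup_zpowers (k := 1) (by rw [pow_one, ← hdo]; exact pow_orderOf_eq_one d)
  have hmod := hlg.card_modEq_card_fixedPoints (α := Ω)
  obtain ⟨n, hn⟩ := (IsPGroup.iff_card (p := r)).1 (O.isP x)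
  have hcard := O.card_points x
  have hfixed : ∃ y, y ≠ x ∧ d • y = y := by
    by_contra hno
    push Not at hno
    have h1 : MulAction.fixedPoints (Subgroup.zpowers d) Ω = {x} := by
      ext y
      rw [Set.mem_singleton_iff]
      constructor
      · intro hy
        by_contra hyx
        exact hno y hyx (hy ⟨d, Subgroup.mem_zpowers d⟩)
      · rintro rfl ⟨g, hg⟩
        obtain ⟨j, rfl⟩ := Subgroup.mem_zpowers_iff.1 hg
        exact MulAction.mem_stabilizer_iff.1
          (zpow_mem (MulAction.mem_stabilizer_iff.2 hdx : d ∈ MulAction.stabilizer K y) j)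
    rw [h1, Nat.card_coe_set_eq, Set.ncard_singleton, hcard, hn] at hmod
    have h2 : l ∣ r ^ n := by
      have h3 := (Nat.modEq_iff_dvd' (by omega)).1 hmod.symm
      simpa using h3
    exact hlr ((Nat.prime_dvd_prime_iff_eq hl hr).1 (hl.dvd_of_dvd_pow h2))
  obtain ⟨y, hyx, hy⟩ := hfixed
  have hd1 : d = 1 := by
    apply eq_of_smul_eq_smul (α := Ω)
    intro z
    rw [one_smul]
    by_cases hz : z = x
    · rw [hz, hdx]
    · obtain ⟨u, hu, rfl⟩ := O.trans x y z (Ne.symm hyx) (Ne.symm hz)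
      rw [← mul_smul, hdU u hu, mul_smul, hy]
  rw [hd1, orderOf_one] at hdo
  exact hl.one_lt.ne hdo

/-- **An automorphism with a fixed point**, if some element has exactly two fixed points. -/
theorem eq_one_of_fixed (hr : r.Prime) {p : ℕ} (hp : p.Prime) (hpr : p ≠ r) (ha : Bad p a)
    (hinj : Function.Injective θ) (hθ : ∀ (g : K) x, θ (g • x) = a g • θ x) {x : Ω} (hx : θ x = x) [FaithfulSMul K Ω]
    (ht : ∃ t : K, ∃ x y : Ω, x ≠ y ∧ ∀ z, t • z = z ↔ z = x ∨ z = y) : a = 1 := by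
  classical
  have hmem : ∀ u ∈ O.U x, a u ∈ O.U x := by
    have h1 : (O.U x).map a.toMonoidHom ≤ O.U x := by
      refine O.max x _ ((O.isP x).map _) ?_
      rintro _ ⟨u, hu, rfl⟩
      show a u • x = x
      conv_lhs => rw [← hx]
      rw [← hθ, O.fix x u hu, hx]
    exact fun u hu => h1 ⟨u, hu, rfl⟩
  have hfix : ∀ u ∈ O.U x, a u = u := fun u hu => ha.rfix hp hr (Ne.symm hpr) _ (O.isP x) u hu (hmem u hu)
  have hB : ∀ b : K, b • x = x → a b = b := by
    intro b hb
    have hbU : ∀ u ∈ O.U x, b * u * b⁻¹ ∈ O.U x := by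
      have h1 : (O.U x).map (MulAut.conj b).toMonoidHom ≤ O.U x := by
        refine O.max x _ ((O.isP x).map _) ?_
        rintro _ ⟨u, hu, rfl⟩
        show (b * u * b⁻¹) • x = x
        rw [mul_smul, mul_smul, inv_smul_eq_iff.2 hb.symm, O.fix x u hu, hb]
      exact fun u hu => h1 ⟨u, hu, rfl⟩
    have hcent : ∀ u ∈ O.U x, ((a b)⁻¹ * b) * u = u * ((a b)⁻¹ * b) := by
      intro u hu
      have h1 := hfix _ (hbU u hu)
      rw [map_mul, map_mul, map_inv, hfix u hu] at h1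
      -- `a b * u * (a b)⁻¹ = b * u * b⁻¹`
      have h2 : b * u = a b * u * (a b)⁻¹ * b := by rw [h1]; group
      rw [mul_assoc, h2]
      group
    rcases ha b with h1 | h1
    · exact inv_mul_eq_one.1 h1
    · exact absurd h1 (O.central_order hr x hcent hp hpr)
  obtain ⟨t, x₀, y₀, hxy₀, ht⟩ := ht
  have hall : ∀ y, θ y = y := by
    intro y
    by_cases hyx : y = x
    · rw [hyx, hx]
    · obtain ⟨g, hg, hg'⟩ := O.trans_two hxy₀ (Ne.symm hyx)
      set h := g * t * g⁻¹ with hh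
      have hf : ∀ z, h • z = z ↔ z = x ∨ z = y := by
        intro z
        rw [hh, mul_smul, mul_smul, ← eq_inv_smul_iff, ht, inv_smul_eq_iff, inv_smul_eq_iff, hg, hg']
      have h1 : a h = h := hB h ((hf x).2 (Or.inl rfl))
      have h2 : h • θ y = θ y := by
        conv_lhs => rw [← h1]
        rw [← hθ, (hf y).2 (Or.inr rfl)]
      rcases (hf _).1 h2 with h3 | h3
      · exfalso
        rw [← hx] at h3
        exact hyx (hinj h3)
      · exact h3
  ext g
  apply eq_of_smul_eq_smul (α := Ω)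
  intro z
  have h1 := hθ g z
  rw [hall, hall] at h1
  exact h1.symm

/-- **Rank one groups.** -/
theorem com [FaithfulSMul K Ω] [Nonempty Ω] [hs : IsSimpleGroup K] (hsol : ¬ Group.IsSolvable K) (hr : r.Prime) {p : ℕ}
    (hp : p.Prime) (hpr : p ≠ r)
    (hact : ∀ a : MulAut K, ∃ θ : Ω → Ω, Function.Injective θ ∧ ∀ (g : K) x, θ (g • x) = a g • θ x)
    (ht : ∃ t : K, ∃ x y : Ω, x ≠ y ∧ ∀ z, t • z = z ↔ z = x ∨ z = y)
    (h : (∀ x : Ω, ¬ p ∣ Nat.card (MulAction.stabilizer K x)) ∨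
      (∀ g : K, p ∣ orderOf g → ∃ y z : Ω, y ≠ z ∧ g • y = y ∧ g • z = z) ∨
      ((∀ x : Ω, ∀ b c : K, b • x = x → c • x = x → b * c * b⁻¹ * c⁻¹ ∈ O.U x) ∧
        ∃ t : K, ¬ p ∣ orderOf t ∧ ∃ x y : Ω, x ≠ y ∧ ∀ z, t • z = z ↔ z = x ∨ z = y)) : Com p K := by
  rw [com_iff]
  intro a ha
  obtain ⟨θ, hinj, hθ⟩ := hact a
  by_cases hno : ∀ x, θ x ≠ x
  · obtain ⟨x⟩ := ‹Nonempty Ω›
    rcases h with h | h | ⟨h1, h2⟩
    · exact O.eq_one_of_borel hsol hr ha hinj hθ hno x (h x)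
    · exact (O.false_of_two ha hinj hθ hno x h).elim
    · exact ha.eq_one_of_sq hsol hp (O.sq_of_torus hp hr hpr ha hθ hno h1 h2)
  · push Not at hno
    obtain ⟨x, hx⟩ := hno
    exact O.eq_one_of_fixed hr hp hpr ha hinj hθ hx ht

end One

end Cfsg.Agent.H705
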