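import Mathlib
import Cfsg.Agent.UThreeGen.MatGroup
import Cfsg.Agent.H212.U3.Model
import Cfsg.Agent.LieClassical.HermBasic

/-!
# The unitary two-graph (helper705)

Let `X` be the set of nonzero isotropic vectors of the unitary space of dimension three over the field with `q²` elements, `q`
odd, and `m = (q² - 1) / 2`. The matrix `h(v, w) ^ m` has square zero (`sq_zero`). Hence `∑ h(v, φ v) ^ m = 0` for every
permutation `φ` of `X` preserving `h(v, w) ^ m` (`sum_eq_zero`), so that the values `h(v, φ v) ^ m` are not all equal (and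
different from zero).
-/

set_option autoImplicit false
set_option linter.unusedSectionVars false

namespace Cfsg.Agent.H705.TG

open Matrix Cfsg.Agent.UThreeGen.MatGroup

/-- a permutation preserving a matrix of square zero -/
theorem trace_zero {X R : Type*} [Fintype X] [Field R] (S : X → X → R) (φ : Equiv.Perm X)
    (hS : ∀ v v', ∑ w, S v w * S w v' = 0) (hφ : ∀ v w, S (φ v) (φ w) = S v w) : ∑ v, S v (φ v) = 0 := by
  classical
  let M : Matrix X X R := Matrix.of fun v w => S v (φ w)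
  have h1 : M * M = 0 := by
    ext v v'
    rw [Matrix.mul_apply, Matrix.zero_apply]
    have h2 : ∀ w, M v w * M w v' = S v (φ w) * S (φ w) (φ (φ v')) := by
      intro w
      show S v (φ w) * S w (φ v') = _
      rw [hφ w (φ v')]
    rw [Finset.sum_congr rfl fun w _ => h2 w]
    rw [Equiv.sum_comp φ (fun w => S v w * S w (φ (φ v')))]
    exact hS _ _
  have h3 : IsNilpotent M := ⟨2, by rw [pow_two, h1]⟩
  have h4 := Matrix.isNilpotent_trace_of_isNilpotent h3
  exact h4.eq_zero

section Model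

variable {F : Type*} [Field F] [Fintype F] {q : ℕ} {σ : F →+* F} [hσ : Fact (∀ x, σ (σ x) = x)]

/-- the form with Gram matrix `Gm` -/
def hG (σ : F →+* F) (x y : Fin 3 → F) : F := x 0 * σ (y 2) - x 1 * σ (y 1) + x 2 * σ (y 0)

omit [Fintype F] hσ in
theorem hG_smul_left (c : F) (x y : Fin 3 → F) : hG σ (c • x) y = c * hG σ x y := by
  simp only [hG, Pi.smul_apply, smul_eq_mul]; ring

omit [Fintype F] hσ in
theorem hG_smul_right (c : F) (x y : Fin 3 → F) : hG σ x (c • y) = σ c * hG σ x y := by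
  simp only [hG, Pi.smul_apply, smul_eq_mul, map_mul]; ring

omit [Fintype F] hσ in
theorem hG_mulVec (g : SUG σ) (x y : Fin 3 → F) : hG σ (g.1.1 *ᵥ x) (g.1.1 *ᵥ y) = hG σ x y := by
  have e := entry_of_mem_SUG g.2
  have key : hG σ (g.1.1 *ᵥ x) (g.1.1 *ᵥ y) = ∑ i, ∑ j, x i * σ (y j) *
      (g.1.1 0 i * σ (g.1.1 2 j) - g.1.1 1 i * σ (g.1.1 1 j) + g.1.1 2 i * σ (g.1.1 0 j)) := by
    simp only [hG, Matrix.mulVec, dotProduct, Fin.sum_univ_three, map_add, map_mul]
    ring
  rw [key]
  simp only [e, Gm, Fin.sum_univ_three, hG]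
  simp
  ring

/-- nonzero isotropic vectors -/
def X (σ : F →+* F) : Type _ := {w : Fin 3 → F // w ≠ 0 ∧ hG σ w w = 0}

noncomputable instance : Fintype (X σ) := by
  classical
  exact Subtype.fintype _

/-- representatives of the isotropic points -/
def vec (σ : F →+* F) : Option (HG σ) → Fin 3 → F
  | none => ![1, 0, 0]
  | some x => ![x.b, σ x.a, 1]

omit [Fintype F] in
theorem vec_iso (o : Option (HG σ)) : hG σ (vec σ o) (vec σ o) = 0 := by
  rcases o with _ | x
  · simp [vec, hG]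
  · have h := x.h
    simp only [vec, hG, Matrix.cons_val_zero, Matrix.cons_val_one, Matrix.cons_val, map_one, mul_one, one_mul, sig]
    linear_combination h

omit [Fintype F] hσ in
theorem vec_ne (o : Option (HG σ)) : vec σ o ≠ 0 := by
  rcases o with _ | x
  · intro h
    have := congrFun h 0
    simp [vec] at this
  · intro h
    have := congrFun h 2
    simp [vec] at this

/-- the parametrisation -/
def par (σ : F →+* F) [hσ : Fact (∀ x, σ (σ x) = x)] (y : Fˣ × Option (HG σ)) : X σ :=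
  ⟨(y.1 : F) • vec σ y.2, smul_ne_zero y.1.ne_zero (vec_ne _), by
    rw [hG_smul_left, hG_smul_right, vec_iso, mul_zero, mul_zero]⟩

omit [Fintype F] in
theorem par_bijective : Function.Bijective (par σ) := by
  constructor
  · rintro ⟨l, o⟩ ⟨l', o'⟩ h
    have h0 : (l : F) * vec σ o 0 = (l' : F) * vec σ o' 0 := congrFun (congrArg Subtype.val h) 0
    have h1 : (l : F) * vec σ o 1 = (l' : F) * vec σ o' 1 := congrFun (congrArg Subtype.val h) 1
    have h2 : (l : F) * vec σ o 2 = (l' : F) * vec σ o' 2 := congrFun (congrArg Subtype.val h) 2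
    rcases o with _ | x <;> rcases o' with _ | y <;> simp [vec] at h0 h1 h2
    · exact Prod.ext (Units.ext h0) rfl
    · exact absurd h2.symm l'.ne_zero
    · have h3 : l = l' := Units.ext h2
      subst h3
      have hl := l.ne_zero
      have h4 : x.b = y.b := mul_left_cancel₀ hl (by simpa using h0)
      have h5 : x.a = y.a := σ.injective (by simpa using h1)
      have h6 : x = y := HG.ext h5 h4
      rw [h6]
  · rintro ⟨w, hw, hiso⟩
    by_cases h2 : w 2 = 0
    · have h1 : w 1 = 0 := by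
        simp only [hG, h2, map_zero, mul_zero, zero_mul, zero_sub, add_zero, neg_eq_zero, mul_eq_zero, map_eq_zero,
          or_self] at hiso
        exact hiso
      have h0 : w 0 ≠ 0 := by
        intro h0
        apply hw
        funext i
        fin_cases i
        · exact h0
        · exact h1
        · exact h2
      refine ⟨(Units.mk0 (w 0) h0, none), ?_⟩
      apply Subtype.ext
      funext i
      fin_cases i
      · simp [par, vec]
      · simp [par, vec, h1]
      · simp [par, vec, h2]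
    · refine ⟨(Units.mk0 (w 2) h2, some ⟨σ (w 1 / w 2), w 0 / w 2, ?_⟩), ?_⟩
      · have h2' : σ (w 2) ≠ 0 := (map_ne_zero σ).mpr h2
        rw [sig, map_div₀, map_div₀]
        simp only [hG] at hiso
        field_simp
        linear_combination hiso
      · apply Subtype.ext
        funext i
        fin_cases i
        · simp [par, vec]
          field_simp
        · simp [par, vec, sig]
          field_simp
        · simp [par, vec]

theorem sum_X (hF : Fintype.card F = q ^ 2) (f : (Fin 3 → F) → F) [Fintype (HG σ)]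
    (hf : ∀ (l : Fˣ) o, f ((l : F) • vec σ o) = f (vec σ o)) :
    ∑ w : X σ, f w.1 = -(f (vec σ none) + ∑ x : HG σ, f (vec σ (some x))) := by
  classical
  rw [← (Equiv.ofBijective _ par_bijective).sum_comp (fun w : X σ => f w.1), Fintype.sum_prod_type]
  have h1 : ∀ l : Fˣ, ∑ o : Option (HG σ), f ((Equiv.ofBijective _ par_bijective (l, o) : X σ)).1 =
      f (vec σ none) + ∑ x : HG σ, f (vec σ (some x)) := by
    intro l
    rw [Fintype.sum_option]
    simp only [Equiv.ofBijective_apply]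
    congr 1
    · exact hf l none
    · exact Finset.sum_congr rfl fun x _ => hf l (some x)
  rw [Finset.sum_congr rfl fun l _ => h1 l, Finset.sum_const, Finset.card_univ, nsmul_eq_mul]
  have h2 : ((Fintype.card Fˣ : ℕ) : F) = -1 := by
    have h3 : ((Fintype.card Fˣ + 1 : ℕ) : F) = 0 := by
      have h4 : Fintype.card Fˣ + 1 = Fintype.card F := by
        have := Fintype.card_units (α := F)
        have h5 : 0 < Fintype.card F := Fintype.card_pos
        omega
      rw [h4]
      exact FiniteField.cast_card_eq_zero F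
    push_cast at h3
    linear_combination h3
  rw [h2, neg_one_mul]

/-- the number of elements of given norm is one modulo the characteristic -/
theorem card_norm (hF : Fintype.card F = q ^ 2) (hs : ∀ x, σ x = x ^ q) {c : F} (hc : σ c = c) :
    ((Nat.card {a : F // a * σ a = c} : ℕ) : F) = 1 := by
  classical
  by_cases h0 : c = 0
  · have h1 : Nat.card {a : F // a * σ a = c} = 1 := by
      rw [Nat.card_eq_one_iff_unique]
      refine ⟨⟨?_⟩, ⟨0, by rw [zero_mul, h0]⟩⟩
      rintro ⟨a, ha⟩ ⟨b, hb⟩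
      rw [h0, mul_eq_zero, map_eq_zero, or_self] at ha hb
      exact Subtype.ext (ha.trans hb.symm)
    rw [h1, Nat.cast_one]
  · have h1 : Nat.card {a : F // a * σ a = c} = q + 1 := by
      rw [← LieClassical.HermBasic.card_norm_eq hF (c := c) (by rw [← hs, hc]) h0]
      exact Nat.card_congr (Equiv.subtypeEquivRight fun a => by rw [hs])
    have h2 : ((q : ℕ) : F) = 0 := by
      have h3 : ((q ^ 2 : ℕ) : F) = 0 := by rw [← hF]; exact FiniteField.cast_card_eq_zero F
      push_cast at h3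
      exact pow_eq_zero_iff (by norm_num) |>.1 h3
    rw [h1]
    push_cast
    rw [h2, zero_add]

theorem sum_HG (hF : Fintype.card F = q ^ 2) (hs : ∀ x, σ x = x ^ q) (g : F → F) [Fintype (HG σ)] :
    ∑ x : HG σ, g x.b = ∑ b : F, g b := by
  classical
  let e : HG σ ≃ (Σ b : F, {a : F // a * σ a = b + σ b}) :=
    { toFun := fun x => ⟨x.b, x.a, x.h.symm⟩
      invFun := fun y => ⟨y.2.1, y.1, y.2.2.symm⟩
      left_inv := fun x => rfl
      right_inv := fun y => rfl }
  rw [← e.symm.sum_comp, Fintype.sum_sigma]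
  refine Finset.sum_congr rfl fun b _ => ?_
  have h1 : ∀ a : {a : F // a * σ a = b + σ b}, g (e.symm ⟨b, a⟩).b = g b := fun a => rfl
  rw [Finset.sum_congr rfl fun a _ => h1 a, Finset.sum_const, Finset.card_univ, nsmul_eq_mul,
    ← Nat.card_eq_fintype_card, card_norm hF hs (by rw [map_add, sig, add_comm]), one_mul]

/-- the norm to the power `m` is one -/
theorem norm_pow {m : ℕ} (hF : Fintype.card F = q ^ 2) (hs : ∀ x, σ x = x ^ q) (hm : q ^ 2 - 1 = 2 * m) (hq : Odd q)
    {l : F} (hl : l ≠ 0) : σ l ^ m * l ^ m = 1 := by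
  obtain ⟨k, hk⟩ := hq
  have h1 : l ^ (q ^ 2 - 1) = 1 := by rw [← hF]; exact FiniteField.pow_card_sub_one_eq_one l hl
  rw [← mul_pow, hs, ← pow_succ, ← pow_mul]
  have h2 : (q + 1) * m = (q ^ 2 - 1) * (k + 1) := by rw [hm, hk]; ring
  rw [h2, pow_mul, h1, one_pow]

/-- the sum -/
noncomputable def TT (σ : F →+* F) (m : ℕ) (v v' : Fin 3 → F) : F := ∑ w : X σ, hG σ v w.1 ^ m * hG σ w.1 v' ^ m

theorem TT_smul_left (m : ℕ) (c : F) (v v' : Fin 3 → F) : TT σ m (c • v) v' = c ^ m * TT σ m v v' := by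
  unfold TT
  rw [Finset.mul_sum]
  refine Finset.sum_congr rfl fun w _ => ?_
  rw [hG_smul_left, mul_pow]; ring

theorem TT_smul_right (m : ℕ) (c : F) (v v' : Fin 3 → F) : TT σ m v (c • v') = σ c ^ m * TT σ m v v' := by
  unfold TT
  rw [Finset.mul_sum]
  refine Finset.sum_congr rfl fun w _ => ?_
  rw [hG_smul_right, mul_pow]; ring

/-- elements of the group permute the isotropic vectors -/
def perm (g : SUG σ) : X σ → X σ := fun w => ⟨g.1.1 *ᵥ w.1, by
  intro h
  apply w.2.1
  have h1 := congrArg (fun y => (g⁻¹).1.1 *ᵥ y) h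
  simp only [Matrix.mulVec_mulVec, Matrix.mulVec_zero] at h1
  rw [← coe_mul_SUG, inv_mul_cancel] at h1
  have h2 : ((1 : SUG σ).1.1 : Matrix (Fin 3) (Fin 3) F) = 1 := rfl
  rwa [h2, Matrix.one_mulVec] at h1, by rw [hG_mulVec]; exact w.2.2⟩

theorem perm_bijective (g : SUG σ) : Function.Bijective (perm g) := by
  have h1 : ∀ g : SUG σ, ∀ w, perm g⁻¹ (perm g w) = w := by
    intro g w
    apply Subtype.ext
    show (g⁻¹).1.1 *ᵥ (g.1.1 *ᵥ w.1) = w.1
    rw [Matrix.mulVec_mulVec, ← coe_mul_SUG, inv_mul_cancel]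
    have h2 : ((1 : SUG σ).1.1 : Matrix (Fin 3) (Fin 3) F) = 1 := rfl
    rw [h2, Matrix.one_mulVec]
  refine ⟨Function.LeftInverse.injective (h1 g), fun w => ⟨perm g⁻¹ w, ?_⟩⟩
  have := h1 g⁻¹ w
  rwa [inv_inv] at this

theorem TT_mulVec (m : ℕ) (g : SUG σ) (v v' : Fin 3 → F) :
    TT σ m (g.1.1 *ᵥ v) (g.1.1 *ᵥ v') = TT σ m v v' := by
  unfold TT
  rw [← (Equiv.ofBijective _ (perm_bijective g)).sum_comp]
  refine Finset.sum_congr rfl fun w _ => ?_
  show hG σ (g.1.1 *ᵥ v) (g.1.1 *ᵥ w.1) ^ m * hG σ (g.1.1 *ᵥ w.1) (g.1.1 *ᵥ v') ^ m = _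
  rw [hG_mulVec, hG_mulVec]

/-- **the matrix has square zero** -/
theorem sq_zero (hF : Fintype.card F = q ^ 2) (hs : ∀ x, σ x = x ^ q) {m : ℕ} (hm : q ^ 2 - 1 = 2 * m) (hq : Odd q)
    (v v' : X σ) : TT σ m v.1 v'.1 = 0 := by
  classical
  have : Fintype (HG σ) := Fintype.ofInjective (fun x : HG σ => (x.a, x.b)) (fun x y h => by
    ext
    · exact congrArg Prod.fst h
    · exact congrArg Prod.snd h)
  have h2le := LieClassical.HermBasic.two_le hF
  have hm0 : 0 < m := by
    have : 2 ^ 2 ≤ q ^ 2 := Nat.pow_le_pow_left h2le 2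
    omega
  have hq0 : ((q : ℕ) : F) = 0 := by
    have h3 : ((q ^ 2 : ℕ) : F) = 0 := by rw [← hF]; exact FiniteField.cast_card_eq_zero F
    push_cast at h3
    exact pow_eq_zero_iff (by norm_num) |>.1 h3
  -- `e₀`, `e₀`
  have hhom : ∀ u u' : Fin 3 → F, ∀ (l : Fˣ) o, hG σ u ((l : F) • vec σ o) ^ m * hG σ ((l : F) • vec σ o) u' ^ m =
      hG σ u (vec σ o) ^ m * hG σ (vec σ o) u' ^ m := by
    intro u u' l o
    rw [hG_smul_left, hG_smul_right, mul_pow, mul_pow]
    have := norm_pow hF hs hm hq l.ne_zero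
    linear_combination (hG σ u (vec σ o) ^ m * hG σ (vec σ o) u' ^ m) * this
  have c1 : TT σ m ![1, 0, 0] ![1, 0, 0] = 0 := by
    unfold TT
    rw [sum_X hF (fun w => hG σ ![1, 0, 0] w ^ m * hG σ w ![1, 0, 0] ^ m) (hhom _ _)]
    have h1 : ∀ x : HG σ, hG σ ![1, 0, 0] (vec σ (some x)) ^ m * hG σ (vec σ (some x)) ![1, 0, 0] ^ m = 1 := by
      intro x
      simp [hG, vec]
    rw [Finset.sum_congr rfl fun x _ => h1 x, Finset.sum_const, Finset.card_univ, nsmul_eq_mul, mul_one,
      ← Nat.card_eq_fintype_card, H212.U3.Model.card_HG hF hs]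
    push_cast
    rw [hq0]
    simp [hG, vec, hm0.ne']
  have c2 : TT σ m ![1, 0, 0] ![0, 0, 1] = 0 := by
    unfold TT
    rw [sum_X hF (fun w => hG σ ![1, 0, 0] w ^ m * hG σ w ![0, 0, 1] ^ m) (hhom _ _)]
    have h1 : ∀ x : HG σ, hG σ ![1, 0, 0] (vec σ (some x)) ^ m * hG σ (vec σ (some x)) ![0, 0, 1] ^ m = x.b ^ m := by
      intro x
      simp [hG, vec]
    rw [Finset.sum_congr rfl fun x _ => h1 x, sum_HG hF hs (fun b => b ^ m),
      FiniteField.sum_pow_lt_card_sub_one F m (by rw [hF]; omega)]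
    simp [hG, vec, hm0.ne']
  -- all vectors in terms of the two
  have hform : ∀ u : X σ, ∃ (l : Fˣ) (o : Option (HG σ)), u.1 = (l : F) • vec σ o := by
    intro u
    obtain ⟨⟨l, o⟩, h⟩ := (par_bijective (σ := σ)).2 u
    exact ⟨l, o, by rw [← h]; rfl⟩
  have hemb0 : ∀ x : HG σ, (emb σ x).1.1 *ᵥ ![1, 0, 0] = (![1, 0, 0] : Fin 3 → F) := by
    intro x
    rw [emb_val]
    funext i
    fin_cases i <;> simp [umat, Matrix.mulVec, dotProduct, Fin.sum_univ_three]
  have hemb2 : ∀ x : HG σ, (emb σ x).1.1 *ᵥ ![0, 0, 1] = vec σ (some x) := by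
    intro x
    rw [emb_val]
    funext i
    fin_cases i <;> simp [umat, vec, Matrix.mulVec, dotProduct, Fin.sum_univ_three]
  have hwel : (wel σ).1.1 *ᵥ ![0, 0, 1] = (-1 : F) • (![1, 0, 0] : Fin 3 → F) := by
    rw [wel_val]
    funext i
    fin_cases i <;> simp [Wm, Matrix.mulVec, dotProduct, Fin.sum_univ_three]
  have d1 : ∀ u : X σ, TT σ m ![1, 0, 0] u.1 = 0 := by
    intro u
    obtain ⟨l, o, h⟩ := hform u
    rw [h, TT_smul_right]
    rcases o with _ | x
    · show _ * TT σ m ![1, 0, 0] ![1, 0, 0] = 0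
      rw [c1, mul_zero]
    · rw [← hemb2 x, ← hemb0 x, TT_mulVec, c2, mul_zero]
  have d2 : ∀ u : X σ, TT σ m ![0, 0, 1] u.1 = 0 := by
    intro u
    rw [← TT_mulVec m (wel σ), hwel, TT_smul_left]
    have := d1 (perm (wel σ) u)
    change TT σ m ![1, 0, 0] ((wel σ).1.1 *ᵥ u.1) = 0 at this
    rw [this, mul_zero]
  obtain ⟨l, o, h⟩ := hform v
  rw [h, TT_smul_left]
  rcases o with _ | x
  · show _ * TT σ m ![1, 0, 0] _ = 0
    rw [d1, mul_zero]
  · rw [← hemb2 x]
    have h3 : (v'.1 : Fin 3 → F) = (emb σ x).1.1 *ᵥ (perm (emb σ x)⁻¹ v').1 := by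
      show v'.1 = (emb σ x).1.1 *ᵥ (((emb σ x)⁻¹ : SUG σ).1.1 *ᵥ v'.1)
      rw [Matrix.mulVec_mulVec, ← coe_mul_SUG, mul_inv_cancel]
      have h2 : ((1 : SUG σ).1.1 : Matrix (Fin 3) (Fin 3) F) = 1 := rfl
      rw [h2, Matrix.one_mulVec]
    rw [h3, TT_mulVec, d2, mul_zero]

/-- **The two-graph lemma**, in the model. -/
theorem sum_eq_zero (hF : Fintype.card F = q ^ 2) (hs : ∀ x, σ x = x ^ q) {m : ℕ} (hm : q ^ 2 - 1 = 2 * m) (hq : Odd q)
    (φ : Equiv.Perm (X σ)) (hφ : ∀ v w : X σ, hG σ (φ v).1 (φ w).1 ^ m = hG σ v.1 w.1 ^ m) :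
    ∑ v : X σ, hG σ v.1 (φ v).1 ^ m = 0 :=
  trace_zero (fun v w : X σ => hG σ v.1 w.1 ^ m) φ (fun v v' => sq_zero hF hs hm hq v v') hφ

/-- the number of nonzero isotropic vectors modulo the characteristic -/
theorem card_X (hF : Fintype.card F = q ^ 2) (hs : ∀ x, σ x = x ^ q) : ((Fintype.card (X σ) : ℕ) : F) = -1 := by
  classical
  have : Fintype (HG σ) := Fintype.ofInjective (fun x : HG σ => (x.a, x.b)) (fun x y h => by
    ext
    · exact congrArg Prod.fst h
    · exact congrArg Prod.snd h)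
  have hq0 : ((q : ℕ) : F) = 0 := by
    have h3 : ((q ^ 2 : ℕ) : F) = 0 := by rw [← hF]; exact FiniteField.cast_card_eq_zero F
    push_cast at h3
    exact pow_eq_zero_iff (by norm_num) |>.1 h3
  have h1 := sum_X (σ := σ) hF (fun _ => 1) (fun _ _ => rfl)
  rw [Finset.sum_const, Finset.sum_const, Finset.card_univ, Finset.card_univ, nsmul_eq_mul, nsmul_eq_mul, mul_one,
    mul_one, ← Nat.card_eq_fintype_card (α := HG σ), H212.U3.Model.card_HG hF hs] at h1
  push_cast at h1
  rw [h1, hq0]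
  ring

end Model

end Cfsg.Agent.H705.TG
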