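import Cfsg.Agent.H705.ComTG
import Cfsg.Agent.UThreeGen.Recog
import Cfsg.Agent.ClassicalGeometry.PSUAutMain

/-!
# The unitary two-graph in the standard form, and semilinear isometries (helper705)

`exists_square`, `exists_nonsquare` : if the semilinear isometry `φ = A ρ` fixes no isotropic point, then there are isotropic
vectors with `h(v, φ v) ^ m = 1` and with `h(v, φ v) ^ m = -1`, where `m = (q² - 1) / 2`.
-/

set_option autoImplicit false
set_option linter.unusedSectionVars false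

namespace Cfsg.Agent.H705.TG

open Matrix Cfsg Cfsg.Agent.UThreeGen.MatGroup Cfsg.Agent.LieClassical.HermBasic
open Cfsg.Agent.ClassicalGeometry.PSUAutCount

variable {F : Type*} [Field F] [Fintype F] {q : ℕ}

/-- nonzero isotropic vectors of the standard form -/
def Y (F : Type*) [Field F] (q : ℕ) : Type _ := {w : Fin 3 → F // w ≠ 0 ∧ hermForm 3 F q w w = 0}

noncomputable instance : Fintype (Y F q) := by
  classical
  exact Subtype.fintype _

theorem exists_frob (hF : Fintype.card F = q ^ 2) : ∃ σ : F →+* F, (∀ x, σ x = x ^ q) ∧ ∀ x, σ (σ x) = x :=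
  ⟨(conj hF : F →+* F), fun x => conj_apply hF x, fun x => by
    show conj hF (conj hF x) = x
    rw [conj_apply, conj_apply, pow_q_pow_q hF]⟩

theorem herm_T {σ : F →+* F} (hs : ∀ x, σ x = x ^ q) {T : Matrix (Fin 3) (Fin 3) F} (hT : Tᵀ * T.map σ = -Gm F)
    (x y : Fin 3 → F) : hermForm 3 F q (T *ᵥ x) (T *ᵥ y) = -hG σ x y := by
  have e : ∀ i j, T 0 i * σ (T 0 j) + T 1 i * σ (T 1 j) + T 2 i * σ (T 2 j) = -Gm F i j := by
    intro i j
    have := congrFun (congrFun hT i) j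
    rw [Matrix.mul_apply, Fin.sum_univ_three] at this
    simpa [Matrix.transpose_apply, Matrix.map_apply] using this
  have key : hermForm 3 F q (T *ᵥ x) (T *ᵥ y) = ∑ i, ∑ j, x i * σ (y j) *
      (T 0 i * σ (T 0 j) + T 1 i * σ (T 1 j) + T 2 i * σ (T 2 j)) := by
    simp only [herm_def, ← hs, Matrix.mulVec, dotProduct, Fin.sum_univ_three, map_add, map_mul]
    ring
  rw [key]
  simp only [e, Gm, Fin.sum_univ_three, hG]
  simp
  ring

/-- the two models -/
theorem exists_equiv (hF : Fintype.card F = q ^ 2) (hq : Odd q) : ∃ (σ : F →+* F) (_ : Fact (∀ x, σ (σ x) = x))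
    (e : X σ ≃ Y F q), (∀ x, σ x = x ^ q) ∧ ∀ v w : X σ, hermForm 3 F q (e v).1 (e w).1 = -hG σ v.1 w.1 := by
  obtain ⟨σ, hs, hσ⟩ := exists_frob hF
  have hσ' : Fact (∀ x, σ (σ x) = x) := ⟨hσ⟩
  have hF' : Nat.card F = q ^ 2 := by rw [Nat.card_eq_fintype_card, hF]
  have h2le := two_le hF
  have h2 : (2 : F) ≠ 0 := by
    intro h2
    have h3 : CharP F 2 := CharTwo.of_one_ne_zero_of_two_eq_zero one_ne_zero h2
    obtain ⟨n, -, hn⟩ := FiniteField.card F 2
    rw [hF] at hn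
    have h4 : Even (q ^ 2) := by rw [hn]; exact (Nat.even_pow' n.ne_zero).2 even_two
    exact (Nat.not_even_iff_odd.2 hq.pow) h4
  obtain ⟨v, hv⟩ := UThreeGen.Recog.exists_norm (σ := σ) h2le hs hF' (c := -1) (by rw [map_neg, map_one])
  obtain ⟨T, T', hTT', hT⟩ := UThreeGen.Recog.exists_T (σ := σ) h2 hv
  have hT'T : T' * T = 1 := mul_eq_one_comm.1 hTT'
  have hh := herm_T hs hT
  have hinv : ∀ x, T' *ᵥ (T *ᵥ x) = x := fun x => by rw [Matrix.mulVec_mulVec, hT'T, Matrix.one_mulVec]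
  have hinv' : ∀ x, T *ᵥ (T' *ᵥ x) = x := fun x => by rw [Matrix.mulVec_mulVec, hTT', Matrix.one_mulVec]
  refine ⟨σ, hσ', ⟨fun v => ⟨T *ᵥ v.1, ?_, ?_⟩, fun w => ⟨T' *ᵥ w.1, ?_, ?_⟩, fun v => ?_, fun w => ?_⟩, hs, fun v w => ?_⟩
  · intro h
    apply v.2.1
    rw [← hinv v.1, h, Matrix.mulVec_zero]
  · rw [hh, v.2.2, neg_zero]
  · intro h
    apply w.2.1
    rw [← hinv' w.1, h, Matrix.mulVec_zero]
  · have h1 := hh (T' *ᵥ w.1) (T' *ᵥ w.1)
    rw [hinv', w.2.2] at h1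
    exact neg_eq_zero.1 h1.symm
  · exact Subtype.ext (hinv v.1)
  · exact Subtype.ext (hinv' w.1)
  · exact hh v.1 w.1

/-- `m = (q² - 1) / 2` is even -/
theorem even_m {m : ℕ} (hm : q ^ 2 - 1 = 2 * m) (hq : Odd q) : Even m := by
  obtain ⟨k, rfl⟩ := hq
  have h1 : (2 * k + 1) ^ 2 - 1 = 2 * (2 * (k * (k + 1))) := by
    have : (2 * k + 1) ^ 2 = 2 * (2 * (k * (k + 1))) + 1 := by ring
    omega
  exact ⟨k * (k + 1), by omega⟩

theorem sum_eq_zero_std (hF : Fintype.card F = q ^ 2) {m : ℕ} (hm : q ^ 2 - 1 = 2 * m) (hq : Odd q)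
    (φ : Equiv.Perm (Y F q)) (hφ : ∀ v w : Y F q, hermForm 3 F q (φ v).1 (φ w).1 ^ m = hermForm 3 F q v.1 w.1 ^ m) :
    ∑ v : Y F q, hermForm 3 F q v.1 (φ v).1 ^ m = 0 := by
  classical
  obtain ⟨σ, hσ, e, hs, he⟩ := exists_equiv hF hq
  have hev := even_m hm hq
  have h1 := sum_eq_zero hF hs hm hq ((e.trans φ).trans e.symm) (by
    intro v w
    have h2 := hφ (e v) (e w)
    rw [he, hev.neg_pow] at h2
    rw [← h2, ← hev.neg_pow, ← he]
    simp)
  refine Eq.trans ?_ h1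
  rw [← e.sum_comp]
  refine Finset.sum_congr rfl fun v _ => ?_
  have h3 : φ (e v) = e (((e.trans φ).trans e.symm) v) := by simp
  rw [h3, he, hev.neg_pow]

theorem card_Y (hF : Fintype.card F = q ^ 2) (hq : Odd q) : ((Fintype.card (Y F q) : ℕ) : F) = -1 := by
  obtain ⟨σ, hσ, e, hs, -⟩ := exists_equiv hF hq
  rw [← card_X (σ := σ) hF hs]
  congr 1
  exact (Fintype.card_congr e).symm

/-- the semilinear isometry `v ↦ A ρ(v)` on isotropic vectors -/
def phi (A : Cfsg.GU 3 F q) (ρ : F ≃+* F) (v : Fin 3 → F) : Fin 3 → F := gm A *ᵥ fun i => ρ (v i)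

omit [Fintype F] in
theorem herm_phi (A : Cfsg.GU 3 F q) (ρ : F ≃+* F) (v w : Fin 3 → F) :
    hermForm 3 F q (phi A ρ v) (phi A ρ w) = ρ (hermForm 3 F q v w) := herm_semi A ρ v w

omit [Fintype F] in
theorem phi_smul (A : Cfsg.GU 3 F q) (ρ : F ≃+* F) (c : F) (v : Fin 3 → F) : phi A ρ (c • v) = ρ c • phi A ρ v := by
  unfold phi
  rw [← Matrix.mulVec_smul]
  congr 1
  funext i
  simp

/-- the permutation of the isotropic vectors -/
def phiE (A : Cfsg.GU 3 F q) (ρ : F ≃+* F) : Equiv.Perm (Y F q) where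
  toFun v := ⟨phi A ρ v.1, by
    intro h
    apply v.2.1
    have h1 : (fun i => ρ (v.1 i)) = 0 := by
      have := congrArg (fun y => gm A⁻¹ *ᵥ y) h
      simp only [phi, gm_inv_mulVec, Matrix.mulVec_zero] at this
      exact this
    funext i
    have := congrFun h1 i
    simpa using this, by rw [herm_phi, v.2.2, map_zero]⟩
  invFun w := ⟨fun i => ρ.symm ((gm A⁻¹ *ᵥ w.1) i), by
    intro h
    apply w.2.1
    have h1 : gm A⁻¹ *ᵥ w.1 = 0 := by
      funext i
      have := congrFun h i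
      simpa using this
    rw [← gm_mulVec_inv A w.1, h1, Matrix.mulVec_zero], by
    rw [herm_map, herm_gm, w.2.2, map_zero]⟩
  left_inv v := by
    apply Subtype.ext
    funext i
    show ρ.symm ((gm A⁻¹ *ᵥ (gm A *ᵥ fun i => ρ (v.1 i))) i) = v.1 i
    rw [gm_inv_mulVec, RingEquiv.symm_apply_apply]
  right_inv w := by
    apply Subtype.ext
    show gm A *ᵥ (fun i => ρ (ρ.symm ((gm A⁻¹ *ᵥ w.1) i))) = w.1
    simp only [RingEquiv.apply_symm_apply]
    exact gm_mulVec_inv A w.1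

/-- values of the quadratic character -/
theorem pow_m_cases {m : ℕ} (hF : Fintype.card F = q ^ 2) (hm : q ^ 2 - 1 = 2 * m) (x : F) (hx : x ≠ 0) :
    x ^ m = 1 ∨ x ^ m = -1 := by
  have h1 : (x ^ m) ^ 2 = 1 := by
    rw [← pow_mul, mul_comm, ← hm, ← hF]
    exact FiniteField.pow_card_sub_one_eq_one x hx
  exact sq_eq_one_iff.1 h1

theorem map_pow_m {m : ℕ} (hF : Fintype.card F = q ^ 2) (hm : q ^ 2 - 1 = 2 * m) (hm0 : m ≠ 0) (ρ : F ≃+* F) (x : F) :
    (ρ x) ^ m = x ^ m := by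
  by_cases hx : x = 0
  · rw [hx, map_zero]
  · rw [← map_pow]
    rcases pow_m_cases hF hm x hx with h | h
    · rw [h, map_one]
    · rw [h, map_neg, map_one]

/-- both values occur -/
theorem exists_both (hF : Fintype.card F = q ^ 2) (hq : Odd q) {m : ℕ} (hm : q ^ 2 - 1 = 2 * m) (A : Cfsg.GU 3 F q)
    (ρ : F ≃+* F) (hno : ∀ v : Fin 3 → F, v ≠ 0 → hermForm 3 F q v v = 0 → hermForm 3 F q v (phi A ρ v) ≠ 0) :
    (∃ v : Fin 3 → F, v ≠ 0 ∧ hermForm 3 F q v v = 0 ∧ hermForm 3 F q v (phi A ρ v) ^ m = 1) ∧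
      ∃ v : Fin 3 → F, v ≠ 0 ∧ hermForm 3 F q v v = 0 ∧ hermForm 3 F q v (phi A ρ v) ^ m = -1 := by
  classical
  have h2le := two_le hF
  have hm0 : m ≠ 0 := by
    rintro rfl
    have : 2 ^ 2 ≤ q ^ 2 := Nat.pow_le_pow_left h2le 2
    omega
  have h0 := sum_eq_zero_std hF hm hq (phiE A ρ) (fun v w => by
    show hermForm 3 F q (phi A ρ v.1) (phi A ρ w.1) ^ m = _
    rw [herm_phi, map_pow_m hF hm hm0])
  have hcard := card_Y (F := F) hF hq
  have hval : ∀ v : Y F q, hermForm 3 F q v.1 (phiE A ρ v).1 ^ m = 1 ∨ hermForm 3 F q v.1 (phiE A ρ v).1 ^ m = -1 :=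
    fun v => pow_m_cases hF hm _ (hno v.1 v.2.1 v.2.2)
  constructor
  · by_contra hcon
    push Not at hcon
    have h1 : ∀ v : Y F q, hermForm 3 F q v.1 (phiE A ρ v).1 ^ m = -1 := fun v =>
      (hval v).resolve_left (hcon v.1 v.2.1 v.2.2)
    rw [Finset.sum_congr rfl fun v _ => h1 v, Finset.sum_const, Finset.card_univ, nsmul_eq_mul, hcard] at h0
    simp at h0
  · by_contra hcon
    push Not at hcon
    have h1 : ∀ v : Y F q, hermForm 3 F q v.1 (phiE A ρ v).1 ^ m = 1 := fun v =>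
      (hval v).resolve_right (hcon v.1 v.2.1 v.2.2)
    rw [Finset.sum_congr rfl fun v _ => h1 v, Finset.sum_const, Finset.card_univ, nsmul_eq_mul, hcard] at h0
    simp at h0

end Cfsg.Agent.H705.TG
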