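import Cfsg.Agent.H705.ComData
import Cfsg.Agent.H705.ComCyc

/-!
# Rank one groups with cyclic torus (helper705)

`com_of_cyclic` : `Com p K` for a rank one group with torus `⟨t₀⟩` of order `m * n`, whose elements `t` with `t ^ m ≠ 1` have
no fixed points in `U`.
-/

set_option autoImplicit false
set_option linter.unusedSectionVars false

namespace Cfsg.Agent.H705

open Cfsg Cfsg.Agent.LieRecognition.RankOneAbstract
open scoped Pointwise

variable {K : Type*} [Group K] {r : ℕ} {B U : Subgroup K} {w : K}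
variable [Finite K] [hr : Fact r.Prime] (D : Data B U w) (P₀ : Sylow r K) (hP₀ : (P₀ : Subgroup K) = U)

include D hP₀

/-- the action on the Sylow subgroups is faithful -/
theorem faithful_syl (hU : U ≠ ⊥) [hs : IsSimpleGroup K] : FaithfulSMul K (Sylow r K) := by
  have hne : P₀ ≠ w • P₀ := (w_smul_ne D P₀ hP₀ hU).symm
  have h1 : (MulAction.toPermHom K (Sylow r K)).ker = ⊥ := by
    rcases hs.eq_bot_or_eq_top_of_normal _ (MonoidHom.normal_ker (MulAction.toPermHom K (Sylow r K))) with h2 | h2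
    · exact h2
    · exfalso
      have h3 : w ∈ (MulAction.toPermHom K (Sylow r K)).ker := by rw [h2]; trivial
      rw [MonoidHom.mem_ker] at h3
      have h4 : w • P₀ = P₀ := by
        have := congrArg (fun e : Equiv.Perm (Sylow r K) => e P₀) h3
        exact this
      exact hne h4.symm
  constructor
  intro a b hab
  have h2 : a⁻¹ * b ∈ (MulAction.toPermHom K (Sylow r K)).ker := by
    rw [MonoidHom.mem_ker]
    ext1 x
    show (a⁻¹ * b) • x = x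
    rw [mul_smul, ← hab x, inv_smul_smul]
  rw [h1, Subgroup.mem_bot] at h2
  exact (inv_mul_eq_one.1 h2)

/-- the stabiliser of `P₀` and `w • P₀` is the torus -/
theorem mem_st2_iff (hU : U ≠ ⊥) {t : K} : t ∈ (oneSyl D P₀ hP₀ hU).st2 P₀ (w • P₀) ↔ t ∈ B ∧ w⁻¹ * t * w ∈ B := by
  rw [(oneSyl D P₀ hP₀ hU).mem_st2, smul_eq_iff D P₀ hP₀ hU, ← inv_smul_eq_iff (g := w), ← mul_smul, ← mul_smul,
    smul_eq_iff D P₀ hP₀ hU]

/-- **Rank one groups with cyclic torus.** -/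
theorem com_of_cyclic (hU : U ≠ ⊥) [hs : IsSimpleGroup K] (hsol : ¬ Group.IsSolvable K) {p : ℕ}
    (hp : p.Prime) (hpr : p ≠ r) {t₀ : K} (ht₀ : t₀ ∈ B) (htw₀ : w⁻¹ * t₀ * w ∈ B)
    (hgen : ∀ t ∈ B, w⁻¹ * t * w ∈ B → t ∈ Subgroup.zpowers t₀) {m n : ℕ} (hN : orderOf t₀ = m * n) (hn : 1 < n)
    (hreg : ∀ t ∈ B, w⁻¹ * t * w ∈ B → t ^ m ≠ 1 → ∀ u ∈ U, t * u * t⁻¹ = u → u = 1)
    (hcop : ∀ i, n = p ^ i → p ≠ 2 ∧ ¬ p ∣ m ∧ ¬ p ∣ Nat.card U + 1) : Com p K := by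
  have hab : ∀ s ∈ B, ∀ t ∈ B, w⁻¹ * s * w ∈ B → w⁻¹ * t * w ∈ B → s * t = t * s := by
    intro s hs t ht hsw htw
    obtain ⟨i, rfl⟩ := Subgroup.mem_zpowers_iff.1 (hgen s hs hsw)
    obtain ⟨j, rfl⟩ := Subgroup.mem_zpowers_iff.1 (hgen t ht htw)
    rw [← zpow_add, ← zpow_add, add_comm]
  have hpow : ∀ j : ℕ, t₀ ^ j ∈ B ∧ w⁻¹ * t₀ ^ j * w ∈ B := by
    intro j
    refine ⟨pow_mem ht₀ j, ?_⟩
    have h1 : w⁻¹ * t₀ ^ j * w = (w⁻¹ * t₀ * w) ^ j := by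
      have := conj_pow (i := j) (a := w⁻¹) (b := t₀)
      rw [inv_inv] at this
      exact this.symm
    rw [h1]
    exact pow_mem htw₀ j
  have hm0 : m ≠ 0 := by
    rintro rfl
    rw [zero_mul] at hN
    exact (orderOf_pos t₀).ne' hN
  have hreg₀ : ∀ u ∈ U, t₀ * u * t₀⁻¹ = u → u = 1 := by
    apply hreg _ ht₀ htw₀
    intro h
    have h1 := orderOf_dvd_of_pow_eq_one h
    rw [hN] at h1
    have h2 := Nat.le_of_dvd (Nat.pos_of_ne_zero hm0) h1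
    have h3 : m * 1 < m * n := Nat.mul_lt_mul_of_pos_left hn (Nat.pos_of_ne_zero hm0)
    omega
  apply com_of_data D P₀ hP₀ hU hsol hp hpr hab ⟨t₀, ht₀, htw₀, hreg₀⟩
  by_cases hpow2 : ∃ i, n = p ^ i
  · obtain ⟨i, hi⟩ := hpow2
    obtain ⟨hp2, hpm, hpΩ⟩ := hcop i hi
    right
    intro g hg
    have hfaith := faithful_syl D P₀ hP₀ hU
    have hne : P₀ ≠ w • P₀ := (w_smul_ne D P₀ hP₀ hU).symm
    have hcyc : IsCyclic ((oneSyl D P₀ hP₀ hU).st2 P₀ (w • P₀)) := by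
      refine ⟨⟨⟨t₀, (mem_st2_iff D P₀ hP₀ hU).2 ⟨ht₀, htw₀⟩⟩, ?_⟩⟩
      rintro ⟨t, ht⟩
      obtain ⟨h1, h2⟩ := (mem_st2_iff D P₀ hP₀ hU).1 ht
      obtain ⟨j, hj⟩ := Subgroup.mem_zpowers_iff.1 (hgen t h1 h2)
      exact Subgroup.mem_zpowers_iff.2 ⟨j, Subtype.ext hj⟩
    refine (oneSyl D P₀ hP₀ hU).two_of_cyclic hsol hr.out hp hp2 hpr ?_ hne hcyc ?_ hg
    · rw [(oneSyl D P₀ hP₀ hU).card_points P₀]
      show ¬ p ∣ Nat.card (P₀ : Subgroup K) + 1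
      rw [hP₀]
      exact hpΩ
    · intro t ht hto z hz
      obtain ⟨h1, h2⟩ := (mem_st2_iff D P₀ hP₀ hU).1 ht
      refine (fix_iff D P₀ hP₀ hU h1 h2 (hreg t h1 h2 ?_) z).1 hz
      intro h
      apply hpm
      rw [← hto]
      exact orderOf_dvd_of_pow_eq_one h
  · left
    obtain ⟨h1, h2⟩ := hpow (p ^ (m * n).factorization p)
    have hmn : m * n ≠ 0 := mul_ne_zero hm0 (by omega)
    have hord : orderOf (t₀ ^ p ^ (m * n).factorization p) = m * n / p ^ (m * n).factorization p := by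
      rw [orderOf_pow, hN, Nat.gcd_eq_right (Nat.ordProj_dvd _ _)]
    refine ⟨_, h1, h2, hreg _ h1 h2 ?_, ?_⟩
    · intro h
      rw [← pow_mul] at h
      have h3 := orderOf_dvd_of_pow_eq_one h
      rw [hN, mul_comm m n] at h3
      have h4 := Nat.dvd_of_mul_dvd_mul_right (Nat.pos_of_ne_zero hm0) h3
      obtain ⟨i, -, hi⟩ := (Nat.dvd_prime_pow hp).1 h4
      exact hpow2 ⟨i, hi⟩
    · rw [hord]
      exact Nat.not_dvd_ordCompl hp hmn

end Cfsg.Agent.H705
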