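import Cfsg.Agent.H705.ComUInv

/-!
# `PSU₃(3)` at the prime two (helper705)
-/

set_option autoImplicit false
set_option linter.unusedSectionVars false

namespace Cfsg.Agent.H705.USpec

open Cfsg Matrix
open Cfsg.Agent.LieClassical.HermBasic Cfsg.Agent.LieClassical.HermSiegel
open Cfsg.Agent.ClassicalGeometry.UnitAutBasic Cfsg.Agent.ClassicalGeometry.PSUAutCount
open Cfsg.Agent.HKS.EndU (tor)

variable {F : Type*} [Field F] [Fintype F]

theorem card_K (hF : Fintype.card F = 3 ^ 2) : Nat.card (PSU 3 F 3) = 6048 := by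
  have h := Cfsg.Agent.S0280.result (F := F) (q := 3) hF 3 (by norm_num)
  norm_num [Finset.prod_range_succ, Nat.even_iff] at h
  omega

/-- the rank one structure of `PSU₃(3)` -/
theorem exists_struct (hF : Fintype.card F = 3 ^ 2) [hfin : Finite (PSU 3 F 3)] [hs : IsSimpleGroup (PSU 3 F 3)]
    [hr : Fact (Nat.Prime 3)] :
    ∃ O : One 3 (PSU 3 F 3) (Sylow 3 (PSU 3 F 3)), (∀ x, O.U x = x) ∧ FaithfulSMul (PSU 3 F 3) (Sylow 3 (PSU 3 F 3)) ∧
      (∀ x : Sylow 3 (PSU 3 F 3), Nat.card (x : Subgroup (PSU 3 F 3)) = 27) ∧ Nat.card (Sylow 3 (PSU 3 F 3)) = 28 := by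
  have hch : CharP F 3 := charP_three hF
  obtain ⟨σ, hσ, π, E⟩ := PSU.exists_mod F hF (by norm_num)
  obtain ⟨P₀, hP₀⟩ := E.exists_syl (r := 3) (by norm_num)
  have hU := E.unip_ne (by norm_num)
  have h27 : ∀ x : Sylow 3 (PSU 3 F 3), Nat.card (x : Subgroup (PSU 3 F 3)) = 27 := by
    intro x
    obtain ⟨g, rfl⟩ := MulAction.exists_smul_eq (PSU 3 F 3) P₀ x
    have h1 := Nat.card_congr (Sylow.equivSMul P₀ g).toEquiv
    rw [← h1, hP₀, E.card_unip]
    norm_num
  refine ⟨oneSyl E.data P₀ hP₀ hU, fun x => rfl, faithful_syl E.data P₀ hP₀ hU, h27, ?_⟩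
  rw [(oneSyl E.data P₀ hP₀ hU).card_points P₀]
  show Nat.card (P₀ : Subgroup (PSU 3 F 3)) + 1 = 28
  rw [h27]

theorem card_stab (hF : Fintype.card F = 3 ^ 2) [hfin : Finite (PSU 3 F 3)] [hs : IsSimpleGroup (PSU 3 F 3)]
    [hr : Fact (Nat.Prime 3)] (x : Sylow 3 (PSU 3 F 3)) :
    Nat.card (MulAction.stabilizer (PSU 3 F 3) x) = 216 := by
  obtain ⟨O, -, -, -, h28⟩ := exists_struct (F := F) hF
  have h1 := x.card_eq_index_normalizer
  rw [h28] at h1
  have h2 := (Subgroup.normalizer (x : Set (PSU 3 F 3))).card_mul_index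
  rw [← h1, card_K hF] at h2
  have h3 : MulAction.stabilizer (PSU 3 F 3) x = Subgroup.normalizer (x : Set (PSU 3 F 3)) :=
    Sylow.stabilizer_eq_normalizer x
  rw [h3]
  omega

/-- involutions have fixed points -/
theorem inv_fix (hF : Fintype.card F = 3 ^ 2) [hfin : Finite (PSU 3 F 3)] [hs : IsSimpleGroup (PSU 3 F 3)]
    [hr : Fact (Nat.Prime 3)] {c : PSU 3 F 3} (hc : c * c = 1) : ∃ x : Sylow 3 (PSU 3 F 3), c • x = x := by
  have hch : CharP F 3 := charP_three hF
  obtain ⟨O, hOU, -, -, -⟩ := exists_struct (F := F) hF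
  obtain ⟨g, rfl⟩ := pr_surjective c
  have hg : g * g = 1 := by
    apply pr_inj hF
    rw [map_mul, map_one, hc]
  obtain ⟨y, hy0, hy, hyg⟩ := exists_inv_iso hF hg
  have hgy : hermForm 3 F 3 (act g y) (act g y) = 0 := iso_act g hy
  have h1 : IsPGroup 3 (Subgroup.zpowers (tau hF y)) := isPGroup_zpowers (k := 1) (by rw [pow_one]; exact tau_pow hF hy)
  obtain ⟨x, hx⟩ := h1.exists_le_sylow
  have hxy : tau hF y ∈ (x : Subgroup (PSU 3 F 3)) := hx (Subgroup.mem_zpowers _)
  refine ⟨x, ?_⟩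
  have hne : tau hF y ≠ 1 := fun h => hy0 ((tau_eq_one_iff hF le_rfl hy).1 h)
  have h2 : pr 3 F 3 g * tau hF y * (pr 3 F 3 g)⁻¹ = tau hF (act g y) := conj_tau hF g hy
  refine (O.eq_of_comm (x := x) (y := pr 3 F 3 g • x) (u := tau hF y) (v := tau hF (act g y)) ?_ ?_ hne ?_ ?_).symm
  · rw [hOU]; exact hxy
  · rw [hOU, mem_smul_sylow, ← h2]
    have : (pr 3 F 3 g)⁻¹ * (pr 3 F 3 g * tau hF y * (pr 3 F 3 g)⁻¹) * pr 3 F 3 g = tau hF y := by group
    rw [this]
    exact hxy
  · rw [← h2]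
    intro h
    apply hne
    have : tau hF y = (pr 3 F 3 g)⁻¹ * (pr 3 F 3 g * tau hF y * (pr 3 F 3 g)⁻¹) * pr 3 F 3 g := by group
    rw [this, h]
    group
  · have hgy0 : act g y ≠ 0 := by
      intro h
      apply hy0
      have := congrArg (act g) h
      rw [← act_mul, hg, act_one, act_zero] at this
      exact this
    exact (tau_comm_iff hF le_rfl hy hgy hgy0).2 (herm_eq_zero_swap hF hyg)

/-- involutions do not commute with elements of order seven -/
theorem no_seven (hF : Fintype.card F = 3 ^ 2) [hfin : Finite (PSU 3 F 3)] [hs : IsSimpleGroup (PSU 3 F 3)]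
    {c y : PSU 3 F 3} (hc : c * c = 1) (hc1 : c ≠ 1) (hy : orderOf y = 7) (hcy : c * y = y * c) : False := by
  classical
  have hr : Fact (Nat.Prime 3) := ⟨Nat.prime_three⟩
  have h7 : Fact (Nat.Prime 7) := ⟨by norm_num⟩
  obtain ⟨O, hOU, hfaith, h27, h28⟩ := exists_struct (F := F) hF
  obtain ⟨x, hx⟩ := inv_fix hF hc
  have hyfix : ∀ z : Sylow 3 (PSU 3 F 3), y • z ≠ z := by
    intro z hz
    have h1 := orderOf_dvd_natCard (⟨y, hz⟩ : MulAction.stabilizer (PSU 3 F 3) z)
    rw [← Subgroup.orderOf_coe] at h1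
    simp only [hy, card_stab hF z] at h1
    omega
  have hz : c • y • x = y • x := by rw [← mul_smul, hcy, mul_smul, hx]
  have h1 := O.card_fix (hyfix x).symm hx hz
  set X := {z : Sylow 3 (PSU 3 F 3) // c • z = z} with hX
  let f : Function.End X := fun z => ⟨y • z.1, by rw [← mul_smul, hcy, mul_smul, z.2]⟩
  have hf : ∀ (k : ℕ) (z : X), ((f ^ k) z).1 = y ^ k • z.1 := by
    intro k
    induction k with
    | zero =>
      intro z
      rw [pow_zero, pow_zero, one_smul]
      rfl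
    | succ k ih =>
      intro z
      rw [pow_succ]
      show ((f ^ k) (f z)).1 = _
      rw [ih, pow_succ, mul_smul]
  have hf7 : f ^ 7 ^ 1 = 1 := by
    funext z
    apply Subtype.ext
    rw [hf, pow_one, ← hy, pow_orderOf_eq_one, one_smul]
    rfl
  have h2 := Equiv.Perm.card_fixedPoints_modEq hf7
  have h3 : Fintype.card (Function.fixedPoints f) = 0 := by
    rw [Fintype.card_eq_zero_iff]
    constructor
    rintro ⟨z, hz⟩
    exact hyfix z.1 (congrArg Subtype.val hz)
  rw [h3, ← Nat.card_eq_fintype_card, h1] at h2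
  have h4 : Nat.card (O.U x ⊓ Subgroup.centralizer {c} : Subgroup (PSU 3 F 3)) ∣ 3 ^ 3 := by
    have h5 : Nat.card (O.U x) = 3 ^ 3 := by rw [hOU x, h27 x]; norm_num
    rw [← h5]
    exact Subgroup.card_dvd_of_le inf_le_left
  obtain ⟨j, hj, hj'⟩ := (Nat.dvd_prime_pow Nat.prime_three).1 h4
  rw [hj'] at h2 h1
  have h5 : j = 3 := by
    interval_cases j
    · exact absurd h2 (by decide)
    · exact absurd h2 (by decide)
    · exact absurd h2 (by decide)
    · rfl
  rw [h5] at h1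
  apply hc1
  have h6 : ∀ z : Sylow 3 (PSU 3 F 3), c • z = z := by
    intro z
    by_contra hne
    have h7 : Nat.card X < Nat.card (Sylow 3 (PSU 3 F 3)) := by
      rw [Nat.card_eq_fintype_card, Nat.card_eq_fintype_card]
      exact Fintype.card_subtype_lt (x := z) hne
    rw [h1, h28] at h7
    omega
  apply eq_of_smul_eq_smul (α := Sylow 3 (PSU 3 F 3))
  intro z
  rw [one_smul, h6]

/-- the fixed points of a bad automorphism do not contain elements of order seven -/
theorem not_seven (hF : Fintype.card F = 3 ^ 2) [hfin : Finite (PSU 3 F 3)] [hs : IsSimpleGroup (PSU 3 F 3)]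
    {a : MulAut (PSU 3 F 3)} (ha : Bad 2 a) (h3 : ∀ s : PSU 3 F 3, orderOf s = 3 → a s ≠ s) :
    ¬ 7 ∣ Nat.card (fixS a) := by
  classical
  intro h7c
  have h7 : Fact (Nat.Prime 7) := ⟨by norm_num⟩
  have h3p : Fact (Nat.Prime 3) := ⟨by norm_num⟩
  obtain ⟨⟨y, hya⟩, hy7⟩ := exists_prime_orderOf_dvd_card' 7 h7c
  have hy : orderOf y = 7 := by
    rw [← hy7]
    exact (Subgroup.orderOf_coe (⟨y, hya⟩ : fixS a))
  have hay : a y = y := hya
  -- the Sylow subgroup
  have hcard : Nat.card (Subgroup.zpowers y) = 7 ^ (Nat.card (PSU 3 F 3)).factorization 7 := by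
    rw [Nat.card_zpowers, hy, card_K hF]
    have : (6048 : ℕ).factorization 7 = 1 := by
      rw [show (6048 : ℕ) = 7 * 864 by norm_num, Nat.factorization_mul (by norm_num) (by norm_num), Finsupp.add_apply,
        (by norm_num : Nat.Prime 7).factorization_self, Nat.factorization_eq_zero_of_not_dvd (by norm_num)]
    rw [this, pow_one]
  set P : Sylow 7 (PSU 3 F 3) := Sylow.ofCard (Subgroup.zpowers y) hcard with hP
  have hPy : (P : Subgroup (PSU 3 F 3)) = Subgroup.zpowers y := rfl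
  set N := Subgroup.normalizer (P : Set (PSU 3 F 3)) with hN
  have hidx := P.card_eq_index_normalizer
  have hmod := card_sylow_modEq_one 7 (PSU 3 F 3)
  rw [hidx, ← hN] at hmod
  have hmul := N.card_mul_index
  rw [card_K hF] at hmul
  have hyN : 7 ∣ Nat.card N := by
    have h1 : Subgroup.zpowers y ≤ N := by
      rw [← hPy]
      exact Subgroup.le_normalizer
    have h2 := Subgroup.card_dvd_of_le h1
    rwa [Nat.card_zpowers, hy] at h2
  -- `3` divides the order of the normaliser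
  have h3N : 3 ∣ Nat.card N := by
    by_contra h3N
    obtain ⟨m, hm⟩ := hyN
    rw [hm] at hmul h3N
    have e1 : m * N.index = 864 := by
      have : 7 * (m * N.index) = 7 * 864 := by rw [← mul_assoc, hmul]
      exact Nat.eq_of_mul_eq_mul_left (by norm_num) this
    have e2 : Nat.Coprime 27 m := by
      have : Nat.Coprime 3 m := (Nat.Prime.coprime_iff_not_dvd Nat.prime_three).2 fun h => h3N (h.mul_left 7)
      exact Nat.Coprime.pow_left 3 this
    have e3 : 27 ∣ N.index := e2.dvd_of_dvd_mul_left (by rw [e1]; norm_num)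
    obtain ⟨k, hk⟩ := e3
    rw [hk] at e1 hmod
    have e4 : m * k = 32 := by
      have : 27 * (m * k) = 27 * 32 := by rw [← mul_assoc, mul_comm 27 m, mul_assoc, e1]
      exact Nat.eq_of_mul_eq_mul_left (by norm_num) this
    have e5 : k ∣ 2 ^ 5 := Dvd.intro_left m e4
    obtain ⟨j, hj, rfl⟩ := (Nat.dvd_prime_pow Nat.prime_two).1 e5
    interval_cases j <;> exact absurd hmod (by decide)
  obtain ⟨⟨s, hsN⟩, hs3⟩ := exists_prime_orderOf_dvd_card' 3 h3N
  have hs : orderOf s = 3 := (Subgroup.orderOf_coe (⟨s, hsN⟩ : N)).trans hs3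
  apply h3 s hs
  -- `a s` and `s` act in the same way on `y`
  have h1 : s * y * s⁻¹ ∈ Subgroup.zpowers y := by
    have h2 : y ∈ (P : Subgroup (PSU 3 F 3)) := by rw [hPy]; exact Subgroup.mem_zpowers y
    have h3 := (Subgroup.mem_normalizer_iff.1 hsN y).1 h2
    exact h3
  obtain ⟨j, hj⟩ := Subgroup.mem_zpowers_iff.1 h1
  have h2 : a s * y * (a s)⁻¹ = s * y * s⁻¹ := by
    have h4 : a (s * y * s⁻¹) = s * y * s⁻¹ := by rw [← hj, map_zpow, hay]
    rw [map_mul, map_mul, map_inv, hay] at h4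
    exact h4
  set d := (a s)⁻¹ * s with hd
  have hdy : d * y = y * d := by
    have h4 : s * y = a s * y * (a s)⁻¹ * s := by rw [h2]; group
    rw [hd, mul_assoc, h4]
    group
  rcases ha s with h4 | h4
  · exact inv_mul_eq_one.1 h4
  · exfalso
    rw [← hd] at h4
    obtain ⟨m, hm⟩ := h4
    have hd0 := orderOf_pos d
    have hm0 : 0 < m := by
      rcases Nat.eq_zero_or_pos m with h | h
      · rw [hm, h] at hd0
        omega
      · exact h
    refine no_seven hF (c := d ^ m) (y := y) ?_ ?_ hy ?_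
    · rw [← pow_add, ← two_mul, ← hm, pow_orderOf_eq_one]
    · intro h5
      have h6 := Nat.le_of_dvd hm0 (orderOf_dvd_of_pow_eq_one h5)
      omega
    · exact ((show Commute d y from hdy).pow_left m)

/-- elements of the prime field and of the field with nine elements -/
theorem ringEquiv_nine (hF : Fintype.card F = 3 ^ 2) (ρ : F ≃+* F) (x : F) : ρ x = x ∨ ρ x = x ^ 3 := by
  have hch : CharP F 3 := charP_three hF
  have h3 : Fact (Nat.Prime 3) := ⟨Nat.prime_three⟩
  have hF3 : ∀ x : F, x ^ 3 = x → ρ x = x := by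
    intro x hx
    have h2 : x ∈ (⊥ : Subfield F) := (Subfield.mem_bot_iff_pow_eq_self (F := F) (p := 3)).2 hx
    have h3 : (⊥ : Subfield F) ≤ (ρ : F →+* F).eqLocusField (RingHom.id F) := bot_le
    exact h3 h2
  have hx : (x ^ 3) ^ 3 = x := pow_q_pow_q hF x
  have ht : ρ (x + x ^ 3) = x + x ^ 3 := by
    apply hF3
    have : (x + x ^ 3) ^ 3 = x ^ 3 + (x ^ 3) ^ 3 := add_pow_char x (x ^ 3) 3
    rw [this, hx, add_comm]
  have hd : ρ (x * x ^ 3) = x * x ^ 3 := by
    apply hF3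
    rw [mul_pow, hx, mul_comm]
  rw [map_add, map_pow] at ht
  rw [map_mul, map_pow] at hd
  have h4 : (ρ x - x) * (ρ x - x ^ 3) = 0 := by
    linear_combination (-hd + (ρ x) * ht)
  rcases mul_eq_zero.1 h4 with h5 | h5
  · exact Or.inl (sub_eq_zero.1 h5)
  · exact Or.inr (sub_eq_zero.1 h5)

/-- a fixed point free automorphism does not centralise an element of order eight of the torus -/
theorem not_torus (hF : Fintype.card F = 3 ^ 2) {A : GU 3 F 3} {ρ : F ≃+* F} {e : Fin 3 → F}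
    (hno : hermForm 3 F 3 e (TG.phi A ρ e) ≠ 0) {g : SU 3 F 3} {l : F} (hl : l ^ 4 ≠ 1) (hl8 : l ^ 8 = 1)
    (hg : act g e = l • e) (h : toAut A ρ (pr 3 F 3 g) = pr 3 F 3 g) : False := by
  have h1 : semiConj A ρ g = g := by
    apply pr_inj hF
    rw [← toAut_pr, h]
  have h2 : act g (TG.phi A ρ e) = ρ l • TG.phi A ρ e := by
    have h3 := act_semiConj A ρ g e
    rw [h1] at h3
    have h4 : (fun i => ρ (act g e i)) = ρ l • fun i => ρ (e i) := by
      funext i
      rw [hg]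
      simp
    rw [h4, Matrix.mulVec_smul] at h3
    exact h3
  have h3 : hermForm 3 F 3 e (TG.phi A ρ e) = l * ρ l ^ 3 * hermForm 3 F 3 e (TG.phi A ρ e) := by
    conv_lhs => rw [← herm_act g, hg, h2]
    rw [herm_smul_left, herm_smul_right]
    ring
  have h4 : l * ρ l ^ 3 = 1 := by
    apply mul_right_cancel₀ hno
    rw [one_mul]
    exact h3.symm
  rcases ringEquiv_nine hF ρ l with h5 | h5
  · rw [h5] at h4
    exact hl (by rw [← h4]; ring)
  · rw [h5] at h4
    have h6 : l ^ 2 = 1 := by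
      have : l * (l ^ 3) ^ 3 = l ^ 8 * l ^ 2 := by ring
      rw [this, hl8, one_mul] at h4
      exact h4
    exact hl (by rw [show (4 : ℕ) = 2 * 2 by norm_num, pow_mul, h6, one_pow])

/-- an element of order a power of two with an isotropic eigenvector, the eigenvalue has order eight -/
theorem exists_torus (hF : Fintype.card F = 3 ^ 2) [hfin : Finite (PSU 3 F 3)] :
    ∃ (g : SU 3 F 3) (e : Fin 3 → F) (l : F), e ≠ 0 ∧ hermForm 3 F 3 e e = 0 ∧ act g e = l • e ∧ l ^ 4 ≠ 1 ∧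
      l ^ 8 = 1 ∧ ∃ k : ℕ, pr 3 F 3 g ^ 2 ^ k = 1 := by
  classical
  obtain ⟨e, f, he, hf, hef⟩ := exists_iso hF
  have he0 : e ≠ 0 := by
    rintro rfl
    rw [herm_zero_left] at hef
    exact zero_ne_one hef
  obtain ⟨l₀, hl₀⟩ := IsCyclic.exists_generator (α := Fˣ)
  have hord : orderOf l₀ = 8 := by
    rw [orderOf_eq_card_of_forall_mem_zpowers hl₀, Nat.card_units, Nat.card_eq_fintype_card, hF]
    norm_num
  have hl0 : (l₀ : F) ≠ 0 := l₀.ne_zero
  have hpow : ∀ n : ℕ, (l₀ : F) ^ n = 1 ↔ 8 ∣ n := by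
    intro n
    rw [← hord, orderOf_dvd_iff_pow_eq_one, Units.ext_iff, Units.val_pow_eq_pow_val, Units.val_one]
  set b : F := ((l₀ : F)⁻¹) ^ 3 with hb
  obtain ⟨g, -, hg, -⟩ := LieClassical.HermGen.exists_map_hyp (F := F) (q := 3) (n := 3) hF (k := 3) le_rfl le_rfl
    (LieClassical.HermGen.mem_coordSub_top e) (LieClassical.HermGen.mem_coordSub_top f)
    (LieClassical.HermGen.mem_coordSub_top ((l₀ : F) • e)) (LieClassical.HermGen.mem_coordSub_top (b • f))
    he hf hef (iso_smul _ he) (iso_smul _ hf) (by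
      rw [herm_smul_left, herm_smul_right, hef, hb, pow_q_pow_q hF, mul_one, mul_inv_cancel₀ hl0])
  -- the `2`-part
  have hN : Nat.card (PSU 3 F 3) ≠ 0 := Nat.card_pos.ne'
  set n := orderOf (pr 3 F 3 g) with hn
  have hn0 : n ≠ 0 := (orderOf_pos _).ne'
  obtain ⟨k, m, hm, hkm⟩ : ∃ k m : ℕ, ¬ 2 ∣ m ∧ n = 2 ^ k * m :=
    ⟨n.factorization 2, n / 2 ^ n.factorization 2, Nat.not_dvd_ordCompl Nat.prime_two hn0,
      (Nat.ordProj_mul_ordCompl_eq_self n 2).symm⟩
  have hgm : ∀ j : ℕ, act (g ^ j) e = ((l₀ : F) ^ j) • e := by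
    intro j
    induction j with
    | zero => rw [pow_zero, pow_zero, act_one, one_smul]
    | succ j ih => rw [pow_succ', act_mul, ih, act_smul, hg, smul_smul, ← pow_succ]
  refine ⟨g ^ m, e, (l₀ : F) ^ m, he0, he, hgm m, ?_, ?_, k, ?_⟩
  · rw [← pow_mul, Ne, hpow]
    omega
  · rw [← pow_mul, hpow]
    exact Dvd.intro_left m rfl
  · rw [map_pow, ← pow_mul, mul_comm, ← hkm, hn, pow_orderOf_eq_one]

/-- **`PSU₃(3)` at the prime two.** -/
theorem com_three (hF : Fintype.card F = 3 ^ 2) [hfin : Finite (PSU 3 F 3)] [hs : IsSimpleGroup (PSU 3 F 3)] :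
    Com 2 (PSU 3 F 3) := by
  classical
  have h3p : Fact (Nat.Prime 3) := ⟨Nat.prime_three⟩
  have h2p : Fact (Nat.Prime 2) := ⟨Nat.prime_two⟩
  have hch : CharP F 3 := charP_three hF
  rw [com_iff]
  intro α hα
  by_contra hne
  obtain ⟨σ, hσ, π, E⟩ := PSU.exists_mod F hF (by norm_num)
  obtain ⟨P₀, hP₀⟩ := E.exists_syl (r := 3) (by norm_num)
  have hreg : ∃ t ∈ (Cfsg.Agent.UThreeGen.MatGroup.borel σ).map π,
      (π (Cfsg.Agent.UThreeGen.MatGroup.wel σ))⁻¹ * t * π (Cfsg.Agent.UThreeGen.MatGroup.wel σ) ∈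
        (Cfsg.Agent.UThreeGen.MatGroup.borel σ).map π ∧
      ∀ u ∈ (Cfsg.Agent.UThreeGen.MatGroup.emb σ).range.map π, t * u * t⁻¹ = u → u = 1 := by
    obtain ⟨l₀, hl₀, hord, -⟩ := E.exists_generator (by norm_num)
    refine ⟨π (tor σ l₀), (PSU.two_mem l₀).1, (PSU.two_mem l₀).2, fun u hu hfix => E.regular ?_ hu hfix⟩
    intro h1
    have h2 : l₀ ^ (3 + 1) = 1 := by
      apply Units.ext
      rw [Units.val_pow_eq_pow_val, Units.val_one, pow_succ', ← E.pow, h1]
    have h3 := orderOf_dvd_of_pow_eq_one h2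
    rw [hord] at h3
    norm_num at h3
  have h3 : ∀ s : PSU 3 F 3, orderOf s = 3 → α s ≠ s := by
    intro s hs3 hs
    apply hne
    refine eq_one_of_fixed_elt E.data P₀ hP₀ (E.unip_ne (by norm_num)) Nat.prime_two (by norm_num) hα hreg
      (u := s) (k := 1) ?_ (by rw [pow_one]; exact orderOf_dvd_iff_pow_eq_one.1 hs3.dvd) hs
    rintro rfl
    rw [orderOf_one] at hs3
    norm_num at hs3
  have h7 := not_seven hF hα h3
  have h3c : ¬ 3 ∣ Nat.card (fixS α) := by
    intro h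
    obtain ⟨⟨s, hsα⟩, hs3⟩ := exists_prime_orderOf_dvd_card' 3 h
    exact h3 s ((Subgroup.orderOf_coe (⟨s, hsα⟩ : fixS α)).trans hs3) hsα
  have hdvd : Nat.card (fixS α) ∣ 2 ^ 5 := by
    have h1 := (fixS α).card_subgroup_dvd_card
    rw [card_K hF] at h1
    have e1 : (6048 : ℕ) = 2 ^ 5 * (7 * 27) := by norm_num
    rw [e1] at h1
    refine Nat.Coprime.dvd_of_dvd_mul_right ?_ h1
    refine Nat.Coprime.mul_right ?_ ?_
    · exact ((Nat.Prime.coprime_iff_not_dvd (by norm_num)).2 h7).symm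
    · exact (Nat.Coprime.pow_left 3 ((Nat.Prime.coprime_iff_not_dvd Nat.prime_three).2 h3c)).symm
  have h27 : 27 ≤ Nat.card (fixS α) := by
    have h1 := hα.card_le (by norm_num) (P₀ : Subgroup (PSU 3 F 3)) (by
      rw [hP₀, E.card_unip]
      decide)
    rwa [hP₀, E.card_unip] at h1
  have h32 : Nat.card (fixS α) = 32 := by
    obtain ⟨j, hj, hj'⟩ := (Nat.dvd_prime_pow Nat.prime_two).1 hdvd
    rw [hj'] at h27 ⊢
    interval_cases j <;> omega
  -- the fixed points are a Sylow `2`-subgroup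
  have hcard : Nat.card (fixS α) = 2 ^ (Nat.card (PSU 3 F 3)).factorization 2 := by
    rw [h32, card_K hF]
    have : (6048 : ℕ).factorization 2 = 5 := by
      rw [show (6048 : ℕ) = 2 ^ 5 * 189 by norm_num, Nat.factorization_mul (by norm_num) (by norm_num),
        Finsupp.add_apply, Nat.factorization_pow, Finsupp.smul_apply, Nat.prime_two.factorization_self,
        Nat.factorization_eq_zero_of_not_dvd (by norm_num)]
      rfl
    rw [this]
    norm_num
  set T : Sylow 2 (PSU 3 F 3) := Sylow.ofCard (fixS α) hcard with hT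
  have hTα : (T : Subgroup (PSU 3 F 3)) = fixS α := rfl
  obtain ⟨g, e, l, he0, he, hge, hl4, hl8, k, hk⟩ := exists_torus (F := F) hF
  have h1 : IsPGroup 2 (Subgroup.zpowers (pr 3 F 3 g)) := isPGroup_zpowers hk
  obtain ⟨Q, hQ⟩ := h1.exists_le_sylow
  obtain ⟨x, hx⟩ := MulAction.exists_smul_eq (PSU 3 F 3) Q T
  obtain ⟨y, rfl⟩ := pr_surjective x
  have h2 : pr 3 F 3 (y * g * y⁻¹) ∈ fixS α := by
    rw [← hTα, ← hx, mem_smul_sylow, map_mul, map_mul, map_inv]
    have : (pr 3 F 3 y)⁻¹ * (pr 3 F 3 y * pr 3 F 3 g * (pr 3 F 3 y)⁻¹) * pr 3 F 3 y = pr 3 F 3 g := by group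
    rw [this]
    exact hQ (Subgroup.mem_zpowers _)
  obtain ⟨A, ρ, rfl⟩ := ClassicalGeometry.PSUAutMain.exists_toAut hF le_rfl (by norm_num) α
  have hye0 : act y e ≠ 0 := by
    intro h
    apply he0
    have := congrArg (act y⁻¹) h
    rw [act_inv_act, act_zero] at this
    exact this
  have hno : hermForm 3 F 3 (act y e) (TG.phi A ρ (act y e)) ≠ 0 := by
    intro h
    exact hne (eq_one_of_herm_eq_zero (r := 3) hF (by norm_num) Nat.prime_two (by norm_num) hα hye0 (iso_act y he) h)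
  refine not_torus hF hno hl4 hl8 (g := y * g * y⁻¹) ?_ h2
  rw [act_mul, act_mul, act_inv_act, hge, act_smul]

end Cfsg.Agent.H705.USpec

namespace Cfsg.Agent.H705

open Cfsg

/-- **Groups of Lie type**: for every nontrivial automorphism `a` and every prime `p` some `(a s)⁻¹ * s` is nontrivial of
order prime to `p`. -/
theorem lie {S : Type*} [Group S] [Finite S] [hs : IsSimpleGroup S] {r : ℕ} [hr : Fact r.Prime]
    (h : IsLieTypeChar r S) (hsol : ¬ Group.IsSolvable S) {p : ℕ} (hp : p.Prime) : Com p S := by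
  by_cases h1 : SpecThree p S
  · obtain ⟨rfl, F, i1, i2, hF, ⟨e⟩⟩ := h1
    have hsim : IsSimpleGroup (PSU 3 F 3) := e.symm.isSimpleGroup
    have hfin : Finite (PSU 3 F 3) := Finite.of_equiv S e.toEquiv
    exact (USpec.com_three hF).of_equiv e
  · exact lie_but h hsol hp h1

end Cfsg.Agent.H705
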