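import Cfsg.Agent.H705.ComUThree
import Cfsg.Agent.S0280

/-!
# `PSU₃(3)`: involutions and elements of order seven (helper705)
-/

set_option autoImplicit false
set_option linter.unusedSectionVars false

namespace Cfsg.Agent.H705

open Cfsg Matrix

section

variable {r : ℕ} {K : Type*} [Group K] {Ω : Type*} [MulAction K Ω] (O : One r K Ω)

/-- commuting elements have the same fixed point -/
theorem One.eq_of_comm {x y : Ω} {u v : K} (hu : u ∈ O.U x) (hv : v ∈ O.U y) (hu1 : u ≠ 1) (hv1 : v ≠ 1)
    (h : u * v = v * u) : x = y := by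
  by_contra hne
  have h1 : u • v • x = v • x := by rw [← mul_smul, h, mul_smul, O.fix x u hu]
  have h2 : v • x = x := by
    by_contra h3
    exact hu1 (O.free x (v • x) (Ne.symm h3) u hu h1)
  exact hv1 (O.free y x (Ne.symm hne) v hv h2)

/-- the fixed points of an element fixing `x` -/
theorem One.card_fix [Finite K] [Finite Ω] {x z : Ω} (hxz : x ≠ z) {c : K} (hx : c • x = x) (hz : c • z = z) :
    Nat.card {y : Ω // c • y = y} = Nat.card (O.U x ⊓ Subgroup.centralizer {c} : Subgroup K) + 1 := by
  classical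
  have hUc : ∀ u ∈ O.U x, c * u * c⁻¹ ∈ O.U x := by
    have h1 : (O.U x).map (MulAut.conj c).toMonoidHom ≤ O.U x := by
      refine O.max x _ ((O.isP x).map _) ?_
      rintro _ ⟨u, hu, rfl⟩
      show (c * u * c⁻¹) • x = x
      rw [mul_smul, mul_smul, inv_smul_eq_iff.2 hx.symm, O.fix x u hu, hx]
    exact fun u hu => h1 ⟨u, hu, rfl⟩
  have h1 : Nat.card (O.U x ⊓ Subgroup.centralizer {c} : Subgroup K) = Nat.card {y : Ω // c • y = y ∧ y ≠ x} := by
    refine Nat.card_congr (Equiv.ofBijective (fun u : (O.U x ⊓ Subgroup.centralizer {c} : Subgroup K) =>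
      (⟨(u : K) • z, ?_, ?_⟩ : {y : Ω // c • y = y ∧ y ≠ x})) ⟨?_, ?_⟩)
    · have h2 := Subgroup.mem_centralizer_singleton_iff.1 u.2.2
      rw [← mul_smul, ← h2, mul_smul, hz]
    · intro h
      apply hxz
      have := O.fix x u u.2.1
      exact (MulAction.injective (u : K) (h.trans this.symm)).symm
    · intro u v huv
      have h2 : (u : K) • z = (v : K) • z := congrArg Subtype.val huv
      have h3 : ((v : K)⁻¹ * u) • z = z := by rw [mul_smul, h2, inv_smul_smul]
      have h4 := O.free x z hxz _ (mul_mem (inv_mem v.2.1) u.2.1) h3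
      exact Subtype.ext (inv_mul_eq_one.1 h4).symm
    · rintro ⟨y, hy, hyx⟩
      obtain ⟨u, hu, huy⟩ := O.trans x z y hxz hyx.symm
      refine ⟨⟨u, hu, ?_⟩, Subtype.ext huy⟩
      show u ∈ Subgroup.centralizer {c}
      rw [Subgroup.mem_centralizer_singleton_iff]
      have h2 : (u⁻¹ * (c * u * c⁻¹)) • z = z := by
        rw [mul_smul, mul_smul, inv_smul_eq_iff.2 hz.symm, mul_smul, huy, hy, ← huy, inv_smul_smul]
      have h3 := O.free x z hxz _ (mul_mem (inv_mem hu) (hUc u hu)) h2
      have h4 := inv_mul_eq_one.1 h3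
      conv_lhs => rw [h4]
      group
  have := Fintype.ofFinite Ω
  rw [h1, Nat.card_eq_fintype_card, Nat.card_eq_fintype_card, Fintype.card_subtype, Fintype.card_subtype]
  have h2 : (Finset.univ.filter fun y : Ω => c • y = y) =
      insert x (Finset.univ.filter fun y : Ω => c • y = y ∧ y ≠ x) := by
    ext y
    simp only [Finset.mem_filter, Finset.mem_univ, true_and, Finset.mem_insert]
    constructor
    · intro h
      by_cases hyx : y = x
      · exact Or.inl hyx
      · exact Or.inr ⟨h, hyx⟩
    · rintro (h | h)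
      · rw [h]; exact hx
      · exact h.1
  rw [h2, Finset.card_insert_of_notMem]
  simp

end

namespace USpec

open Cfsg.Agent.LieClassical.HermBasic Cfsg.Agent.LieClassical.HermSiegel
open Cfsg.Agent.ClassicalGeometry.UnitAutBasic Cfsg.Agent.ClassicalGeometry.PSUAutCount

variable {F : Type*} [Field F] [Fintype F]

/-- the centre of `SU₃(3)` is trivial -/
theorem pr_inj (hF : Fintype.card F = 3 ^ 2) : Function.Injective (pr 3 F 3) := by
  rw [injective_iff_map_eq_one]
  intro g hg
  have h1 : g ∈ Subgroup.center (SU 3 F 3) := by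
    have h2 : pr 3 F 3 1 = pr 3 F 3 g := by rw [hg, map_one]
    have h3 := pr_eq_pr_iff.1 h2
    rwa [inv_one, one_mul] at h3
  obtain ⟨c, h2, h3, rfl⟩ := (LieClassical.SUBasic.mem_center_SU_iff hF le_rfl g).1 h1
  have h4 : c = 1 := by
    have h5 : c ^ 4 = c ^ 3 * c := by ring
    rw [h3, h2, one_mul] at h5
    exact h5.symm
  apply ext_act
  intro x
  rw [act_def, mat_def, LieClassical.SUBasic.coe_suScalar, h4, act_one]
  ext i
  rw [Matrix.mulVec_diagonal]
  simp

theorem exists_iso (hF : Fintype.card F = 3 ^ 2) : ∃ e f : Fin 3 → F, hermForm 3 F 3 e e = 0 ∧ hermForm 3 F 3 f f = 0 ∧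
    hermForm 3 F 3 e f = 1 := by
  obtain ⟨e, f, h⟩ := ClassicalGeometry.PSUAutBasic.exists_frame (F := F) (q := 3) (n := 3) hF (by norm_num)
  exact ⟨e, f, h.ee, h.ff, h.ef⟩

/-- a vector orthogonal to an involutive pair -/
theorem exists_neg (hF : Fintype.card F = 3 ^ 2) {g : SU 3 F 3} (hg : g * g = 1) {v : Fin 3 → F}
    (hv : hermForm 3 F 3 v v = 0) (ht : hermForm 3 F 3 v (act g v) ≠ 0) :
    ∃ u : Fin 3 → F, u ≠ 0 ∧ act g u = -u ∧ hermForm 3 F 3 u v = 0 ∧ hermForm 3 F 3 u (act g v) = 0 := by
  have hgg : ∀ x, act g (act g x) = x := fun x => by rw [← act_mul, hg, act_one]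
  obtain ⟨u₀, hu0, h1, h2⟩ := exists_ne_zero_orth (q := 3) (F := F) (n := 3) le_rfl v (act g v)
  have h3 : hermForm 3 F 3 (act g u₀) v = 0 := by
    rw [← hgg v, herm_act, h2]
  have h4 : hermForm 3 F 3 (act g u₀) (act g v) = 0 := by rw [herm_act, h1]
  by_cases h5 : u₀ - act g u₀ = 0
  · exfalso
    have h6 : act g u₀ = u₀ := (sub_eq_zero.1 h5).symm
    -- the determinant of `g` would be `-1`
    set P : Matrix (Fin 3) (Fin 3) F := Matrix.of fun i j => (![v, act g v, u₀] j) i with hP
    set M : Matrix (Fin 3) (Fin 3) F := !![0, 1, 0; 1, 0, 0; 0, 0, 1] with hM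
    have hPx : ∀ x : Fin 3 → F, P *ᵥ x = x 0 • v + x 1 • act g v + x 2 • u₀ := by
      intro x
      funext i
      simp only [hP, Matrix.mulVec, dotProduct, Fin.sum_univ_three, Matrix.of_apply, Pi.add_apply, Pi.smul_apply,
        smul_eq_mul]
      simp
      ring
    have hswap : hermForm 3 F 3 (act g v) v = hermForm 3 F 3 v (act g v) := by
      conv_lhs => rw [← hgg v]
      rw [herm_act, hgg]
    have hdet : P.det ≠ 0 := by
      intro hdet
      obtain ⟨x, hx0, hx⟩ := Matrix.exists_mulVec_eq_zero_iff.2 hdet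
      rw [hPx] at hx
      have e1 := congrArg (fun y => hermForm 3 F 3 y v) hx
      have e2 := congrArg (fun y => hermForm 3 F 3 y (act g v)) hx
      simp only [herm_add_left, herm_smul_left, herm_zero_left, hv, h1, h2, herm_act, mul_zero, zero_add, add_zero,
        hswap] at e1 e2
      have e3 : x 1 = 0 := (mul_eq_zero.1 e1).resolve_right ht
      have e4 : x 0 = 0 := (mul_eq_zero.1 e2).resolve_right ht
      rw [e3, e4, zero_smul, zero_smul, zero_add, zero_add] at hx
      have e5 : x 2 = 0 := (smul_eq_zero.1 hx).resolve_right hu0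
      apply hx0
      funext i
      fin_cases i
      · exact e4
      · exact e3
      · exact e5
    have hmul : mat g * P = P * M := by
      apply Matrix.ext_of_mulVec_single
      intro i
      generalize (Pi.single i (1 : F) : Fin 3 → F) = x
      rw [← Matrix.mulVec_mulVec, ← Matrix.mulVec_mulVec, hPx, hPx]
      have e1 : mat g *ᵥ (x 0 • v + x 1 • act g v + x 2 • u₀) = act g (x 0 • v + x 1 • act g v + x 2 • u₀) := rfl
      rw [e1, act_add, act_add, act_smul, act_smul, act_smul, hgg, h6]
      have e2 : (M *ᵥ x) 0 = x 1 := by simp [hM, Matrix.mulVec, dotProduct, Fin.sum_univ_three]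
      have e3 : (M *ᵥ x) 1 = x 0 := by simp [hM, Matrix.mulVec, dotProduct, Fin.sum_univ_three]
      have e4 : (M *ᵥ x) 2 = x 2 := by simp [hM, Matrix.mulVec, dotProduct, Fin.sum_univ_three]
      rw [e2, e3, e4, add_comm (x 1 • v)]
    have h7 := congrArg Matrix.det hmul
    have h8 : (mat g).det = 1 := (g : Matrix.SpecialLinearGroup (Fin 3) F).det_coe
    have h9 : M.det = -1 := by rw [hM, Matrix.det_fin_three]; simp
    rw [Matrix.det_mul, Matrix.det_mul, h8, h9, one_mul] at h7
    have h10 : (2 : F) * P.det = 0 := by linear_combination h7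
    rcases mul_eq_zero.1 h10 with h11 | h11
    · have := three_eq_zero hF
      have : (1 : F) = 0 := by linear_combination this - h11
      exact one_ne_zero this
    · exact hdet h11
  · refine ⟨u₀ - act g u₀, h5, ?_, ?_, ?_⟩
    · rw [act_sub, hgg, neg_sub]
    · rw [herm_sub_left, h1, h3, sub_zero]
    · rw [herm_sub_left, h2, h4, sub_zero]

/-- an involution inverts an isotropic vector, or moves one to an orthogonal one -/
theorem exists_inv_iso (hF : Fintype.card F = 3 ^ 2) {g : SU 3 F 3} (hg : g * g = 1) :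
    ∃ y : Fin 3 → F, y ≠ 0 ∧ hermForm 3 F 3 y y = 0 ∧ hermForm 3 F 3 y (act g y) = 0 := by
  have hgg : ∀ x, act g (act g x) = x := fun x => by rw [← act_mul, hg, act_one]
  have h3 := three_eq_zero hF
  obtain ⟨v, f, hv, -, hvf⟩ := exists_iso hF
  have hv0 : v ≠ 0 := by
    rintro rfl
    rw [herm_zero_left] at hvf
    exact zero_ne_one hvf
  by_cases ht : hermForm 3 F 3 v (act g v) = 0
  · exact ⟨v, hv0, hv, ht⟩
  obtain ⟨u, hu0, hgu, huv, hugv⟩ := exists_neg hF hg hv ht
  by_cases hs : hermForm 3 F 3 u u = 0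
  · refine ⟨u, hu0, hs, ?_⟩
    rw [hgu, herm_neg_right hF, hs, neg_zero]
  have hswap : hermForm 3 F 3 (act g v) v = hermForm 3 F 3 v (act g v) := by
    conv_lhs => rw [← hgg v]
    rw [herm_act, hgg]
  set t := hermForm 3 F 3 v (act g v) with htdef
  set s := hermForm 3 F 3 u u with hsdef
  have htq : t ^ 3 = t := by
    have := herm_swap hF v (act g v)
    rw [hswap] at this
    exact this.symm
  have hsq : s ^ 3 = s := herm_self_pow hF u
  obtain ⟨b, hb⟩ := exists_norm_eq hF (c := 2 * t / s) (by
    rw [div_pow, mul_pow, htq, hsq]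
    have : (2 : F) ^ 3 = 2 := by linear_combination 2 * h3
    rw [this])
  have hvu : hermForm 3 F 3 v u = 0 := herm_eq_zero_swap hF huv
  have hgvu : hermForm 3 F 3 (act g v) u = 0 := herm_eq_zero_swap hF hugv
  have hyv : hermForm 3 F 3 (v - act g v + b • u) v = -t := by
    rw [herm_add_left, herm_sub_left, herm_smul_left, hv, huv, hswap]
    ring
  refine ⟨v - act g v + b • u, ?_, ?_, ?_⟩
  · intro h
    rw [h, herm_zero_left] at hyv
    exact ht (neg_eq_zero.1 hyv.symm)
  · rw [herm_add_left, herm_sub_left, herm_smul_left, herm_add_right hF, herm_add_right hF, herm_add_right hF,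
      herm_sub_right hF, herm_sub_right hF, herm_sub_right hF, herm_smul_right, herm_smul_right, herm_smul_right,
      hv, hvu, hgvu, huv, hugv, herm_act, hv, hswap, ← htdef, ← hsdef]
    have e1 : b * b ^ 3 * s = 2 * t := by rw [hb]; field_simp
    linear_combination e1
  · have e1 : act g (v - act g v + b • u) = -(v - act g v + b • u) := by
      rw [act_add, act_sub, act_smul, hgg, hgu]
      funext i
      simp only [Pi.add_apply, Pi.sub_apply, Pi.smul_apply, smul_eq_mul, Pi.neg_apply]
      ring
    rw [e1, herm_neg_right hF]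
    have e2 : hermForm 3 F 3 (v - act g v + b • u) (v - act g v + b • u) = 0 := by
      rw [herm_add_left, herm_sub_left, herm_smul_left, herm_add_right hF, herm_add_right hF, herm_add_right hF,
        herm_sub_right hF, herm_sub_right hF, herm_sub_right hF, herm_smul_right, herm_smul_right, herm_smul_right,
        hv, hvu, hgvu, huv, hugv, herm_act, hv, hswap, ← htdef, ← hsdef]
      have e1 : b * b ^ 3 * s = 2 * t := by rw [hb]; field_simp
      linear_combination e1
    rw [e2, neg_zero]

end USpec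

end Cfsg.Agent.H705
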