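import Cfsg.Agent.H705.ComTGStd

/-!
# The order of a product of two unitary transvections (helper705)
-/

set_option autoImplicit false
set_option linter.unusedSectionVars false

namespace Cfsg.Agent.H705.UOrd

open Cfsg Cfsg.Agent.LieClassical.HermBasic Cfsg.Agent.LieClassical.HermSiegel
open Cfsg.Agent.ClassicalGeometry.UnitAutBasic Polynomial

/-- three distinct roots of unity -/
theorem dvd_of_roots {F : Type*} [Field F] {ζ : F} {k : ℕ} (hk : ζ ^ k = 1) (h0 : ζ ≠ 0) (h1 : ζ ≠ 1) (h2 : ζ * ζ ≠ 1) :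
    ((X - C 1) * ((X - C ζ) * (X - C ζ⁻¹)) : F[X]) ∣ X ^ k - 1 := by
  have hi : ζ⁻¹ ^ k = 1 := by rw [inv_pow, hk, inv_one]
  have hne : ζ⁻¹ ≠ 1 := by
    intro h
    exact h1 (inv_eq_one.1 h)
  have hne2 : ζ ≠ ζ⁻¹ := by
    intro h
    apply h2
    nth_rw 1 [h]
    exact inv_mul_cancel₀ h0
  have hroot : ∀ a : F, a ^ k = 1 → (X - C a) ∣ (X ^ k - 1 : F[X]) := by
    intro a ha
    rw [dvd_iff_isRoot, IsRoot.def, eval_sub, eval_pow, eval_X, eval_one, ha, sub_self]
  have hc : ∀ a b : F, a ≠ b → IsCoprime (X - C a : F[X]) (X - C b) := by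
    intro a b hab
    exact isCoprime_X_sub_C_of_isUnit_sub (sub_ne_zero.2 hab).isUnit
  refine IsCoprime.mul_dvd (IsCoprime.mul_right (hc _ _ h1.symm) (hc _ _ hne.symm)) (hroot 1 (one_pow k)) ?_
  exact IsCoprime.mul_dvd (hc _ _ hne2) (hroot _ hk) (hroot _ hi)

variable {F : Type*} [Field F] [Fintype F] {q : ℕ}

theorem act_T_inv (hF : Fintype.card F = q ^ 2) {w : Fin 3 → F} (hw : hermForm 3 F q w w = 0) (x : Fin 3 → F) :
    act (T hF w)⁻¹ x = x - (c0 hF * hermForm 3 F q x w) • w := by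
  symm
  rw [← act_eq_iff, act_T hF hw, herm_sub_left, herm_smul_left, hw, mul_zero, sub_zero, sub_add_cancel]

/-- **The order of a product of two transvections.** -/
theorem pow_eq_one (hF : Fintype.card F = q ^ 2) {v w : Fin 3 → F} (hv : hermForm 3 F q v v = 0)
    (hw : hermForm 3 F q w w = 0) {ζ : F} {k : ℕ} (hk : ζ ^ k = 1) (h0 : ζ ≠ 0) (h1 : ζ ≠ 1) (h2 : ζ * ζ ≠ 1)
    (hτ : 2 - c0 hF ^ 2 * (hermForm 3 F q v w * hermForm 3 F q v w ^ q) = ζ + ζ⁻¹) :
    ((T hF w)⁻¹ * T hF v) ^ k = 1 := by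
  set g := (T hF w)⁻¹ * T hF v with hg
  set a := c0 hF with ha
  set κ := hermForm 3 F q v w with hκ
  have hact : ∀ x, act g x = x + (a * hermForm 3 F q x v) • v -
      (a * (hermForm 3 F q x w + a * hermForm 3 F q x v * κ)) • w := by
    intro x
    rw [hg, act_mul, act_T_inv hF hw, act_T hF hv, herm_add_left, herm_smul_left]
  have hwv : hermForm 3 F q w v = κ ^ q := herm_swap hF v w
  have hgv : act g v = v - (a * κ) • w := by
    rw [hact, hv]
    simp
    rfl
  have hgw : act g w = w + (a * κ ^ q) • v - (a * (a * κ ^ q * κ)) • w := by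
    rw [hact, hw, hwv, zero_add]
  -- the quadratic relation on the span of `v` and `w`
  have hPv : act g (act g v) - (ζ + ζ⁻¹) • act g v + v = 0 := by
    rw [← hτ, hgv, act_sub, act_smul, hgv, hgw]
    funext i
    simp only [Pi.add_apply, Pi.sub_apply, Pi.smul_apply, smul_eq_mul, Pi.zero_apply]
    ring
  have hPw : act g (act g w) - (ζ + ζ⁻¹) • act g w + w = 0 := by
    rw [← hτ, hgw, act_sub, act_add, act_smul, act_smul, hgv, hgw]
    funext i
    simp only [Pi.add_apply, Pi.sub_apply, Pi.smul_apply, smul_eq_mul, Pi.zero_apply]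
    ring
  -- the polynomial relation
  have hpoly : aeval (mat g) ((X - C 1) * ((X - C ζ) * (X - C ζ⁻¹)) : F[X]) = 0 := by
    have e1 : ((X - C 1) * ((X - C ζ) * (X - C ζ⁻¹)) : F[X]) = (X ^ 2 - C (ζ + ζ⁻¹) * X + 1) * (X - 1) := by
      have h3 : (C ζ * C ζ⁻¹ : F[X]) = 1 := by rw [← C_mul, mul_inv_cancel₀ h0, C_1]
      rw [C_1, C_add]
      linear_combination (X - 1 : F[X]) * h3
    rw [e1]
    apply Matrix.ext_of_mulVec_single
    intro i
    generalize (Pi.single i (1 : F) : Fin 3 → F) = x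
    rw [map_mul, Matrix.zero_mulVec, ← Matrix.mulVec_mulVec]
    have e2 : (aeval (mat g) (X - 1 : F[X])).mulVec x = act g x - x := by
      rw [map_sub, aeval_X, map_one, Matrix.sub_mulVec, Matrix.one_mulVec]
      rfl
    have e3 : ∀ y, (aeval (mat g) (X ^ 2 - C (ζ + ζ⁻¹) * X + 1 : F[X])).mulVec y =
        act g (act g y) - (ζ + ζ⁻¹) • act g y + y := by
      intro y
      rw [map_add, map_sub, map_mul, map_pow, aeval_X, aeval_C, map_one, Matrix.add_mulVec, Matrix.sub_mulVec,
        Matrix.one_mulVec, pow_two, ← Matrix.mulVec_mulVec, Algebra.algebraMap_eq_smul_one, Matrix.smul_mul,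
        Matrix.one_mul, Matrix.smul_mulVec]
      rfl
    rw [e2, e3]
    have e4 : act g x - x = (a * hermForm 3 F q x v) • v +
        (-(a * (hermForm 3 F q x w + a * hermForm 3 F q x v * κ))) • w := by
      rw [hact]
      funext i
      simp only [Pi.add_apply, Pi.sub_apply, Pi.smul_apply, smul_eq_mul]
      ring
    rw [e4]
    generalize a * hermForm 3 F q x v = c
    generalize (-(a * (hermForm 3 F q x w + c * κ))) = d
    rw [act_add, act_smul, act_smul, act_add, act_smul, act_smul]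
    have e5 : c • act g (act g v) + d • act g (act g w) - (ζ + ζ⁻¹) • (c • act g v + d • act g w) + (c • v + d • w) =
        c • (act g (act g v) - (ζ + ζ⁻¹) • act g v + v) + d • (act g (act g w) - (ζ + ζ⁻¹) • act g w + w) := by
      funext i
      simp only [Pi.add_apply, Pi.sub_apply, Pi.smul_apply, smul_eq_mul]
      ring
    rw [e5, hPv, hPw, smul_zero, smul_zero, add_zero]
  obtain ⟨Q, hQ⟩ := dvd_of_roots hk h0 h1 h2
  have h3 : aeval (mat g) (X ^ k - 1 : F[X]) = 0 := by rw [hQ, map_mul, hpoly, zero_mul]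
  rw [map_sub, map_pow, aeval_X, map_one, sub_eq_zero] at h3
  apply mat_injective
  have h4 : ∀ j : ℕ, mat (g ^ j) = mat g ^ j := by
    intro j
    induction j with
    | zero => rw [pow_zero, pow_zero]; rfl
    | succ j ih => rw [pow_succ, pow_succ, mat_mul, ih]
  rw [h4, h3]
  rfl

end Cfsg.Agent.H705.UOrd
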