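import Cfsg.Agent.H705.ComUArith
import Cfsg.Agent.H705.ComUOrd
import Cfsg.Agent.H705.ComPSU
import Cfsg.Agent.H705.ComTorus

/-!
# `PSU₃(q)`, `q = 2 ^ i + 1`, at the prime two (helper705)
-/

set_option autoImplicit false
set_option linter.unusedSectionVars false

namespace Cfsg.Agent.H705

open Cfsg Cfsg.Agent.LieRecognition.RankOneAbstract
open scoped Pointwise

section

variable {K : Type*} [Group K] {r : ℕ} {B U : Subgroup K} {w : K}
variable [Finite K] [hr : Fact r.Prime] (D : Data B U w) (P₀ : Sylow r K) (hP₀ : (P₀ : Subgroup K) = U)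

include D hP₀

theorem smul_syl (a : MulAut K) (g : K) (P : Sylow r K) : a • g • P = a g • a • P := by
  apply Sylow.ext
  show ((a • g • P : Sylow r K) : Subgroup K) = ((a g • a • P : Sylow r K) : Subgroup K)
  ext x
  rw [mem_smul_sylow, Sylow.pointwise_smul_def, Subgroup.mem_pointwise_smul_iff_inv_smul_mem,
    Sylow.pointwise_smul_def, Subgroup.mem_pointwise_smul_iff_inv_smul_mem]
  change a⁻¹ x ∈ ((g • P : Sylow r K) : Subgroup K) ↔ a⁻¹ ((a g)⁻¹ * x * a g) ∈ (P : Subgroup K)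
  rw [mem_smul_sylow, map_mul, map_mul, map_inv, MulAut.inv_apply_self]

theorem eq_one_of_fixed_syl (hU : U ≠ ⊥) [hs : IsSimpleGroup K] {p : ℕ} (hp : p.Prime) (hpr : p ≠ r) {a : MulAut K}
    (ha : Bad p a) (hreg : ∃ t ∈ B, w⁻¹ * t * w ∈ B ∧ ∀ u ∈ U, t * u * t⁻¹ = u → u = 1) {P : Sylow r K}
    (h : a • P = P) : a = 1 := by
  have hne : P₀ ≠ w • P₀ := (w_smul_ne D P₀ hP₀ hU).symm
  have hfaith := faithful_syl D P₀ hP₀ hU
  obtain ⟨t, ht, htw, htr⟩ := hreg
  exact (oneSyl D P₀ hP₀ hU).eq_one_of_fixed hr.out hp hpr ha (θ := fun P => a • P) (MulAction.injective a)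
    (fun g P => smul_syl D P₀ hP₀ a g P) h ⟨t, P₀, w • P₀, hne, fix_iff D P₀ hP₀ hU ht htw htr⟩

/-- an automorphism fixing a nontrivial `r`-element -/
theorem eq_one_of_fixed_elt (hU : U ≠ ⊥) [hs : IsSimpleGroup K] {p : ℕ} (hp : p.Prime) (hpr : p ≠ r) {a : MulAut K}
    (ha : Bad p a) (hreg : ∃ t ∈ B, w⁻¹ * t * w ∈ B ∧ ∀ u ∈ U, t * u * t⁻¹ = u → u = 1) {u : K} (hu : u ≠ 1) {k : ℕ}
    (huk : u ^ r ^ k = 1) (hau : a u = u) : a = 1 := by
  have h1 : IsPGroup r (Subgroup.zpowers u) := isPGroup_zpowers huk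
  obtain ⟨P, hP⟩ := h1.exists_le_sylow
  have huP : u ∈ (P : Subgroup K) := hP (Subgroup.mem_zpowers u)
  apply eq_one_of_fixed_syl D P₀ hP₀ hU hp hpr ha hreg (P := P)
  by_contra hne
  apply hu
  refine (oneSyl D P₀ hP₀ hU).free P (a • P) (Ne.symm hne) u huP ?_
  refine (oneSyl D P₀ hP₀ hU).fix (a • P) u ?_
  show u ∈ ((a • P : Sylow r K) : Subgroup K)
  rw [Sylow.pointwise_smul_def, Subgroup.mem_pointwise_smul_iff_inv_smul_mem]
  have h2 : a⁻¹ • u = u := by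
    conv_lhs => rw [← hau]
    exact MulAut.inv_apply_self K a u
  rw [h2]
  exact huP

end

namespace USpec

open Cfsg.Agent.LieClassical.HermBasic Cfsg.Agent.LieClassical.HermSiegel
open Cfsg.Agent.ClassicalGeometry.UnitAutBasic Cfsg.Agent.ClassicalGeometry.PSUAutCount
open Cfsg.Agent.HKS.EndU (tor)

variable {F : Type*} [Field F] [Fintype F] {q : ℕ}

/-- transvections have order dividing the characteristic -/
theorem tau_pow (hF : Fintype.card F = q ^ 2) {r : ℕ} [CharP F r] {v : Fin 3 → F} (hv : hermForm 3 F q v v = 0) :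
    tau hF v ^ r = 1 := by
  have h1 : ∀ k : ℕ, ∀ x, act (T hF v ^ k) x = x + ((k : F) * (c0 hF * hermForm 3 F q x v)) • v := by
    intro k
    induction k with
    | zero => intro x; rw [pow_zero, act_one]; simp
    | succ k ih =>
      intro x
      rw [pow_succ, act_mul, ih, act_T hF hv, herm_add_left, herm_smul_left, hv]
      funext i
      simp only [Pi.add_apply, Pi.smul_apply, smul_eq_mul]
      push_cast
      ring
  have h2 : T hF v ^ r = 1 := by
    apply ext_act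
    intro x
    rw [h1, act_one, CharP.cast_eq_zero, zero_mul, zero_smul, add_zero]
  rw [tau_def, ← map_pow, h2, map_one]

variable {r : ℕ} [hr : Fact r.Prime] [CharP F r]

/-- A bad automorphism fixing a transvection is trivial. -/
theorem eq_one_of_fixed_tau (hF : Fintype.card F = q ^ 2) (hq : 2 < q) [hfin : Finite (PSU 3 F q)]
    [hs : IsSimpleGroup (PSU 3 F q)] {p : ℕ} (hp : p.Prime) (hpr : p ≠ r) {a : MulAut (PSU 3 F q)} (ha : Bad p a)
    {v : Fin 3 → F} (hv0 : v ≠ 0) (hv : hermForm 3 F q v v = 0) (h : a (tau hF v) = tau hF v) : a = 1 := by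
  obtain ⟨σ, hσ, π, E⟩ := PSU.exists_mod F hF (by omega)
  obtain ⟨P₀, hP₀⟩ := E.exists_syl (r := r) (by omega)
  refine eq_one_of_fixed_elt E.data P₀ hP₀ (E.unip_ne (by omega)) hp hpr ha ?_ (u := tau hF v) (k := 1) ?_ ?_ h
  · obtain ⟨l₀, hl₀, hord, -⟩ := E.exists_generator (by omega)
    refine ⟨π (tor σ l₀), (PSU.two_mem l₀).1, (PSU.two_mem l₀).2, fun u hu hfix => E.regular ?_ hu hfix⟩
    intro h1
    have h2 : l₀ ^ (q + 1) = 1 := by
      apply Units.ext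
      rw [Units.val_pow_eq_pow_val, Units.val_one, pow_succ', ← E.pow, h1]
    have h3 := orderOf_dvd_of_pow_eq_one h2
    rw [hord] at h3
    have h4 := Nat.le_of_dvd (by omega) h3
    have h5 : 2 * (q + 1) ≤ (q - 1) * (q + 1) := Nat.mul_le_mul_right _ (by omega)
    omega
  · intro h1
    exact hv0 ((tau_eq_one_iff hF le_rfl hv).1 h1)
  · rw [pow_one]
    exact tau_pow hF hv

omit [Fintype F] in
theorem phi_ne {A : GU 3 F q} {ρ : F ≃+* F} {v : Fin 3 → F} (h : v ≠ 0) : TG.phi A ρ v ≠ 0 := by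
  intro h1
  apply h
  have h2 : (fun i => ρ (v i)) = 0 := by
    have := congrArg (fun y => Matrix.mulVec (gm A⁻¹) y) h1
    simp only [TG.phi, gm_inv_mulVec, Matrix.mulVec_zero] at this
    exact this
  funext i
  have := congrFun h2 i
  simpa using this

/-- `PSU₃(q)`: the isotropic points fixed by a bad automorphism. -/
theorem eq_one_of_herm_eq_zero (hF : Fintype.card F = q ^ 2) (hq : 2 < q) [hfin : Finite (PSU 3 F q)]
    [hs : IsSimpleGroup (PSU 3 F q)] {p : ℕ} (hp : p.Prime) (hpr : p ≠ r) {A : GU 3 F q} {ρ : F ≃+* F}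
    (ha : Bad p (toAut A ρ)) {v : Fin 3 → F} (hv0 : v ≠ 0) (hv : hermForm 3 F q v v = 0)
    (h : hermForm 3 F q v (TG.phi A ρ v) = 0) : toAut A ρ = 1 := by
  obtain ⟨c, hc0, hc⟩ := exists_r hF ρ
  have hφ : hermForm 3 F q (TG.phi A ρ v) (TG.phi A ρ v) = 0 := by rw [TG.herm_phi, hv, map_zero]
  have h1 : toAut A ρ (tau hF v) = tau hF (c • TG.phi A ρ v) := toAut_tau hF A ρ hc hv
  have h2 : hermForm 3 F q (c • TG.phi A ρ v) (c • TG.phi A ρ v) = 0 := iso_smul c hφ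
  have h3 : tau hF (c • TG.phi A ρ v) * tau hF v = tau hF v * tau hF (c • TG.phi A ρ v) := by
    rw [tau_comm_iff hF le_rfl h2 hv hv0, herm_smul_right, h, mul_zero]
  apply eq_one_of_fixed_tau hF hq hp hpr ha hv0 hv
  rcases ha (tau hF v) with h4 | h4
  · exact inv_mul_eq_one.1 h4
  · exfalso
    have h5 : ((toAut A ρ (tau hF v))⁻¹ * tau hF v) ^ r = 1 := by
      rw [h1]
      have h6 : Commute (tau hF (c • TG.phi A ρ v))⁻¹ (tau hF v) := (show Commute _ _ from h3).inv_left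
      rw [h6.mul_pow, inv_pow, tau_pow hF h2, tau_pow hF hv, inv_one, one_mul]
    have h6 := h4.trans (orderOf_dvd_of_pow_eq_one h5)
    exact hpr ((Nat.prime_dvd_prime_iff_eq hp hr.out).1 h6)

/-- **`PSU₃(2 ^ i + 1)` at the prime two**, `i ≥ 2`. -/
theorem com_two (hF : Fintype.card F = q ^ 2) {i : ℕ} (hq : q = 2 ^ i + 1) (hi : 2 ≤ i) [hfin : Finite (PSU 3 F q)]
    [hs : IsSimpleGroup (PSU 3 F q)] : Com 2 (PSU 3 F q) := by
  obtain ⟨-, hr, -⟩ := FiniteField.card F (ringChar F)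
  have hfr : Fact (ringChar F).Prime := ⟨by assumption⟩
  set r := ringChar F with hrdef
  have hch : CharP F r := ringChar.charP F
  obtain ⟨j, rfl⟩ : ∃ j, i = j + 2 := ⟨i - 2, by omega⟩
  have hj : 0 < 2 ^ j := pow_pos two_pos j
  have hq4 : q = 4 * 2 ^ j + 1 := by rw [hq, pow_add]; ring
  have hodd : Odd q := ⟨2 * 2 ^ j, by omega⟩
  have hq2 : 2 < q := by omega
  have hr2 : 2 ≠ r := by
    intro h2
    have hch2 : CharP F 2 := by rw [h2]; exact hch
    obtain ⟨n, -, hn⟩ := FiniteField.card F 2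
    rw [hF] at hn
    have h4 : Even (q ^ 2) := by rw [hn]; exact (Nat.even_pow' n.ne_zero).2 even_two
    exact (Nat.not_even_iff_odd.2 hodd.pow) h4
  rw [com_iff]
  intro α hα
  obtain ⟨A, ρ, rfl⟩ := ClassicalGeometry.PSUAutMain.exists_toAut hF le_rfl (by omega) α
  obtain ⟨c, hc0, hc⟩ := exists_r hF ρ
  by_contra hne
  have hno : ∀ v : Fin 3 → F, v ≠ 0 → hermForm 3 F q v v = 0 → hermForm 3 F q v (TG.phi A ρ v) ≠ 0 := by
    intro v hv0 hv h
    exact hne (eq_one_of_herm_eq_zero hF hq2 Nat.prime_two hr2 hα hv0 hv h)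
  set m := (q + 1) * (2 * 2 ^ j) with hm
  have hqm : q ^ 2 - 1 = 2 * m := by
    have : q ^ 2 = 2 * ((q + 1) * (2 * 2 ^ j)) + 1 := by rw [hq4]; ring
    omega
  have hboth := TG.exists_both hF hodd hqm A ρ hno
  obtain ⟨v, hv0, hv, l, hl0, ζ, hζk, hζ0, hζ1, hζ2, hD⟩ : ∃ v : Fin 3 → F, v ≠ 0 ∧ hermForm 3 F q v v = 0 ∧
      UArith.Good q ρ (c0 hF * ρ (c0 hF) * (hermForm 3 F q v (TG.phi A ρ v) * hermForm 3 F q v (TG.phi A ρ v) ^ q)) := by
    rcases UArith.dichotomy hF hq hi ρ with h | ⟨rfl, h⟩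
    · obtain ⟨v, hv0, hv, hvm⟩ := hboth.1
      exact ⟨v, hv0, hv, UArith.key1 hF hq4 ρ h (c0_ne_zero hF) (c0_pow hF) hqm (hno v hv0 hv) hvm⟩
    · obtain ⟨v, hv0, hv, hvm⟩ := hboth.2
      have hm40 : m = 40 := by omega
      rw [hm40] at hvm
      exact ⟨v, hv0, hv, UArith.key2 hF ρ h (c0_ne_zero hF) (c0_pow hF) hvm⟩
  set t := hermForm 3 F q v (TG.phi A ρ v) with ht
  have ht0 : t ≠ 0 := hno v hv0 hv
  have hv' : hermForm 3 F q (l • v) (l • v) = 0 := iso_smul l hv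
  have hφ : hermForm 3 F q (TG.phi A ρ (l • v)) (TG.phi A ρ (l • v)) = 0 := by rw [TG.herm_phi, hv', map_zero]
  have h1 : toAut A ρ (tau hF (l • v)) = tau hF (c • TG.phi A ρ (l • v)) := toAut_tau hF A ρ hc hv'
  have h2 : hermForm 3 F q (c • TG.phi A ρ (l • v)) (c • TG.phi A ρ (l • v)) = 0 := iso_smul c hφ
  have hκ : hermForm 3 F q (l • v) (c • TG.phi A ρ (l • v)) = l * (c ^ q * (ρ l ^ q * t)) := by
    rw [TG.phi_smul, herm_smul_left, herm_smul_right, herm_smul_right]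
  have hκ0 : l * (c ^ q * (ρ l ^ q * t)) ≠ 0 := by
    have hρl : ρ l ≠ 0 := fun h => hl0 ((map_eq_zero ρ).1 h)
    exact mul_ne_zero hl0 (mul_ne_zero (pow_ne_zero _ hc0) (mul_ne_zero (pow_ne_zero _ hρl) ht0))
  have h3 : ((T hF (c • TG.phi A ρ (l • v)))⁻¹ * T hF (l • v)) ^ ((q + 1) / 2) = 1 := by
    apply UOrd.pow_eq_one hF hv' h2 hζk hζ0 hζ1 hζ2
    rw [← hD, hκ]
    congr 1
    have e1 : (l * (c ^ q * (ρ l ^ q * t))) ^ q = l ^ q * (c * (ρ l * t ^ q)) := by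
      rw [mul_pow, mul_pow, mul_pow, pow_q_pow_q hF, pow_q_pow_q hF]
    rw [e1, ← hc]
    ring
  have h4 : ((toAut A ρ (tau hF (l • v)))⁻¹ * tau hF (l • v)) ^ ((q + 1) / 2) = 1 := by
    rw [h1, tau_def, tau_def, ← map_inv, ← map_mul, ← map_pow, h3, map_one]
  rcases hα (tau hF (l • v)) with h5 | h5
  · have h6 : tau hF (c • TG.phi A ρ (l • v)) = tau hF (l • v) := by
      rw [← h1]
      exact inv_mul_eq_one.1 h5
    have hne' : c • TG.phi A ρ (l • v) ≠ 0 := smul_ne_zero hc0 (phi_ne (smul_ne_zero hl0 hv0))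
    obtain ⟨z, -, hz⟩ := (tau_eq_tau_iff hF le_rfl h2 hv' hne').1 h6
    apply hκ0
    rw [← hκ]
    have key : ∀ x w : Fin 3 → F, x = z • w → hermForm 3 F q w w = 0 → hermForm 3 F q x w = 0 := by
      intro x w h7 h8
      rw [h7, herm_smul_left, h8, mul_zero]
    exact key _ _ hz h2
  · have h6 := h5.trans (orderOf_dvd_of_pow_eq_one h4)
    omega

end USpec

end Cfsg.Agent.H705
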