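import Cfsg.Agent.H372.FourList
import Cfsg.Agent.H374.EightExc
import Cfsg.Agent.H374.SpFour
import Cfsg.Prelude.Def_LieTypeChar

/-!
# Elements of even order not in `{2, 4, 2 r}` in the known simple groups

`Wide S` : there is an element `g` with `4 ∣ orderOf g ≠ 4`, or with `orderOf g = 2 m`, `m > 1` odd and not prime.
* `known` : every known simple group is `Wide` unless it is in a short list (all characteristics).
* `lie_two` : the groups of Lie type in characteristic two (explicit exceptions).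
-/

set_option autoImplicit false

namespace Cfsg.Agent.H705.L2

open Cfsg Cfsg.Agent.H372

/-- Some element has order `4 k`, `k > 1`, or `2 m` with `m > 1` odd and not prime. -/
def Wide (S : Type*) [Group S] : Prop :=
  ∃ g : S, (4 ∣ orderOf g ∧ orderOf g ≠ 4 ∧ orderOf g ≠ 0) ∨
    ∃ m : ℕ, 1 < m ∧ Odd m ∧ ¬ m.Prime ∧ orderOf g = 2 * m

variable {S : Type*} [Group S]

theorem wide_of_bad (h : Bad S) : Wide S := by
  obtain ⟨g, h1, h2, h3⟩ := h
  exact ⟨g, Or.inl ⟨h1, h2, h3⟩⟩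

theorem wide_of_eight (h : ∃ x : S, orderOf x = 8) : Wide S := wide_of_bad (bad_of_eight h)

/-- the order of a `Wide` element, negative form -/
theorem Wide.exists_ne (h : Wide S) : ∃ g : S, 2 ∣ orderOf g ∧ orderOf g ≠ 2 ∧ orderOf g ≠ 4 ∧
    ∀ r : ℕ, r.Prime → orderOf g ≠ 2 * r := by
  obtain ⟨g, ⟨h1, h2, h3⟩ | ⟨m, hm1, hm2, hm3, h⟩⟩ := h
  · refine ⟨g, (by norm_num : (2 : ℕ) ∣ 4).trans h1, ?_, h2, ?_⟩
    · intro h; rw [h] at h1; revert h1; norm_num
    · intro r hr h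
      rw [h] at h1 h2
      have h4 : 2 * 2 ∣ 2 * r := h1
      have h5 : 2 ∣ r := Nat.dvd_of_mul_dvd_mul_left (by norm_num) h4
      have h6 : r = 2 := ((Nat.prime_dvd_prime_iff_eq Nat.prime_two hr).1 h5).symm
      omega
  · refine ⟨g, ⟨m, h⟩, ?_, ?_, ?_⟩
    · omega
    · intro h4
      have : m = 2 := by omega
      subst this
      exact absurd hm2 (by decide)
    · intro r hr h5
      have : m = r := by omega
      exact hm3 (this ▸ hr)

/-- `2 ^ f ∓ 1`, one of them composite. -/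
theorem arith {f : ℕ} (hf : 3 ≤ f) : ∃ m : ℕ, 1 < m ∧ Odd m ∧ ¬ m.Prime ∧ (m = 2 ^ f - 1 ∨ m = 2 ^ f + 1) := by
  have h8 : 8 ≤ 2 ^ f := by
    calc 8 = 2 ^ 3 := by norm_num
      _ ≤ 2 ^ f := Nat.pow_le_pow_right (by norm_num) hf
  have he : 2 ∣ 2 ^ f := dvd_pow_self 2 (by omega)
  have h3 : ¬ 3 ∣ 2 ^ f := by
    intro h
    have := Nat.Prime.dvd_of_dvd_pow (by norm_num : Nat.Prime 3) h
    omega
  generalize 2 ^ f = N at h8 he h3 ⊢
  have hcase : 3 ∣ N - 1 ∨ 3 ∣ N + 1 := by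
    clear he
    have h3' : N % 3 = 1 ∨ N % 3 = 2 := by omega
    rcases h3' with h | h
    · left; omega
    · right; omega
  rcases hcase with h | h
  · refine ⟨N - 1, by omega, ?_, ?_, Or.inl rfl⟩
    · rw [Nat.odd_iff]; omega
    · intro hp
      have := (Nat.prime_dvd_prime_iff_eq (by norm_num : Nat.Prime 3) hp).1 h
      omega
  · refine ⟨N + 1, by omega, ?_, ?_, Or.inr rfl⟩
    · rw [Nat.odd_iff]; omega
    · intro hp
      have := (Nat.prime_dvd_prime_iff_eq (by norm_num : Nat.Prime 3) hp).1 h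
      omega

/-- `PSp₄(2^f)`, `f ≥ 3`. -/
theorem wide_psp_two {F : Type*} [Field F] [Fintype F] (h2 : (2 : F) = 0) (h5 : 5 ≤ Fintype.card F) :
    Wide (PSp 2 F) := by
  have hch : CharP F 2 := CharTwo.of_one_ne_zero_of_two_eq_zero one_ne_zero h2
  obtain ⟨f, -, hcard⟩ := FiniteField.card F 2
  have hf : 3 ≤ (f : ℕ) := by
    by_contra hcon
    have : (2 : ℕ) ^ (f : ℕ) ≤ 2 ^ 2 := Nat.pow_le_pow_right (by norm_num) (by omega)
    omega
  obtain ⟨m, hm1, hm2, hm3, hm⟩ := arith hf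
  have hr : ringChar F = 2 := ringChar.eq F 2
  have h1 : 2 * m ∈ Set.range (orderOf : PSp 2 F → ℕ) := by
    rw [H374.SpFour.mem_range_iff (by omega), hr, hcard]
    rcases hm with h | h
    · left; rw [h]
    · right; left; rw [h]
  obtain ⟨g, hg⟩ := h1
  exact ⟨g, Or.inr ⟨m, hm1, hm2, hm3, hg⟩⟩

theorem Wide.of_equiv {T : Type*} [Group T] (e : S ≃* T) (h : Wide T) : Wide S := by
  obtain ⟨g, hg⟩ := h
  refine ⟨e.symm g, ?_⟩
  rw [MulEquiv.orderOf_eq]
  exact hg

/-- **The known simple groups that are not `Wide`** (any characteristic). -/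
theorem known (hk : IsKnownSimple' S) (hw : ¬ Wide S) :
    (Nat.card S).Prime ∨
    (∃ n : ℕ, 5 ≤ n ∧ n ≤ 8 ∧ Nonempty (S ≃* alternatingGroup (Fin n))) ∨
    (∃ (F : Type) (_ : Field F) (_ : Fintype F), 4 ≤ Fintype.card F ∧
      Nonempty (S ≃* Matrix.ProjectiveSpecialLinearGroup (Fin 2) F)) ∨
    (∃ (F : Type) (_ : Field F) (_ : Fintype F), (2 : F) = 0 ∧
      Nonempty (S ≃* Matrix.ProjectiveSpecialLinearGroup (Fin 3) F)) ∨
    (∃ (F : Type) (_ : Field F) (_ : Fintype F), Fintype.card F = 2 ∧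
      Nonempty (S ≃* Matrix.ProjectiveSpecialLinearGroup (Fin 4) F)) ∨
    (∃ (F : Type) (_ : Field F) (_ : Fintype F) (k : ℕ), Fintype.card F = (2 ^ k) ^ 2 ∧ 2 ≤ k ∧
      Nonempty (S ≃* PSU 3 F (2 ^ k))) ∨
    (∃ (F : Type) (_ : Field F) (_ : Fintype F), Fintype.card F = 4 ∧ Nonempty (S ≃* PSp 2 F)) ∨
    Lie.IsoSuzuki S ∨ Lie.IsoRee S ∨ IsSporadicGroup S := by
  have hb : ¬ Bad S := fun h => hw (wide_of_bad h)
  rcases listed_of_not_bad hk (fun h => (H374.EightExc.exceptional h).imp_left bad_of_eight) hb with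
    h | h | h | h | h | h | h | h | h | h
  · exact Or.inl h
  · exact Or.inr (Or.inl h)
  · exact Or.inr (Or.inr (Or.inl h))
  · exact Or.inr (Or.inr (Or.inr (Or.inl h)))
  · exact Or.inr (Or.inr (Or.inr (Or.inr (Or.inl h))))
  · exact Or.inr (Or.inr (Or.inr (Or.inr (Or.inr (Or.inl h)))))
  · obtain ⟨F, _, _, h2, h4, ⟨e⟩⟩ := h
    refine Or.inr (Or.inr (Or.inr (Or.inr (Or.inr (Or.inr (Or.inl ⟨F, inferInstance, inferInstance, ?_, ⟨e⟩⟩))))))
    by_contra hne
    exact hw ((wide_psp_two h2 (by omega)).of_equiv e)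
  · exact Or.inr (Or.inr (Or.inr (Or.inr (Or.inr (Or.inr (Or.inr (Or.inl h)))))))
  · exact Or.inr (Or.inr (Or.inr (Or.inr (Or.inr (Or.inr (Or.inr (Or.inr (Or.inl h))))))))
  · exact Or.inr (Or.inr (Or.inr (Or.inr (Or.inr (Or.inr (Or.inr (Or.inr (Or.inr h))))))))

theorem two_eq_zero_of_charP {F : Type*} [Field F] [CharP F 2] : (2 : F) = 0 := by
  exact_mod_cast CharP.cast_eq_zero F 2

/-- **The groups of Lie type in characteristic two that are not `Wide`.** -/
theorem lie_two (hl : IsLieTypeChar 2 S) (hw : ¬ Wide S) :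
    (∃ (F : Type) (_ : Field F) (_ : Fintype F), (2 : F) = 0 ∧ 4 ≤ Fintype.card F ∧
      Nonempty (S ≃* Matrix.ProjectiveSpecialLinearGroup (Fin 2) F)) ∨
    (∃ (F : Type) (_ : Field F) (_ : Fintype F), (2 : F) = 0 ∧
      Nonempty (S ≃* Matrix.ProjectiveSpecialLinearGroup (Fin 3) F)) ∨
    (∃ (F : Type) (_ : Field F) (_ : Fintype F), Fintype.card F = 2 ∧
      Nonempty (S ≃* Matrix.ProjectiveSpecialLinearGroup (Fin 4) F)) ∨
    (∃ (F : Type) (_ : Field F) (_ : Fintype F) (k : ℕ), Fintype.card F = (2 ^ k) ^ 2 ∧ 2 ≤ k ∧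
      Nonempty (S ≃* PSU 3 F (2 ^ k))) ∨
    (∃ (F : Type) (_ : Field F) (_ : Fintype F), Fintype.card F = 4 ∧ Nonempty (S ≃* PSp 2 F)) ∨
    Lie.IsoSuzuki S := by
  have h8 : ¬ ∃ x : S, orderOf x = 8 := fun h => hw (wide_of_eight h)
  have hb : ¬ Bad S := fun h => hw (wide_of_bad h)
  rcases hl with h | h | h | h | h | h | h | h | h | h | h
  · obtain ⟨F, _, _, _, n, hn, h4, ⟨e⟩⟩ := h
    have h2 : (2 : F) = 0 := two_eq_zero_of_charP
    rcases Nat.lt_or_ge n 5 with h5 | h5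
    · have : n = 2 ∨ n = 3 ∨ n = 4 := by omega
      rcases this with rfl | rfl | rfl
      · exact Or.inl ⟨F, inferInstance, inferInstance, h2, h4 rfl, ⟨e⟩⟩
      · exact Or.inr (Or.inl ⟨F, inferInstance, inferInstance, h2, ⟨e⟩⟩)
      · by_cases hc : Fintype.card F = 2
        · exact Or.inr (Or.inr (Or.inl ⟨F, _, _, hc, ⟨e⟩⟩))
        · exact absurd ((bad_psl_four (exists_ne_one_of_card hc)).of_equiv e.symm) hb
    · exact absurd (exists_eight_of_equiv e (exists_eight_psl_even h2 h5)) h8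
  · obtain ⟨F, _, _, _, m, hm, h3, ⟨e⟩⟩ := h
    have h2 : (2 : F) = 0 := two_eq_zero_of_charP
    rcases Nat.lt_or_ge m 3 with h5 | h5
    · obtain rfl : m = 2 := by omega
      have h6 := card_ne_three_of_two h2
      have h7 := h3 rfl
      refine Or.inr (Or.inr (Or.inr (Or.inr (Or.inl ⟨F, inferInstance, inferInstance, ?_, ⟨e⟩⟩))))
      by_contra hne
      exact hw ((wide_psp_two h2 (by omega)).of_equiv e)
    · exact absurd (exists_eight_of_equiv e (exists_eight_psp_even h5)) h8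
  · obtain ⟨F, _, _, hch, n, q, hF, hn, h32, ⟨e⟩⟩ := h
    have h2 : (2 : F) = 0 := two_eq_zero_of_charP
    rcases Nat.lt_or_ge n 4 with h5 | h5
    · obtain rfl : n = 3 := by omega
      obtain ⟨p, k, hp, hchp, hq, hk⟩ := Cfsg.Agent.LieClassical.HermBasic.exists_prime_pow hF
      have hp2 : p = 2 := CharP.eq F hchp hch
      subst hp2
      have hk2 : 2 ≤ k := by
        by_contra hcon
        apply h32
        refine ⟨rfl, ?_⟩
        rw [hq, show k = 1 by omega]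
        norm_num
      subst hq
      exact Or.inr (Or.inr (Or.inr (Or.inl ⟨F, inferInstance, inferInstance, k, hF, hk2, ⟨e⟩⟩)))
    · exact absurd ((bad_psu_even hF h2 h5).of_equiv e.symm) hb
  · obtain ⟨F, _, _, _, m, hm, hodd, ⟨e⟩⟩ := h
    exact absurd two_eq_zero_of_charP (two_ne_zero_of_odd hodd)
  · obtain ⟨F, _, _, _, m, hm, ⟨e⟩⟩ := h
    exact absurd (exists_eight_isPOmegaPlus ⟨F, inferInstance, inferInstance, m, hm, ⟨e⟩⟩) h8
  · obtain ⟨F, _, _, _, m, a, b, hm, hab, ⟨e⟩⟩ := h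
    exact absurd (exists_eight_isPOmegaMinus ⟨F, inferInstance, inferInstance, m, a, b, hm, hab, ⟨e⟩⟩) h8
  · obtain ⟨F, _, _, _, h | h | h | h | h⟩ := h
    · exact absurd (H374.EightExc.transfer (H374.EightExcTwoRows.G2 F) h.2) h8
    · exact absurd (H374.EightExc.transfer (H374.EightExcTwoRows.F4 F) h) h8
    · exact absurd (H374.EightExc.transfer (H374.EightExcTwoRows.E6 F) h) h8
    · exact absurd (H374.EightExc.transfer (H374.EightExcTwoRows.E7 F) h) h8
    · exact absurd (H374.EightExc.transfer (H374.EightExcTwoRows.E8 F) h) h8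
  · obtain ⟨K, _, _, _, q, hq, ⟨-, h⟩ | ⟨-, h⟩⟩ := h
    · exact absurd (H374.EightExc.transfer (H374.EightExcTwoRows.twE6 K q) h) h8
    · exact absurd (H374.EightExc.transfer (H374.EightExcTwoRows.twD4 K q) h) h8
  · exact Or.inr (Or.inr (Or.inr (Or.inr (Or.inr h.2))))
  · exact absurd (H374.EightExc.twF4 h.2) h8
  · exact absurd h.1 (by norm_num)

end Cfsg.Agent.H705.L2
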